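import Cfsg.Agent.L.Sz.Fix2

/-! Automorphisms of the Suzuki groups. -/

set_option autoImplicit false

namespace CfsgL.Sz

open Subgroup

variable {F : Type*} [Field F] [Fintype F] {m : ℕ} [CharP F 2] [hF : Fact (Fintype.card F = 2 ^ (2 * m + 1))]

/-! ### field automorphisms -/

omit [Fintype F] hF in
theorem tau_sg (τ : F ≃+* F) (x : F) : τ (sg F m x) = sg F m (τ x) := by
  rw [sg_apply, sg_apply, map_pow]

omit [Fintype F] hF in
theorem tau_zz (τ : F ≃+* F) (a b : F) : τ (zz m a b) = zz m (τ a) (τ b) := by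
  rw [zz_def, zz_def, map_add, map_add, map_mul, map_mul, map_pow, tau_sg, tau_sg]

/-- entrywise application -/
def slmap (τ : F ≃+* F) : Matrix.SpecialLinearGroup (Fin 4) F →* Matrix.SpecialLinearGroup (Fin 4) F :=
  Matrix.SpecialLinearGroup.map (τ : F →+* F)

omit [Fintype F] [CharP F 2] hF in
theorem slmap_apply (τ : F ≃+* F) (g : Matrix.SpecialLinearGroup (Fin 4) F) (i j : Fin 4) :
    (slmap τ g).1 i j = τ (g.1 i j) := rfl

omit [Fintype F] hF in
theorem slmap_U (τ : F ≃+* F) (a b : F) : slmap τ (U m a b) = U m (τ a) (τ b) := by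
  apply Subtype.ext
  ext i j
  rw [slmap_apply]
  fin_cases i <;> fin_cases j <;> simp [U, tau_sg, tau_zz]

omit [Fintype F] hF in
theorem slmap_H (τ : F ≃+* F) (j : Fˣ) : slmap τ (H m j) = H m (Units.map (τ : F →* F) j) := by
  apply Subtype.ext
  ext i k
  rw [slmap_apply]
  fin_cases i <;> fin_cases k <;> simp [H, tau_sg, Matrix.diagonal]

omit [Fintype F] [CharP F 2] hF in
theorem slmap_W (τ : F ≃+* F) : slmap τ (W F) = W F := by
  apply Subtype.ext
  ext i j
  rw [slmap_apply]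
  fin_cases i <;> fin_cases j <;> simp [W]

section
variable [hm : Fact (1 ≤ m)]

theorem slmap_mem (τ : F ≃+* F) {g : Matrix.SpecialLinearGroup (Fin 4) F} (hg : g ∈ Cfsg.Sz F m) :
    slmap τ g ∈ Cfsg.Sz F m := by
  obtain ⟨g', hg'⟩ : ∃ g' : Gz F m, g'.1 = g := ⟨⟨g, hg⟩, rfl⟩
  rw [← hg']
  by_cases hB : g' ∈ BB F m
  · obtain ⟨a, b, j, rfl⟩ := mem_BB'.1 hB
    change slmap τ (U m a b * H m j) ∈ _
    rw [map_mul, slmap_U, slmap_H]
    exact mul_mem (U_mem _ _) (H_mem _)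
  · obtain ⟨x, y, a, b, j, rfl⟩ := bruhat hB
    change slmap τ (U m x y * W F * (U m a b * H m j)) ∈ _
    rw [map_mul, map_mul, map_mul, slmap_U, slmap_H, slmap_U, slmap_W]
    exact mul_mem (mul_mem (U_mem _ _) W_mem) (mul_mem (U_mem _ _) (H_mem _))

variable (m) in
/-- the field automorphism of the group -/
def fa (τ : F ≃+* F) : MulAut (Gz F m) where
  toFun g := ⟨slmap τ g.1, slmap_mem τ g.2⟩
  invFun g := ⟨slmap τ.symm g.1, slmap_mem τ.symm g.2⟩
  left_inv g := by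
    apply Subtype.ext
    apply Subtype.ext
    ext i j
    change τ.symm (τ (g.1.1 i j)) = _
    rw [τ.symm_apply_apply]
  right_inv g := by
    apply Subtype.ext
    apply Subtype.ext
    ext i j
    change τ (τ.symm (g.1.1 i j)) = _
    rw [τ.apply_symm_apply]
  map_mul' g h := Subtype.ext (map_mul (slmap τ) _ _)

theorem fa_u (τ : F ≃+* F) (a b : F) : fa m τ (u m a b) = u m (τ a) (τ b) := Subtype.ext (slmap_U τ a b)

theorem fa_hh (τ : F ≃+* F) (j : Fˣ) : fa m τ (hh m j) = hh m (Units.map (τ : F →* F) j) :=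
  Subtype.ext (slmap_H τ j)

theorem fa_ww (τ : F ≃+* F) : fa m τ (ww F m) = ww F m := Subtype.ext (slmap_W τ)

variable (F m) in
/-- the homomorphism from field automorphisms -/
def faHom : RingAut F →* MulAut (Gz F m) where
  toFun τ := fa m τ
  map_one' := by
    apply MulEquiv.ext
    intro g
    rfl
  map_mul' τ ρ := by
    apply MulEquiv.ext
    intro g
    rfl

/-- a field automorphism acting as an inner automorphism is trivial -/
theorem fa_inner {τ : F ≃+* F} {x : Gz F m} (h : ∀ g, fa m τ g = x * g * x⁻¹) : τ = RingEquiv.refl F := by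
  have h1 : x ∈ QQ F m := by
    have hu : u m (1 : F) 0 ≠ 1 := fun h => one_ne_zero (u_ne_one h).1
    apply cent_QQ (u_mem_QQ 1 0) hu
    have := h (u m 1 0)
    rw [fa_u, map_one, map_zero] at this
    rw [eq_mul_inv_iff_mul_eq] at this
    exact this.symm
  have h2 : x • pzero F m = pzero F m := by
    have h3 := h (ww F m)
    rw [fa_ww, eq_mul_inv_iff_mul_eq] at h3
    rw [← ww_inf, ← mul_smul, ← h3, mul_smul, mem_BB.1 (QQ_le_BB h1)]
  have hx : x = 1 := by
    obtain ⟨a, b, rfl⟩ := h1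
    by_contra hne
    exact pp_ne_inf _ _ (u_conj_fix hne h2)
  apply RingEquiv.ext
  intro a
  have h4 := h (u m a 0)
  rw [fa_u, hx, one_mul, inv_one, mul_one] at h4
  exact (u_inj h4).1

/-! ### normalizing an automorphism -/

theorem ZQ_comm_QQ {z v : Gz F m} (hz : z ∈ ZQ F m) (hv : v ∈ QQ F m) : z * v = v * z := by
  obtain ⟨b, rfl⟩ := hz
  obtain ⟨c, d, rfl⟩ := hv
  rw [u_mul, u_mul, map_zero, mul_zero, zero_mul, add_comm c 0, add_comm d b]

theorem aut_step1 (α : MulAut (Gz F m)) : ∃ x : Gz F m, ∀ g, g ∈ QQ F m ↔ (MulAut.conj x * α) g ∈ QQ F m := by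
  have hcard : Nat.card ((QQ F m).map α.toMonoidHom) = Nat.card F ^ 2 := by
    rw [← card_QQ (F := F) (m := m)]
    exact (Nat.card_congr ((QQ F m).equivMapOfInjective α.toMonoidHom α.injective).toEquiv).symm
  have hindex : ((QQ F m).map α.toMonoidHom).index = (QQ F m).index := by
    have h1 := index_mul_card ((QQ F m).map α.toMonoidHom)
    have h2 := index_mul_card (QQ F m)
    rw [hcard, ← h2, card_QQ] at h1
    exact Nat.eq_of_mul_eq_mul_right (pow_pos Nat.card_pos 2) h1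
  have hP : IsPGroup 2 ((QQ F m).map α.toMonoidHom) := isPGroup_QQ.map _
  let S : Sylow 2 (Gz F m) := hP.toSylow (by rw [hindex]; exact not_two_dvd_index)
  obtain ⟨x, hx⟩ := sylow_conj S
  refine ⟨x, fun g => ?_⟩
  have h1 : g ∈ QQ F m ↔ α g ∈ S := by
    constructor
    · intro h; exact ⟨g, h, rfl⟩
    · rintro ⟨k, hk, hk'⟩
      have : k = g := α.injective hk'
      rwa [← this]
  rw [h1, hx]; exact Iff.rfl

theorem aut_BB {α : MulAut (Gz F m)} (hα : ∀ g, g ∈ QQ F m ↔ α g ∈ QQ F m) (g : Gz F m) :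
    g ∈ BB F m ↔ α g ∈ BB F m := by
  rw [← norm_QQ, mem_nrm, mem_nrm]
  constructor
  · intro h t
    obtain ⟨s, rfl⟩ := α.surjective t
    rw [← hα, h s, hα, map_mul, map_mul, map_inv]
  · intro h t
    rw [hα, h (α t), hα (g * t * g⁻¹), map_mul, map_mul, map_inv]

theorem aut_step2 {α : MulAut (Gz F m)} (hα : ∀ g, g ∈ QQ F m ↔ α g ∈ QQ F m) :
    ∃ x : Gz F m, (∀ g, g ∈ QQ F m ↔ (MulAut.conj x * α) g ∈ QQ F m) ∧
      ∀ g, g ∈ KK F m ↔ (MulAut.conj x * α) g ∈ KK F m := by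
  obtain ⟨j, hj⟩ := exists_j (F := F) (m := m)
  have hj1 : hh m j ≠ 1 := fun h => hj (hh_inj (m := m) (by rw [h, hh_one]))
  have hαj1 : α (hh m j) ≠ 1 := fun h => hj1 (α.injective (by rw [h, map_one]))
  have hαo : Odd (orderOf (α (hh m j))) := by
    have h1 : orderOf (α (hh m j)) = orderOf (hh m j) := MulEquiv.orderOf_eq α _
    have h2 : orderOf (hh m j) ∣ Nat.card F - 1 := orderOf_dvd_of_pow_eq_one (hh_pow_card j)
    have h3 : Odd (Nat.card F - 1) := by
      obtain ⟨k, hk⟩ := card_F_even (F := F) (m := m)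
      have := card_F_ge (F := F) (m := m)
      exact ⟨k - 1, by omega⟩
    rw [h1]; exact h3.of_dvd_nat h2
  have hαB : α (hh m j) ∈ BB F m := (aut_BB hα _).1 (KK_le_BB (mem_KK.2 ⟨j, rfl⟩))
  -- a second fixed point
  obtain ⟨p, hp, hpf⟩ : ∃ p : Om F m, p ≠ pinf F m ∧ α (hh m j) • p = p := by
    rcases tri (α (hh m j)) with ⟨x, a, b, h⟩ | ⟨x, i, hi, h⟩ | h
    · exfalso
      refine odd_not_QQ (x := x⁻¹) hαj1 hαo ?_
      rw [h]
      have : x⁻¹ * (x * u m a b * x⁻¹) * x⁻¹⁻¹ = u m a b := by group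
      rw [this]; exact u_mem_QQ a b
    · by_cases h0 : x • pinf F m = pinf F m
      · refine ⟨x • pzero F m, ?_, ?_⟩
        · intro h2
          rw [← h0] at h2
          exact pp_ne_inf _ _ (smul_left_cancel _ h2)
        · rw [h, mul_smul, mul_smul, inv_smul_smul, hh_zero]
      · refine ⟨x • pinf F m, h0, ?_⟩
        rw [h, mul_smul, mul_smul, inv_smul_smul, hh_inf]
    · exact absurd (mem_BB.1 hαB) (h _)
  obtain ⟨a, b, rfl⟩ := exists_pp hp
  obtain ⟨x, hx⟩ : ∃ x, x = (u m a b)⁻¹ := ⟨_, rfl⟩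
  have hxQ : x ∈ QQ F m := by rw [hx]; exact inv_mem (u_mem_QQ _ _)
  have hQ : ∀ g, g ∈ QQ F m ↔ (MulAut.conj x * α) g ∈ QQ F m := by
    intro g
    rw [hα]
    change _ ↔ x * α g * x⁻¹ ∈ QQ F m
    constructor
    · intro h; exact mul_mem (mul_mem hxQ h) (inv_mem hxQ)
    · intro h
      have := mul_mem (mul_mem (inv_mem hxQ) h) hxQ
      have h2 : x⁻¹ * (x * α g * x⁻¹) * x = α g := by group
      rwa [h2] at this
  refine ⟨x, hQ, ?_⟩
  -- image of `hh j`
  have hxj : ∃ i, (MulAut.conj x * α) (hh m j) = hh m i := by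
    apply fix_two'
    · exact mem_BB.1 ((aut_BB hQ _).1 (KK_le_BB (mem_KK.2 ⟨j, rfl⟩)))
    · change (x * α (hh m j) * x⁻¹) • pzero F m = pzero F m
      rw [hx, inv_inv, mul_smul, mul_smul, u_smul_zero, hpf, ← u_smul_zero, inv_smul_smul]
  obtain ⟨i, hi⟩ := hxj
  have hi1 : i ≠ 1 := by
    rintro rfl
    rw [hh_one] at hi
    apply hj1
    exact (MulAut.conj x * α).injective (by rw [hi, map_one])
  intro g
  rw [← cent_hh hj]
  have h1 : (MulAut.conj x * α) g ∈ centralizer {hh m j} ↔ (MulAut.conj x * α) g ∈ centralizer {hh m i} := by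
    rw [cent_hh hj, cent_hh hi1]
  rw [h1, mem_centralizer_singleton_iff, mem_centralizer_singleton_iff, ← hi, ← map_mul, ← map_mul]
  exact ⟨fun h => by rw [h], fun h => (MulAut.conj x * α).injective h⟩

end

end CfsgL.Sz
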