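import Cfsg.Agent.L.Sz.Part

/-! Elements of odd prime order of a Suzuki group have no eigenvalue 1. -/

set_option autoImplicit false

namespace CfsgL.Sz

open Subgroup

variable {F : Type*} [Field F] [Fintype F] {m : ℕ} [CharP F 2] [hF : Fact (Fintype.card F = 2 ^ (2 * m + 1))]

section
variable [hm : Fact (1 ≤ m)]

omit hm in
theorem j_eq_one_of_sg1 {j : Fˣ} (h : sg F m (j : F) * (j : F) = 1) : j = 1 := by
  apply j_eq_one_of_sg2 (m := m)
  have h1 : sg F m (sg F m (j : F) * (j : F)) = 1 := by rw [h, map_one]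
  rw [map_mul, sg_sg] at h1
  rw [mul_comm]; exact h1

omit hm in
theorem hh_eig {j : Fˣ} (hj : j ≠ 1) {v : Fin 4 → F} (hv : (H m j).1.mulVec v = v) : v = 0 := by
  have e0 := congrFun hv 0
  have e1 := congrFun hv 1
  have e2 := congrFun hv 2
  have e3 := congrFun hv 3
  simp [H, Matrix.mulVec_diagonal] at e0 e1 e2 e3
  have h1 : (j : F) ≠ 1 := fun h => hj (Units.ext (by rw [h, Units.val_one]))
  have h2 : sg F m (j : F) * j ≠ 1 := fun h => hj (j_eq_one_of_sg1 h)
  have hj0 : (j : F) ≠ 0 := j.ne_zero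
  have hsj0 : sg F m (j : F) ≠ 0 := by rwa [Ne, sg_eq_zero]
  have key : ∀ c w : F, c ≠ 1 → c * w = w → w = 0 := by
    intro c w hc h
    by_contra hw
    exact hc (mul_right_cancel₀ hw (h.trans (one_mul w).symm))
  have z0 : v 0 = 0 := key _ _ h2 e0
  have z1 : v 1 = 0 := key _ _ h1 e1
  have z2 : v 2 = 0 := key _ _ (fun h => h1 (inv_eq_one.1 h)) e2
  have z3 : v 3 = 0 := key _ _ (fun h => h2 (by
    have h4 : ((j : F)⁻¹ * (sg F m (j : F))⁻¹)⁻¹ = 1 := by rw [h, inv_one]
    rw [mul_inv, inv_inv, inv_inv] at h4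
    rw [mul_comm]; exact h4)) e3
  funext i
  fin_cases i
  · exact z0
  · exact z1
  · exact z2
  · exact z3

theorem no_eig {g : Gz F m} {s : ℕ} (hs : s.Prime) (hs2 : s ≠ 2) (hg : orderOf g = s) {v : Fin 4 → F}
    (hv : g.1.1.mulVec v = v) : v = 0 := by
  have hg1 : g ≠ 1 := by
    rintro rfl
    rw [orderOf_one] at hg
    exact hs.one_lt.ne hg
  rcases tri g with ⟨x, a, b, rfl⟩ | ⟨x, j, hj, rfl⟩ | h
  · exfalso
    have h1 : s ∣ 4 := by
      rw [← hg]
      apply order_QQ (x := x⁻¹)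
      have : x⁻¹ * (x * u m a b * x⁻¹) * x⁻¹⁻¹ = u m a b := by group
      rw [this]; exact u_mem_QQ a b
    have h2 : s ∣ 2 := hs.dvd_of_dvd_pow (n := 2) h1
    exact hs2 ((Nat.prime_dvd_prime_iff_eq hs Nat.prime_two).1 h2)
  · -- conjugate of the torus
    have h1 : (x⁻¹).1.1.mulVec v = 0 := by
      apply hh_eig (m := m) hj
      have h2 : (H m j).1 * (x⁻¹).1.1 = (x⁻¹).1.1 * (x * hh m j * x⁻¹).1.1 := by
        have : hh m j * x⁻¹ = x⁻¹ * (x * hh m j * x⁻¹) := by group
        exact congrArg (fun z : Gz F m => z.1.1) this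
      rw [Matrix.mulVec_mulVec, h2, ← Matrix.mulVec_mulVec, hv]
    have h3 : x.1.1 * (x⁻¹).1.1 = 1 := by
      have : x * x⁻¹ = 1 := by group
      exact congrArg (fun z : Gz F m => z.1.1) this
    have h4 : x.1.1.mulVec ((x⁻¹).1.1.mulVec v) = v := by
      rw [Matrix.mulVec_mulVec, h3, Matrix.one_mulVec]
    rw [← h4, h1, Matrix.mulVec_zero]
  · have hd : s ∣ Fintype.card F ^ 2 + 1 := by
      rw [← Nat.card_eq_fintype_card, ← hg]; exact Fpf.order_dvd h
    have hA : g.1.1 ^ s = 1 := by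
      have : g ^ s = 1 := by rw [← hg, pow_orderOf_eq_one]
      have h2 := congrArg (rho (F := F) (m := m)) this
      rw [map_pow, map_one] at h2
      exact h2
    have hA1 : g.1.1 ≠ 1 := fun h => hg1 (rho_inj h)
    rcases irred hs hs2 hd hA hA1 (LinearMap.ker (g.1.1.mulVecLin - LinearMap.id)) (by
      intro w hw
      have hw' : g.1.1.mulVec w - w = 0 := hw
      have hw'' : g.1.1.mulVec w = w := sub_eq_zero.1 hw'
      rw [hw'']; exact hw) with h2 | h2
    · have h3 : v ∈ LinearMap.ker (g.1.1.mulVecLin - LinearMap.id) := by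
        change g.1.1.mulVec v - v = 0
        rw [hv, sub_self]
      rw [h2] at h3
      exact h3
    · exfalso
      apply hA1
      have h4 : ∀ v, g.1.1.mulVec v = v := by
        intro v
        have : v ∈ LinearMap.ker (g.1.1.mulVecLin - LinearMap.id) := by rw [h2]; trivial
        change g.1.1.mulVec v - v = 0 at this
        exact sub_eq_zero.1 this
      ext i j
      have := congrFun (h4 (Pi.single j 1)) i
      rw [Matrix.mulVec_single_one] at this
      simpa [Matrix.one_apply, Pi.single_apply] using this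

end

end CfsgL.Sz
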