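import Cfsg.Agent.L.Sz.Aut
import Cfsg.Agent.L.Sz.Eig

/-! Automorphisms of the Suzuki groups, II. -/

set_option autoImplicit false

namespace CfsgL.Sz

open Subgroup

variable {F : Type*} [Field F] [Fintype F] {m : ℕ} [CharP F 2] [hF : Fact (Fintype.card F = 2 ^ (2 * m + 1))]

section
variable [hm : Fact (1 ≤ m)]

theorem aut_ZQ {α : MulAut (Gz F m)} (hα : ∀ g, g ∈ QQ F m ↔ α g ∈ QQ F m) {g : Gz F m} (hg : g ∈ ZQ F m) :
    α g ∈ ZQ F m := by
  have h1 : α g ∈ QQ F m := (hα g).1 (ZQ_le_QQ hg)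
  have h2 : (⟨α g, h1⟩ : QQ F m) ∈ center (QQ F m) := by
    rw [mem_center_iff]
    rintro ⟨y, hy⟩
    apply Subtype.ext
    change y * α g = α g * y
    obtain ⟨y', rfl⟩ := α.surjective y
    rw [← map_mul, ← map_mul, ZQ_comm_QQ hg ((hα y').2 hy)]
  exact (center_QQ _).1 h2

/-- an automorphism fixing `QQ` and `KK` pointwise is trivial -/
theorem aut_trivial {β : MulAut (Gz F m)} (hQ : ∀ a b, β (u m a b) = u m a b) (hK : ∀ j, β (hh m j) = hh m j) :
    β = 1 := by
  have hB : ∀ g ∈ BB F m, β g = g := by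
    intro g hg
    obtain ⟨a, b, j, rfl⟩ := mem_BB'.1 hg
    rw [map_mul, hQ, hK]
  have hw : β (ww F m) • pinf F m = pzero F m := by
    have h1 : β (ww F m) ∈ normalizer (KK F m : Set (Gz F m)) := by
      obtain ⟨j, hj⟩ := exists_j (F := F) (m := m)
      have hj1 : hh m j ≠ 1 := fun h => hj (hh_inj (m := m) (by rw [h, hh_one]))
      refine KK_ti _ _ (mem_KK.2 ⟨j, rfl⟩) hj1 ?_
      have h2 : β (ww F m) * hh m j * (β (ww F m))⁻¹ = β (ww F m * hh m j * (ww F m)⁻¹) := by
        rw [map_mul, map_mul, map_inv, hK]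
      rw [h2, ww_hh, mul_inv_cancel_right, hK]
      exact mem_KK.2 ⟨_, rfl⟩
    rcases mem_norm_KK.1 h1 with ⟨i, hi⟩ | ⟨i, hi⟩
    · exfalso
      have h2 : ww F m = hh m i := by
        apply β.injective
        rw [hi, hK]
      have h3 : ww F m • pinf F m = pinf F m := by rw [h2, hh_inf]
      rw [ww_inf] at h3
      exact pp_ne_inf _ _ h3
    · rw [hi, mul_smul, ww_inf, hh_zero]
  have hall : ∀ g : Gz F m, β g • pinf F m = g • pinf F m := by
    intro g
    by_cases hg : g ∈ BB F m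
    · rw [hB g hg]
    · obtain ⟨x, y, a, b, j, rfl⟩ := bruhat hg
      rw [map_mul, map_mul, map_mul, hQ, hQ, hK, mul_smul, mul_smul, mul_smul, mul_smul, mul_smul, mul_smul,
        hh_inf, u_inf, hw, ww_inf]
  apply MulEquiv.ext
  intro g
  apply FaithfulSMul.eq_of_smul_eq_smul (α := Om F m)
  intro p
  obtain ⟨k, rfl⟩ := MulAction.exists_smul_eq (Gz F m) (pinf F m) p
  change β g • k • pinf F m = g • k • pinf F m
  calc β g • k • pinf F m = β g • β k • pinf F m := by rw [hall k]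
    _ = β (g * k) • pinf F m := by rw [map_mul, mul_smul]
    _ = (g * k) • pinf F m := hall _
    _ = g • k • pinf F m := mul_smul _ _ _

/-- automorphisms fixing `ZQ` and `KK` pointwise and normalizing `QQ` are trivial -/
theorem aut_trivial' {β : MulAut (Gz F m)} (hQ : ∀ g, g ∈ QQ F m ↔ β g ∈ QQ F m)
    (hZ : ∀ b, β (u m 0 b) = u m 0 b) (hK : ∀ j, β (hh m j) = hh m j) : β = 1 := by
  have hex : ∀ a : F, ∃ c d : F, β (u m a 0) = u m c d := fun a => (hQ _).1 (u_mem_QQ a 0)
  choose C D hCD using hex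
  have hab : ∀ a b, β (u m a b) = u m (C a) (D a + b) := by
    intro a b
    have h1 : u m a b = u m a 0 * u m 0 b := by rw [u_mul, add_zero, zero_add, mul_zero, add_zero]
    rw [h1, map_mul, hCD, hZ, u_mul, add_zero, mul_zero, add_zero]
  have hscale : ∀ (j : Fˣ) (a : F), C (sg F m j * a) = sg F m j * C a ∧
      D (sg F m j * a) = sg F m j * (j : F) ^ 2 * D a := by
    intro j a
    have h1 : hh m j * u m a 0 * (hh m j)⁻¹ = u m (sg F m j * a) 0 := by
      rw [hh_u, mul_zero, mul_inv_cancel_right]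
    have h2 := congrArg β h1
    rw [map_mul, map_mul, map_inv, hK, hCD, hCD, hh_u, mul_inv_cancel_right] at h2
    obtain ⟨h3, h4⟩ := u_inj h2
    exact ⟨h3.symm, h4.symm⟩
  have h00 : C 0 = 0 ∧ D 0 = 0 := by
    have h1 := hCD 0
    rw [hZ] at h1
    obtain ⟨h2, h3⟩ := u_inj h1
    exact ⟨h2.symm, h3.symm⟩
  have hC1 : C 1 = 1 := by
    have h1 := congrArg β (u_sq (m := m) (1 : F) 0)
    rw [map_mul, map_one, one_mul, hCD, hZ, u_sq] at h1
    have h2 := (u_inj h1).2
    have h3 : C 1 ≠ 0 := by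
      intro h
      rw [h, mul_zero] at h2
      exact zero_ne_one h2
    have h4 := j_eq_one_of_sg1 (m := m) (j := Units.mk0 (C 1) h3) h2
    have h5 := congrArg Units.val h4
    exact h5
  have hj : ∀ a : F, a ≠ 0 → ∃ j : Fˣ, sg F m j = a := by
    intro a ha
    obtain ⟨y, hy⟩ := sg_surj F m a
    have hy0 : y ≠ 0 := by
      rintro rfl
      rw [map_zero] at hy
      exact ha hy.symm
    exact ⟨Units.mk0 y hy0, hy⟩
  have hC : ∀ a, C a = a := by
    intro a
    by_cases ha : a = 0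
    · rw [ha, h00.1]
    · obtain ⟨j, hja⟩ := hj a ha
      have := (hscale j 1).1
      rw [mul_one, hja, hC1, mul_one] at this
      exact this
  have hDform : ∀ a, D a = a * sg F m a * D 1 := by
    intro a
    by_cases ha : a = 0
    · rw [ha, h00.2, zero_mul, zero_mul]
    · obtain ⟨j, hja⟩ := hj a ha
      have := (hscale j 1).2
      rw [mul_one, hja] at this
      rw [this, ← hja, sg_sg]
  have hadd : ∀ a c, D (a + c) = D a + D c := by
    intro a c
    have h1 := congrArg β (u_mul (m := m) a 0 c 0)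
    rw [map_mul, hCD, hCD, hab, u_mul] at h1
    obtain ⟨h2, h3⟩ := u_inj h1
    rw [add_zero, zero_add, hC a, hC c] at h3
    linear_combination -h3
  have hD1 : D 1 = 0 := by
    obtain ⟨j, hj1⟩ := exists_j (F := F) (m := m)
    have h1 := hadd (j : F) 1
    rw [hDform (j : F), hDform ((j : F) + 1)] at h1
    simp only [map_add, map_one] at h1
    have h2 : ((j : F) + sg F m j) * D 1 = 0 := by
      have := two0 (D 1)
      linear_combination h1
    rcases mul_eq_zero.1 h2 with h3 | h3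
    · exfalso
      have h4 : sg F m (j : F) = j := by
        have := two0 (j : F)
        linear_combination h3 - this
      have h5 := sg_sg (m := m) (j : F)
      rw [h4, h4] at h5
      apply hj1
      apply Units.ext
      have h6 : (j : F) * ((j : F) - 1) = 0 := by linear_combination -h5
      rcases mul_eq_zero.1 h6 with h7 | h7
      · exact absurd h7 j.ne_zero
      · exact sub_eq_zero.1 h7
    · exact h3
  apply aut_trivial _ hK
  intro a b
  rw [hab, hC, hDform, hD1, mul_zero, zero_add]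

/-- Every automorphism is a product of an inner and a field automorphism. -/
theorem aut_decomp (α : MulAut (Gz F m)) : ∃ (x : Gz F m) (τ : F ≃+* F), MulAut.conj x * α = fa m τ := by
  obtain ⟨x₁, h₁⟩ := aut_step1 α
  obtain ⟨x₂, h₂, h₂K⟩ := aut_step2 h₁
  obtain ⟨α₂, hα₂⟩ : ∃ α₂, α₂ = MulAut.conj x₂ * (MulAut.conj x₁ * α) := ⟨_, rfl⟩
  rw [← hα₂] at h₂ h₂K
  have hex : ∀ b : F, ∃ d : F, α₂ (u m 0 b) = u m 0 d := fun b => aut_ZQ h₂ ⟨b, rfl⟩
  choose A hA using hex
  have hexK : ∀ j : Fˣ, ∃ i : Fˣ, α₂ (hh m j) = hh m i := fun j => mem_KK.1 ((h₂K _).1 (mem_KK.2 ⟨j, rfl⟩))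
  choose γ hγ using hexK
  have hmulj : ∀ (j : Fˣ) (b : F), hh m j * u m 0 b * (hh m j)⁻¹ = u m 0 (sg F m j * j ^ 2 * b) := by
    intro j b
    rw [hh_u, mul_zero, mul_inv_cancel_right]
  have hAmul : ∀ (j : Fˣ) (b : F), A (sg F m j * j ^ 2 * b) = sg F m (γ j) * (γ j : F) ^ 2 * A b := by
    intro j b
    have h1 := congrArg α₂ (hmulj j b)
    rw [map_mul, map_mul, map_inv, hγ, hA, hA, hmulj] at h1
    exact (u_inj h1).2.symm
  have hAadd : ∀ b c, A (b + c) = A b + A c := by
    intro b c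
    have h1 := congrArg α₂ (u_mul (m := m) 0 b 0 c)
    rw [map_mul, map_zero, zero_mul, add_zero, add_zero, hA, hA, hA, u_mul, map_zero, zero_mul, add_zero, add_zero] at h1
    exact (u_inj h1).2.symm
  have hAinj : ∀ b, A b = 0 → b = 0 := by
    intro b hb
    have h1 := hA b
    rw [hb, u_zero, ← map_one α₂] at h1
    exact (u_ne_one (α₂.injective h1)).2
  have hA1 : A 1 ≠ 0 := fun h => one_ne_zero (hAinj 1 h)
  obtain ⟨i, hi⟩ := orbit_Z (m := m) hA1 (one_ne_zero (α := F))
  -- the normalized map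
  obtain ⟨B, hB⟩ : ∃ B : F → F, ∀ b, B b = sg F m i * (i : F) ^ 2 * A b := ⟨_, fun _ => rfl⟩
  have hB1 : B 1 = 1 := by rw [hB, hi]
  have hBmul' : ∀ (j : Fˣ) (b : F), B (sg F m j * j ^ 2 * b) = sg F m (γ j) * (γ j : F) ^ 2 * B b := by
    intro j b
    rw [hB, hB, hAmul]; ring
  have hBj : ∀ j : Fˣ, B (sg F m j * j ^ 2) = sg F m (γ j) * (γ j : F) ^ 2 := by
    intro j
    have := hBmul' j 1
    rw [mul_one, hB1, mul_one] at this
    exact this
  have hB0 : B 0 = 0 := by
    have := hAadd 0 0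
    rw [add_zero] at this
    have h2 : A 0 = 0 := by linear_combination -this
    rw [hB, h2, mul_zero]
  have hBmul : ∀ a b, B (a * b) = B a * B b := by
    intro a b
    by_cases ha : a = 0
    · rw [ha, zero_mul, hB0, zero_mul]
    · obtain ⟨j, hj⟩ := orbit_Z (m := m) (one_ne_zero (α := F)) ha
      rw [mul_one] at hj
      rw [← hj, hBmul', hBj]
  have hBadd : ∀ a b, B (a + b) = B a + B b := by
    intro a b
    rw [hB, hB, hB, hAadd]; ring
  have hBinj : Function.Injective B := by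
    intro a b hab
    have h1 : B (a - b) = 0 := by
      have h2 := hBadd (a - b) b
      rw [sub_add_cancel, hab] at h2
      linear_combination -h2
    have h3 : A (a - b) = 0 := by
      rw [hB] at h1
      rcases mul_eq_zero.1 h1 with h | h
      · exfalso
        exact mul_ne_zero (sg_j_ne i) (pow_ne_zero _ i.ne_zero) h
      · exact h
    exact sub_eq_zero.1 (hAinj _ h3)
  let τ : F ≃+* F := RingEquiv.ofBijective ({
    toFun := B
    map_one' := hB1
    map_mul' := hBmul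
    map_zero' := hB0
    map_add' := hBadd } : F →+* F) (Finite.injective_iff_bijective.1 hBinj)
  have hτ : ∀ b, τ b = B b := fun _ => rfl
  refine ⟨hh m i * (x₂ * x₁), τ, ?_⟩
  obtain ⟨α₃, hα₃⟩ : ∃ α₃, α₃ = MulAut.conj (hh m i * (x₂ * x₁)) * α := ⟨_, rfl⟩
  have hα₃g : ∀ g, α₃ g = hh m i * α₂ g * (hh m i)⁻¹ := by
    intro g
    rw [hα₃, hα₂]
    change (hh m i * (x₂ * x₁)) * α g * (hh m i * (x₂ * x₁))⁻¹ = hh m i * (x₂ * (x₁ * α g * x₁⁻¹) * x₂⁻¹) * (hh m i)⁻¹
    group
  have e1 : ∀ b, α₃ (u m 0 b) = u m 0 (τ b) := by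
    intro b
    rw [hα₃g, hA, hmulj, hτ, hB]
  have e2 : ∀ j, α₃ (hh m j) = hh m (γ j) := by
    intro j
    rw [hα₃g, hγ, ← hh_mul, mul_comm, hh_mul, mul_inv_cancel_right]
  have e3 : ∀ g, g ∈ QQ F m ↔ α₃ g ∈ QQ F m := by
    intro g
    rw [h₂, hα₃g]
    have hiB : hh m i ∈ BB F m := KK_le_BB (mem_KK.2 ⟨i, rfl⟩)
    constructor
    · intro h; exact QQ_norm_conj hiB h
    · intro h
      have := QQ_norm_conj (inv_mem hiB) h
      have h2 : (hh m i)⁻¹ * (hh m i * α₂ g * (hh m i)⁻¹) * (hh m i)⁻¹⁻¹ = α₂ g := by group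
      rwa [h2] at this
  have hγτ : ∀ j, γ j = Units.map (τ : F →* F) j := by
    intro j
    have h1 := hBj j
    have h2 : B (sg F m j * (j : F) ^ 2) = sg F m (τ j) * (τ j) ^ 2 := by
      rw [← hτ, map_mul, map_pow, tau_sg]
    rw [h2] at h1
    have h3 : γ j * (Units.map (τ : F →* F) j)⁻¹ = 1 := by
      apply j_eq_one_of_sg2 (m := m)
      have hτj : τ (j : F) ≠ 0 := by
        intro h
        exact j.ne_zero (τ.injective (by rw [h, map_zero]))
      have hsτj : sg F m (τ (j : F)) ≠ 0 := by rwa [Ne, sg_eq_zero]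
      rw [Units.val_mul, Units.val_inv_eq_inv_val, map_mul, map_inv₀]
      change sg F m (γ j : F) * (sg F m (τ j))⁻¹ * ((γ j : F) * (τ j)⁻¹) ^ 2 = 1
      field_simp
      exact h1.symm
    exact mul_inv_eq_one.1 h3
  have hβ : (fa m τ)⁻¹ * α₃ = 1 := by
    apply aut_trivial'
    · intro g
      rw [e3]
      have key : ∀ (ρ : F ≃+* F) (g : Gz F m), g ∈ QQ F m → fa m ρ g ∈ QQ F m := by
        rintro ρ _ ⟨a, b, rfl⟩
        rw [fa_u]; exact u_mem_QQ _ _
      constructor
      · intro h; exact key τ.symm _ h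
      · intro h
        have := key τ _ h
        have h2 : fa m τ (((fa m τ)⁻¹ * α₃) g) = α₃ g := by
          change fa m τ ((fa m τ)⁻¹ (α₃ g)) = α₃ g
          exact (fa m τ).apply_symm_apply _
        rwa [h2] at this
    · intro b
      change (fa m τ)⁻¹ (α₃ (u m 0 b)) = _
      rw [e1]
      apply (fa m τ).injective
      rw [fa_u, map_zero]
      exact (fa m τ).apply_symm_apply _
    · intro j
      change (fa m τ)⁻¹ (α₃ (hh m j)) = _
      rw [e2]
      apply (fa m τ).injective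
      rw [fa_hh, ← hγτ]
      exact (fa m τ).apply_symm_apply _
  rw [← hα₃]
  exact (inv_mul_eq_one.1 hβ).symm

end

end CfsgL.Sz
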