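import Mathlib
import Cfsg.Prelude.Def_LieExceptional

/-! The Suzuki groups: field automorphism, the standard elements and the ovoid. -/

set_option autoImplicit false

namespace CfsgL.Sz

open Matrix

variable {F : Type*} [Field F] [Fintype F] {m : ℕ}

theorem char_two (hF : Fintype.card F = 2 ^ (2 * m + 1)) : CharP F 2 := by
  haveI : Fact (Nat.Prime 2) := ⟨Nat.prime_two⟩
  obtain ⟨p, hp⟩ := CharP.exists F
  haveI := hp
  obtain ⟨n, hpp, hn⟩ := FiniteField.card F p
  rw [hF] at hn
  have h1 : p ∣ 2 ^ (2 * m + 1) := by rw [hn]; exact dvd_pow_self p n.pos.ne'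
  have h2 := (Nat.prime_dvd_prime_iff_eq hpp Nat.prime_two).1 (hpp.dvd_of_dvd_pow h1)
  subst h2; exact hp

variable [CharP F 2] [hF : Fact (Fintype.card F = 2 ^ (2 * m + 1))]

instance factTwo : Fact (Nat.Prime 2) := ⟨Nat.prime_two⟩

variable (F m) in
/-- the field automorphism -/
def sg : F →+* F := iterateFrobenius F 2 (m + 1)

omit [Fintype F] hF in
theorem sg_apply (x : F) : sg F m x = x ^ (2 ^ (m + 1)) := by
  unfold sg
  rw [iterateFrobenius_def]

theorem sg_sg (x : F) : sg F m (sg F m x) = x ^ 2 := by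
  rw [sg_apply, sg_apply, ← pow_mul, ← pow_add]
  have h : m + 1 + (m + 1) = (2 * m + 1) + 1 := by ring
  rw [h, pow_succ, pow_mul]
  have := FiniteField.pow_card x
  rw [hF.1] at this
  rw [this]

omit [Fintype F] hF in
theorem sg_inj {x y : F} (h : sg F m x = sg F m y) : x = y := (sg F m).injective h

omit [Fintype F] hF in
theorem sg_eq_zero {x : F} : sg F m x = 0 ↔ x = 0 := map_eq_zero _

variable (F m) in
theorem sg_surj : Function.Surjective (sg F m) := Finite.surjective_of_injective (sg F m).injective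

/-- `σ s = s + 1` has no solution. -/
theorem sg_add_one (s : F) : sg F m s ≠ s + 1 := by
  intro h
  have h1 : s ^ 2 = s := by
    calc s ^ 2 = sg F m (sg F m s) := (sg_sg s).symm
      _ = sg F m s + 1 := by rw [h, map_add, map_one, h]
      _ = s + (1 + 1) := by rw [h]; ring
      _ = s := by rw [CharTwo.add_self_eq_zero, add_zero]
  have h2 : s * (s - 1) = 0 := by linear_combination h1
  rcases mul_eq_zero.1 h2 with h3 | h3
  · rw [h3, map_zero, zero_add] at h
    exact one_ne_zero h.symm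
  · have h4 : s = 1 := sub_eq_zero.1 h3
    rw [h4, map_one] at h
    exact one_ne_zero (by linear_combination (-1 : F) * h)

/-- the quantity `z` -/
def zz (m : ℕ) (x y : F) : F := x * y + sg F m x * x ^ 2 + sg F m y

omit [Fintype F] hF in
theorem zz_def (x y : F) : zz m x y = x * y + sg F m x * x ^ 2 + sg F m y := rfl

theorem zz_eq_zero {x y : F} : zz m x y = 0 ↔ x = 0 ∧ y = 0 := by
  constructor
  · intro h
    have h0 : x = 0 := by
      by_contra hx
      obtain ⟨t, ht⟩ : ∃ t, t = y / (sg F m x * x) := ⟨_, rfl⟩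
      have hsx : sg F m x ≠ 0 := by rwa [Ne, sg_eq_zero]
      have hy : y = t * (sg F m x * x) := by rw [ht]; field_simp
      apply sg_add_one (m := m) t
      have h1 : zz m x y = (sg F m x * x ^ 2) * (t + 1 + sg F m t) := by
        rw [zz_def, hy, map_mul, map_mul, sg_sg]; ring
      rw [h1] at h
      have h2 : t + 1 + sg F m t = 0 := by
        rcases mul_eq_zero.1 h with h3 | h3
        · exact absurd h3 (mul_ne_zero hsx (pow_ne_zero _ hx))
        · exact h3
      have h4 : (t + 1) + (t + 1) = (0 : F) := CharTwo.add_self_eq_zero _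
      linear_combination h2 - h4
    refine ⟨h0, ?_⟩
    rw [zz_def, h0, zero_mul, map_zero, zero_mul, zero_add, zero_add, sg_eq_zero] at h
    exact h
  · rintro ⟨rfl, rfl⟩
    rw [zz_def, map_zero]; ring

omit [Fintype F] hF in
theorem two0 (x : F) : x + x = 0 := CharTwo.add_self_eq_zero x

theorem zz_translate (a b x y : F) :
    zz m (x + a) (y + b + sg F m a * x) =
      zz m x y + a * y + (b + sg F m a * a) * x + zz m a b := by
  rw [zz_def, zz_def, zz_def]
  simp only [map_add, map_mul, sg_sg]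
  have h1 := two0 (sg F m a * x ^ 2)
  have h2 := two0 (a ^ 2 * sg F m x)
  have h3 := two0 (sg F m x * x * a)
  have h4 := two0 (sg F m a * x * a)
  linear_combination h1 + h2 + h3 + h4

omit [Fintype F] hF in
theorem zz_scale (x y j : F) (h : ∀ x, sg F m (sg F m x) = x ^ 2) :
    zz m (sg F m j * x) (sg F m j * j ^ 2 * y) = sg F m j ^ 2 * j ^ 2 * zz m x y := by
  rw [zz_def, zz_def]
  simp only [map_mul, map_pow, h]
  ring

omit [Fintype F] hF in
theorem flip_aux (x y X Y z t : F) (hz : z = x * y + X * x ^ 2 + Y)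
    (ht : t = X * Y + x ^ 2 * X ^ 2 + y ^ 2) (hz0 : z ≠ 0) (ht0 : t ≠ 0) :
    y / z * (x / z) + Y / t * (y / z) ^ 2 + X / t = 1 / z := by
  have h1 := two0 (X ^ 2 * x ^ 3 * y)
  have h2 := two0 (X * x * y * Y)
  have key : x * y * t + Y * y ^ 2 + X * z ^ 2 = z * t := by
    rw [hz, ht]
    linear_combination h1 + h2
  field_simp
  linear_combination key

/-- key identity for `w` -/
theorem zz_flip {x y : F} (h : zz m x y ≠ 0) :
    zz m (y / zz m x y) (x / zz m x y) = 1 / zz m x y := by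
  have hz : sg F m (zz m x y) = sg F m x * sg F m y + x ^ 2 * sg F m x ^ 2 + y ^ 2 := by
    rw [zz_def, map_add, map_add, map_mul, map_mul, map_pow, sg_sg, sg_sg]
  have hs : sg F m (zz m x y) ≠ 0 := by rwa [Ne, sg_eq_zero]
  rw [zz_def (y / zz m x y) (x / zz m x y), map_div₀, map_div₀]
  exact flip_aux x y _ _ _ _ (zz_def x y) hz h hs

/-! ### The points -/

omit [Fintype F] hF [CharP F 2] in
theorem vec_ne_zero {a b c d : F} (h : d ≠ 0) : ![a, b, c, d] ≠ (0 : Fin 4 → F) := fun h' =>
  h (by simpa using congrFun h' 3)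

variable (m) in
/-- the affine points -/
def pt (x y : F) : Projectivization F (Fin 4 → F) :=
  Projectivization.mk F ![zz m x y, y, x, 1] (vec_ne_zero one_ne_zero)

omit [Fintype F] hF [CharP F 2] in
theorem inf_vec_ne : ![(1 : F), 0, 0, 0] ≠ (0 : Fin 4 → F) := fun h' =>
  one_ne_zero (α := F) (by simpa using congrFun h' 0)

variable (F) in
/-- the point at infinity -/
def inf : Projectivization F (Fin 4 → F) := Projectivization.mk F ![1, 0, 0, 0] inf_vec_ne

omit [Fintype F] hF in
theorem mem_ovoid {p : Projectivization F (Fin 4 → F)} :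
    p ∈ Cfsg.suzukiOvoid F m ↔ p = inf F ∨ ∃ x y, p = pt m x y := by
  constructor
  · rintro ⟨v, hv, rfl, rfl | ⟨x, y, rfl⟩⟩
    · exact Or.inl rfl
    · right
      refine ⟨x, y, ?_⟩
      unfold pt
      congr 1
      rw [zz_def, sg_apply, sg_apply, pow_add]
  · rintro (rfl | ⟨x, y, rfl⟩)
    · exact ⟨_, inf_vec_ne, rfl, Or.inl rfl⟩
    · refine ⟨_, _, rfl, Or.inr ⟨x, y, ?_⟩⟩
      rw [zz_def, sg_apply, sg_apply, pow_add x (2 ^ (m + 1)) 2]

omit [Fintype F] hF in
theorem inf_mem : inf F ∈ Cfsg.suzukiOvoid F m := mem_ovoid.2 (Or.inl rfl)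

omit [Fintype F] hF in
theorem pt_mem (x y : F) : pt m x y ∈ Cfsg.suzukiOvoid F m := mem_ovoid.2 (Or.inr ⟨x, y, rfl⟩)

omit [Fintype F] hF in
theorem pt_ne_inf (x y : F) : pt m x y ≠ inf F := by
  intro h
  unfold pt inf at h
  rw [Projectivization.mk_eq_mk_iff'] at h
  obtain ⟨a, ha⟩ := h
  have := congrFun ha 3
  simp at this

omit [Fintype F] hF in
theorem pt_inj {x y x' y' : F} (h : pt m x y = pt m x' y') : x = x' ∧ y = y' := by
  unfold pt at h
  rw [Projectivization.mk_eq_mk_iff'] at h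
  obtain ⟨a, ha⟩ := h
  have h3 := congrFun ha 3
  have h2 := congrFun ha 2
  have h1 := congrFun ha 1
  simp at h3 h2 h1
  subst h3
  exact ⟨by rw [← h2, one_mul], by rw [← h1, one_mul]⟩

/-! ### The standard elements -/

variable (m) in
/-- the unipotent elements -/
def U (a b : F) : SpecialLinearGroup (Fin 4) F :=
  ⟨!![1, a, b + sg F m a * a, zz m a b; 0, 1, sg F m a, b; 0, 0, 1, a; 0, 0, 0, 1], by
    simp [Matrix.det_succ_row_zero, Fin.sum_univ_succ, Fin.succAbove]⟩

variable (m) in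
/-- the torus -/
def H (j : Fˣ) : SpecialLinearGroup (Fin 4) F :=
  ⟨Matrix.diagonal ![sg F m j * j, j, (j : F)⁻¹, (sg F m j * j)⁻¹], by
    rw [Matrix.det_diagonal]
    have h1 : (j : F) ≠ 0 := j.ne_zero
    have h2 : sg F m (j : F) ≠ 0 := by rwa [Ne, sg_eq_zero]
    simp [Fin.prod_univ_four]
    field_simp⟩

variable (F) in
/-- the Weyl element -/
def W : SpecialLinearGroup (Fin 4) F :=
  ⟨!![0, 0, 0, 1; 0, 0, 1, 0; 0, 1, 0, 0; 1, 0, 0, 0], by
    simp [Matrix.det_succ_row_zero, Fin.sum_univ_succ, Fin.succAbove]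
    ring⟩

omit [Fintype F] hF [CharP F 2] in
theorem smul_mk' (g : SpecialLinearGroup (Fin 4) F) {v w : Fin 4 → F} (hv : v ≠ 0) (hw : w ≠ 0)
    (a : F) (h : g.1.mulVec v = a • w) :
    g • Projectivization.mk F v hv = Projectivization.mk F w hw := by
  have h1 : g.1.mulVec v ≠ 0 := (smul_ne_zero_iff_ne g).mpr hv
  change Projectivization.mk F (g.1.mulVec v) h1 = _
  rw [Projectivization.mk_eq_mk_iff']
  exact ⟨a, h.symm⟩

theorem U_pt (a b x y : F) : U m a b • pt m x y = pt m (x + a) (y + b + sg F m a * x) := by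
  apply smul_mk' _ _ _ 1
  rw [zz_translate]
  ext i
  fin_cases i <;> simp [U, Matrix.mulVec, dotProduct, Fin.sum_univ_four] <;> ring

omit [Fintype F] hF in
theorem U_inf (a b : F) : U m a b • inf F = inf F := by
  apply smul_mk' _ _ _ 1
  ext i
  fin_cases i <;> simp [U, Matrix.mulVec, dotProduct, Fin.sum_univ_four]

theorem H_pt (j : Fˣ) (x y : F) : H m j • pt m x y = pt m (sg F m j * x) (sg F m j * j ^ 2 * y) := by
  have h1 : (j : F) ≠ 0 := j.ne_zero
  have h2 : sg F m (j : F) ≠ 0 := by rwa [Ne, sg_eq_zero]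
  apply smul_mk' _ _ _ ((sg F m j * j)⁻¹)
  rw [zz_scale _ _ _ sg_sg]
  ext i
  fin_cases i <;> simp [H, Matrix.mulVec, dotProduct, Fin.sum_univ_four, Matrix.diagonal] <;>
    field_simp

omit [Fintype F] hF in
theorem H_inf (j : Fˣ) : H m j • inf F = inf F := by
  apply smul_mk' _ _ _ (sg F m j * j)
  ext i
  fin_cases i <;> simp [H, Matrix.mulVec, dotProduct, Fin.sum_univ_four, Matrix.diagonal]

omit [Fintype F] hF in
theorem zz00 : zz m (0 : F) 0 = 0 := by rw [zz_def, map_zero]; ring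

omit [Fintype F] hF in
theorem W_inf : W F • inf F = pt m 0 0 := by
  apply smul_mk' _ _ _ 1
  rw [zz00]
  ext i
  fin_cases i <;> simp [W, Matrix.mulVec, dotProduct, Fin.sum_univ_four]

omit [Fintype F] hF in
theorem W_zero : W F • pt m 0 0 = inf F := by
  apply smul_mk' _ _ _ 1
  rw [zz00]
  ext i
  fin_cases i <;> simp [W, Matrix.mulVec, dotProduct, Fin.sum_univ_four]

theorem W_pt {x y : F} (h : zz m x y ≠ 0) :
    W F • pt m x y = pt m (y / zz m x y) (x / zz m x y) := by
  apply smul_mk' _ _ _ (zz m x y)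
  rw [zz_flip h]
  ext i
  fin_cases i <;> simp [W, Matrix.mulVec, dotProduct, Fin.sum_univ_four] <;> field_simp

end CfsgL.Sz
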