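import Cfsg.Agent.L.Sz.Form
import Cfsg.Prelude.Def_Sz

/-! The two models of the Suzuki groups agree. -/

set_option autoImplicit false

namespace CfsgL.Sz

open Matrix

variable {F : Type*} [Field F] [Fintype F] {m : ℕ} [CharP F 2] [hF : Fact (Fintype.card F = 2 ^ (2 * m + 1))]

/-- exterior product coordinates -/
def wd (u v : Fin 4 → F) : Fin 4 → F := fun p =>
  u (Cfsg.Lie.pairOf p).1 * v (Cfsg.Lie.pairOf p).2 - u (Cfsg.Lie.pairOf p).2 * v (Cfsg.Lie.pairOf p).1

/-- absolute points -/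
def Abs (m : ℕ) (v : Fin 4 → F) : Prop := ∃ u, Cfsg.Lie.altForm4 u v = 0 ∧ wd u v = fun i => sg F m (v i)

omit [Fintype F] hF in
theorem abs_smul {v : Fin 4 → F} (h : Abs m v) {c : F} (hc : c ≠ 0) : Abs m (c • v) := by
  obtain ⟨u, h1, h2⟩ := h
  refine ⟨(sg F m c / c) • u, ?_, ?_⟩
  · unfold Cfsg.Lie.altForm4 at *
    simp only [Pi.smul_apply, smul_eq_mul]
    linear_combination (sg F m c / c) * c * h1
  · funext p
    have h3 := congrFun h2 p
    unfold wd at *
    simp only [Pi.smul_apply, smul_eq_mul, map_mul] at *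
    rw [← h3]
    field_simp

omit [Fintype F] hF in
theorem abs_inf : Abs m (![1, 0, 0, 0] : Fin 4 → F) := by
  refine ⟨![0, 1, 0, 0], ?_, ?_⟩
  · simp [Cfsg.Lie.altForm4]
  · have := two0 (1 : F)
    funext p
    fin_cases p <;> simp [wd, Cfsg.Lie.pairOf]
    linear_combination -this

theorem abs_pt (x y : F) : Abs m (![zz m x y, y, x, 1] : Fin 4 → F) := by
  refine ⟨![sg F m x * x + y, sg F m x, 1, 0], ?_, ?_⟩
  · simp [Cfsg.Lie.altForm4]
    have h1 := two0 (sg F m x * x)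
    have h2 := two0 y
    linear_combination h1 + h2
  · funext p
    fin_cases p <;> simp [wd, Cfsg.Lie.pairOf]
    · rw [zz_def]
      simp only [map_add, map_mul, map_pow, sg_sg]
      have h1 := two0 (sg F m x * sg F m y)
      have h2 := two0 (sg F m x ^ 2 * x ^ 2)
      linear_combination -h1 - h2
    · rw [zz_def]
      have h1 := two0 (sg F m y)
      linear_combination - h1

omit [Fintype F] hF in
theorem ovoid_of_abs {v : Fin 4 → F} (hv : v ≠ 0) (h : Abs m v) :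
    Projectivization.mk F v hv ∈ Cfsg.suzukiOvoid F m := by
  obtain ⟨u, hB, hw⟩ := h
  have e01 := congrFun hw 0
  have e02 := congrFun hw 1
  have e13 := congrFun hw 2
  have e23 := congrFun hw 3
  simp [wd, Cfsg.Lie.pairOf] at e01 e02 e13 e23
  unfold Cfsg.Lie.altForm4 at hB
  by_cases h3 : v 3 = 0
  · rw [h3] at e13 e23 hB
    rw [map_zero] at e23
    have h2 : v 2 = 0 := by
      have h4 : u 3 * v 2 = 0 := by linear_combination -e23
      rcases mul_eq_zero.1 h4 with h5 | h5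
      · rw [h5] at e13
        apply (sg_eq_zero (m := m)).1
        linear_combination -e13
      · exact h5
    rw [h2] at e13 e02 hB
    rw [map_zero] at e13
    have h1 : v 1 = 0 := by
      by_contra h1
      have h4 : u 3 = 0 := by
        have : u 3 * v 1 = 0 := by linear_combination -e13
        rcases mul_eq_zero.1 this with h5 | h5
        · exact h5
        · exact absurd h5 h1
      have h5 : u 2 = 0 := by
        have : u 2 * v 1 = 0 := by rw [h4] at hB; linear_combination hB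
        rcases mul_eq_zero.1 this with h5 | h5
        · exact h5
        · exact absurd h5 h1
      rw [h5] at e02
      apply h1
      apply (sg_eq_zero (m := m)).1
      linear_combination -e02
    have h0 : v 0 ≠ 0 := by
      intro h0
      apply hv
      funext i
      fin_cases i <;> simp [h0, h1, h2, h3]
    rw [mem_ovoid]
    left
    unfold inf
    rw [Projectivization.mk_eq_mk_iff']
    refine ⟨v 0, ?_⟩
    funext i
    fin_cases i <;> simp [h1, h2, h3]
  · rw [mem_ovoid]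
    right
    refine ⟨v 2 / v 3, v 1 / v 3, ?_⟩
    unfold pt
    rw [Projectivization.mk_eq_mk_iff']
    refine ⟨v 3, ?_⟩
    have hs3 : sg F m (v 3) ≠ 0 := by rwa [Ne, sg_eq_zero]
    funext i
    fin_cases i
    · simp
      rw [zz_def, map_div₀, map_div₀]
      field_simp
      rw [← e02, ← e13, ← e23]
      have t1 := two0 (v 1 * v 2 ^ 2 * u 3)
      have t2 := two0 (u 2 * v 0 * v 3 ^ 2)
      linear_combination (v 2 * v 3) * hB - t1 - t2
    · simp; field_simp
    · simp; field_simp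
    · simp

omit [Fintype F] hF in
theorem abs_congr {v w : Fin 4 → F} (hv : v ≠ 0) (hw : w ≠ 0)
    (h : Projectivization.mk F v hv = Projectivization.mk F w hw) (ha : Abs m w) : Abs m v := by
  rw [Projectivization.mk_eq_mk_iff'] at h
  obtain ⟨a, rfl⟩ := h
  apply abs_smul ha
  rintro rfl
  rw [zero_smul] at hv
  exact hv rfl

theorem abs_of_ovoid {v : Fin 4 → F} (hv : v ≠ 0) (h : Projectivization.mk F v hv ∈ Cfsg.suzukiOvoid F m) :
    Abs m v := by
  rcases mem_ovoid.1 h with h | ⟨x, y, h⟩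
  · exact abs_congr hv inf_vec_ne h abs_inf
  · exact abs_congr hv (vec_ne_zero one_ne_zero) h (abs_pt x y)

omit [Fintype F] [CharP F 2] hF in
theorem suzukiForm_sq : Cfsg.suzukiForm F * Cfsg.suzukiForm F = 1 := by
  ext i j
  fin_cases i <;> fin_cases j <;>
    simp [Cfsg.suzukiForm, Matrix.mul_apply, Fin.sum_univ_four, Matrix.vecMul, dotProduct]

omit [Fintype F] [CharP F 2] hF in
theorem altForm_eq (u v : Fin 4 → F) : Cfsg.Lie.altForm4 u v = u ⬝ᵥ (Cfsg.suzukiForm F *ᵥ v) := by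
  simp [Cfsg.Lie.altForm4, Cfsg.suzukiForm, dotProduct, Matrix.mulVec, Fin.sum_univ_four]

omit [Fintype F] [CharP F 2] hF in
theorem altForm_mul (g : Matrix (Fin 4) (Fin 4) F) (u v : Fin 4 → F) :
    Cfsg.Lie.altForm4 (g *ᵥ u) (g *ᵥ v) = u ⬝ᵥ ((g.transpose * Cfsg.suzukiForm F * g) *ᵥ v) := by
  rw [altForm_eq, Matrix.dotProduct_mulVec, Matrix.vecMul_mulVec, Matrix.dotProduct_mulVec,
    Matrix.dotProduct_mulVec, Matrix.vecMul_vecMul]

omit [Fintype F] [CharP F 2] hF in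
theorem pf_iff (g : Matrix (Fin 4) (Fin 4) F) :
    PF g ↔ ∀ u v, Cfsg.Lie.altForm4 (g *ᵥ u) (g *ᵥ v) = Cfsg.Lie.altForm4 u v := by
  constructor
  · intro h u v
    rw [altForm_mul, altForm_eq, h]
  · intro h
    ext i j
    have := h (Pi.single i 1) (Pi.single j 1)
    rw [altForm_mul, altForm_eq] at this
    simpa using this

omit [Fintype F] [CharP F 2] hF in
theorem pf_dual {g : Matrix (Fin 4) (Fin 4) F} (h : PF g) : g * Cfsg.suzukiForm F * g.transpose =
    Cfsg.suzukiForm F := by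
  unfold PF at h
  have h1 : (Cfsg.suzukiForm F * g.transpose * Cfsg.suzukiForm F) * g = 1 := by
    calc (Cfsg.suzukiForm F * g.transpose * Cfsg.suzukiForm F) * g
        = Cfsg.suzukiForm F * (g.transpose * Cfsg.suzukiForm F * g) := by simp only [Matrix.mul_assoc]
      _ = 1 := by rw [h, suzukiForm_sq]
  have h2 := mul_eq_one_comm.1 h1
  calc g * Cfsg.suzukiForm F * g.transpose
      = (g * (Cfsg.suzukiForm F * g.transpose * Cfsg.suzukiForm F)) * Cfsg.suzukiForm F := by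
        simp only [Matrix.mul_assoc]
        rw [suzukiForm_sq, Matrix.mul_one]
    _ = _ := by rw [h2, Matrix.one_mul]

omit [Fintype F] hF in
theorem star_wd {g : Matrix (Fin 4) (Fin 4) F} (h : PF g) {u v : Fin 4 → F}
    (hB : Cfsg.Lie.altForm4 u v = 0) : wd (g *ᵥ u) (g *ᵥ v) = Cfsg.Lie.star4 g *ᵥ (wd u v) := by
  have hd := pf_dual h
  unfold Cfsg.Lie.altForm4 at hB
  have hB' : u 0 * v 3 - u 3 * v 0 = u 1 * v 2 - u 2 * v 1 := by
    have t1 := two0 (u 3 * v 0)
    have t2 := two0 (u 1 * v 2)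
    linear_combination hB - t1 - t2
  have key : ∀ k l : Fin 4, g k 0 * g l 3 + g k 1 * g l 2 + g k 2 * g l 1 + g k 3 * g l 0 =
      Cfsg.suzukiForm F k l := by
    intro k l
    rw [← hd]
    simp only [Matrix.mul_apply, Fin.sum_univ_four, Matrix.transpose_apply]
    simp [Cfsg.suzukiForm]
    ring
  have fin : ∀ k l : Fin 4, Cfsg.suzukiForm F k l = 0 →
      (g *ᵥ u) k * (g *ᵥ v) l - (g *ᵥ u) l * (g *ᵥ v) k =
        (g k 0 * g l 1 - g l 0 * g k 1) * (u 0 * v 1 - u 1 * v 0) +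
        (g k 0 * g l 2 - g l 0 * g k 2) * (u 0 * v 2 - u 2 * v 0) +
        (g k 1 * g l 3 - g l 1 * g k 3) * (u 1 * v 3 - u 3 * v 1) +
        (g k 2 * g l 3 - g l 2 * g k 3) * (u 2 * v 3 - u 3 * v 2) := by
    intro k l hkl
    have h1 := key k l
    rw [hkl] at h1
    simp only [Matrix.mulVec, dotProduct, Fin.sum_univ_four]
    have t1 := two0 ((g k 3 * g l 0) * (u 0 * v 3 - u 3 * v 0))
    have t2 := two0 ((g k 2 * g l 1) * (u 0 * v 3 - u 3 * v 0))
    linear_combination (u 0 * v 3 - u 3 * v 0) * h1 - t1 - t2 - (g k 1 * g l 2 - g k 2 * g l 1) * hB'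
  funext p
  fin_cases p
  · have := fin 0 1 (by simp [Cfsg.suzukiForm])
    simpa [wd, Cfsg.Lie.star4, Cfsg.Lie.pairOf, Matrix.mulVec, dotProduct, Fin.sum_univ_four] using this
  · have := fin 0 2 (by simp [Cfsg.suzukiForm])
    simpa [wd, Cfsg.Lie.star4, Cfsg.Lie.pairOf, Matrix.mulVec, dotProduct, Fin.sum_univ_four] using this
  · have := fin 1 3 (by simp [Cfsg.suzukiForm])
    simpa [wd, Cfsg.Lie.star4, Cfsg.Lie.pairOf, Matrix.mulVec, dotProduct, Fin.sum_univ_four] using this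
  · have := fin 2 3 (by simp [Cfsg.suzukiForm])
    simpa [wd, Cfsg.Lie.star4, Cfsg.Lie.pairOf, Matrix.mulVec, dotProduct, Fin.sum_univ_four] using this

omit [Fintype F] hF in
theorem abs_mul {g : Matrix (Fin 4) (Fin 4) F} (h : PF g)
    (hs : Cfsg.Lie.star4 g = g.map (sg F m)) {v : Fin 4 → F} (hv : Abs m v) : Abs m (g *ᵥ v) := by
  obtain ⟨u, h1, h2⟩ := hv
  refine ⟨g *ᵥ u, ?_, ?_⟩
  · rw [(pf_iff g).1 h, h1]
  · rw [star_wd h h1, h2, hs]
    funext i
    simp only [Matrix.mulVec, dotProduct, map_sum, map_mul, Matrix.map_apply]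

/-! ### the standard elements satisfy `g* = g^σ` -/

theorem star_U (a b : F) : Cfsg.Lie.star4 (U m a b).1 = (U m a b).1.map (sg F m) := by
  have hz : sg F m (zz m a b) = sg F m a * sg F m b + a ^ 2 * sg F m a ^ 2 + b ^ 2 := by
    rw [zz_def, map_add, map_add, map_mul, map_mul, map_pow, sg_sg, sg_sg]
  have h1 := two0 (sg F m b)
  have h2 := two0 (sg F m a * a ^ 2)
  have h3 := two0 (sg F m a ^ 2 * a ^ 2)
  have h4 := two0 (sg F m a * sg F m b)
  ext p r
  fin_cases p <;> fin_cases r <;>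
    simp [Cfsg.Lie.star4, Cfsg.Lie.pairOf, U, hz, sg_sg]
  all_goals try rw [zz_def]
  · linear_combination -h1 - h2
  · linear_combination -h3 - h4
  · ring
  · linear_combination -h1

theorem star_H (j : Fˣ) : Cfsg.Lie.star4 (H m j).1 = (H m j).1.map (sg F m) := by
  have h1 : (j : F) ≠ 0 := j.ne_zero
  have h2 : sg F m (j : F) ≠ 0 := by rwa [Ne, sg_eq_zero]
  ext p r
  fin_cases p <;> fin_cases r <;>
    simp [Cfsg.Lie.star4, Cfsg.Lie.pairOf, H, sg_sg, Matrix.diagonal] <;> field_simp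

omit [Fintype F] hF in
theorem star_W : Cfsg.Lie.star4 (W F).1 = (W F).1.map (sg F m) := by
  have h1 := two0 (1 : F)
  ext p r
  fin_cases p <;> fin_cases r <;>
    simp [Cfsg.Lie.star4, Cfsg.Lie.pairOf, W]
  all_goals linear_combination -h1

omit [Fintype F] [CharP F 2] hF in
theorem mem_Sp4 {g : GL (Fin 4) F} : g ∈ Cfsg.Lie.Sp4 F ↔ PF (g : Matrix (Fin 4) (Fin 4) F) := by
  rw [pf_iff]; exact Iff.rfl

theorem map_pow_eq (g : Matrix (Fin 4) (Fin 4) F) :
    g.map (fun x => x ^ (2 ^ (m + 1))) = g.map (sg F m) := by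
  ext i j
  rw [Matrix.map_apply, Matrix.map_apply, sg_apply]

theorem gen_mem {g : SpecialLinearGroup (Fin 4) F} (h1 : PF g.1)
    (h2 : Cfsg.Lie.star4 g.1 = g.1.map (sg F m)) :
    SpecialLinearGroup.toGL g ∈ Cfsg.Lie.Sz F (2 ^ (m + 1)) := by
  apply Subgroup.subset_closure
  refine ⟨mem_Sp4.2 h1, ?_⟩
  rw [map_pow_eq]
  exact h2

theorem toGL_mem [hm : Fact (1 ≤ m)] {g : SpecialLinearGroup (Fin 4) F} (hg : g ∈ Cfsg.Sz F m) :
    SpecialLinearGroup.toGL g ∈ Cfsg.Lie.Sz F (2 ^ (m + 1)) := by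
  have hU : ∀ a b : F, SpecialLinearGroup.toGL (U m a b) ∈ Cfsg.Lie.Sz F (2 ^ (m + 1)) := fun a b =>
    gen_mem (PF_U a b) (star_U a b)
  have hH : ∀ j : Fˣ, SpecialLinearGroup.toGL (H m j) ∈ Cfsg.Lie.Sz F (2 ^ (m + 1)) := fun j =>
    gen_mem (PF_H j) (star_H j)
  have hW : SpecialLinearGroup.toGL (W F) ∈ Cfsg.Lie.Sz F (2 ^ (m + 1)) := gen_mem PF_W star_W
  obtain ⟨g', hg'⟩ : ∃ g' : Gz F m, g'.1 = g := ⟨⟨g, hg⟩, rfl⟩
  rw [← hg']
  by_cases hB : g' ∈ BB F m
  · obtain ⟨a, b, j, rfl⟩ := mem_BB'.1 hB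
    change SpecialLinearGroup.toGL (U m a b * H m j) ∈ _
    rw [map_mul]
    exact mul_mem (hU a b) (hH j)
  · obtain ⟨x, y, a, b, j, rfl⟩ := bruhat hB
    change SpecialLinearGroup.toGL (U m x y * W F * (U m a b * H m j)) ∈ _
    rw [map_mul, map_mul, map_mul]
    exact mul_mem (mul_mem (hU x y) hW) (mul_mem (hU a b) (hH j))

omit [Fintype F] hF in
theorem det_one_of_PF {g : Matrix (Fin 4) (Fin 4) F} (h : PF g) : g.det = 1 := by
  unfold PF at h
  have h1 := congrArg Matrix.det h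
  rw [Matrix.det_mul, Matrix.det_mul, Matrix.det_transpose] at h1
  have h2 : (Cfsg.suzukiForm F).det * (Cfsg.suzukiForm F).det = 1 := by
    rw [← Matrix.det_mul, suzukiForm_sq, Matrix.det_one]
  have h3 : (g.det - 1) ^ 2 = 0 := by
    have t1 := two0 (g.det)
    have t2 := two0 (1 : F)
    linear_combination (Cfsg.suzukiForm F).det * h1 - (g.det ^ 2 - 1) * h2 - t1 + t2
  exact sub_eq_zero.1 (pow_eq_zero_iff two_ne_zero |>.1 h3)

theorem mem_of_gen {g : GL (Fin 4) F} (h1 : PF (g : Matrix (Fin 4) (Fin 4) F))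
    (h2 : Cfsg.Lie.star4 (g : Matrix (Fin 4) (Fin 4) F) = (g : Matrix (Fin 4) (Fin 4) F).map (sg F m)) :
    ∃ g' ∈ Cfsg.Sz F m, SpecialLinearGroup.toGL g' = g := by
  let g₀ : SpecialLinearGroup (Fin 4) F := ⟨g.1, det_one_of_PF h1⟩
  refine ⟨g₀, ?_, ?_⟩
  · rw [mem_Sz]
    intro p hp
    obtain ⟨v, hv, rfl⟩ : ∃ v, ∃ hv : v ≠ 0, p = Projectivization.mk F v hv :=
      ⟨p.rep, p.rep_nonzero, p.mk_rep.symm⟩
    have h3 := abs_mul h1 h2 (abs_of_ovoid hv hp)
    exact ovoid_of_abs _ h3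
  · apply Units.ext
    rfl

theorem map_eq [hm : Fact (1 ≤ m)] :
    (Cfsg.Sz F m).map (SpecialLinearGroup.toGL (n := Fin 4) (R := F)) = Cfsg.Lie.Sz F (2 ^ (m + 1)) := by
  apply le_antisymm
  · rintro _ ⟨g, hg, rfl⟩
    exact toGL_mem hg
  · rw [Cfsg.Lie.Sz, Subgroup.closure_le]
    rintro g ⟨h1, h2⟩
    rw [map_pow_eq] at h2
    obtain ⟨g', hg', h3⟩ := mem_of_gen (mem_Sp4.1 h1) h2
    exact ⟨g', hg', h3⟩

variable (F m) in
/-- the two models are isomorphic -/
noncomputable def bridge [hm : Fact (1 ≤ m)] : Gz F m ≃* ↥(Cfsg.Lie.Sz F (2 ^ (m + 1))) :=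
  ((Cfsg.Sz F m).equivMapOfInjective (SpecialLinearGroup.toGL (n := Fin 4) (R := F)) (by
    intro a b h
    apply Subtype.ext
    exact congrArg Units.val h)).trans (MulEquiv.subgroupCongr map_eq)

end CfsgL.Sz
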