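import Cfsg.Agent.L.Sz.Struct

/-! The Suzuki groups: orders and simplicity. -/

set_option autoImplicit false

namespace CfsgL.Sz

open Matrix

variable {F : Type*} [Field F] [Fintype F] {m : ℕ} [CharP F 2] [hF : Fact (Fintype.card F = 2 ^ (2 * m + 1))]

variable (F m) in
/-- the group of the `u a b` -/
def QQ : Subgroup (Gz F m) where
  carrier := {g | ∃ a b, g = u m a b}
  mul_mem' := by
    rintro _ _ ⟨a, b, rfl⟩ ⟨c, d, rfl⟩
    exact ⟨_, _, u_mul a b c d⟩
  one_mem' := ⟨0, 0, u_zero.symm⟩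
  inv_mem' := by
    rintro _ ⟨a, b, rfl⟩
    exact ⟨_, _, u_inv a b⟩

variable (F m) in
/-- the group of the `u 0 b` -/
def ZQ : Subgroup (Gz F m) where
  carrier := {g | ∃ b, g = u m 0 b}
  mul_mem' := by
    rintro _ _ ⟨b, rfl⟩ ⟨d, rfl⟩
    refine ⟨b + d, ?_⟩
    rw [u_mul, map_zero, zero_mul, add_zero, add_zero]
  one_mem' := ⟨0, u_zero.symm⟩
  inv_mem' := by
    rintro _ ⟨b, rfl⟩
    refine ⟨b, ?_⟩
    rw [u_inv, map_zero, zero_mul, add_zero]

/-- the torus as a homomorphism -/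
def hhom : Fˣ →* Gz F m where
  toFun := hh m
  map_one' := hh_one
  map_mul' := hh_mul

variable (F m) in
/-- the torus -/
def KK : Subgroup (Gz F m) := (hhom (F := F) (m := m)).range

variable (F m) in
/-- the stabilizer of infinity -/
def BB : Subgroup (Gz F m) := MulAction.stabilizer (Gz F m) (pinf F m)

theorem mem_QQ {g : Gz F m} : g ∈ QQ F m ↔ ∃ a b, g = u m a b := Iff.rfl

theorem mem_ZQ {g : Gz F m} : g ∈ ZQ F m ↔ ∃ b, g = u m 0 b := Iff.rfl

theorem mem_KK {g : Gz F m} : g ∈ KK F m ↔ ∃ j, g = hh m j := by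
  constructor
  · rintro ⟨j, hj⟩; exact ⟨j, hj.symm⟩
  · rintro ⟨j, hj⟩; exact ⟨j, hj.symm⟩

theorem mem_BB {g : Gz F m} : g ∈ BB F m ↔ g • pinf F m = pinf F m := MulAction.mem_stabilizer_iff

theorem u_mem_QQ (a b : F) : u m a b ∈ QQ F m := ⟨a, b, rfl⟩

theorem ZQ_le_QQ : ZQ F m ≤ QQ F m := by
  rintro _ ⟨b, rfl⟩; exact ⟨0, b, rfl⟩

theorem QQ_le_BB : QQ F m ≤ BB F m := by
  rintro _ ⟨a, b, rfl⟩; exact mem_BB.2 (u_inf a b)

theorem KK_le_BB : KK F m ≤ BB F m := by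
  intro g hg
  obtain ⟨j, rfl⟩ := mem_KK.1 hg
  exact mem_BB.2 (hh_inf j)

theorem card_QQ : Nat.card (QQ F m) = Nat.card F ^ 2 := by
  rw [pow_two, ← Nat.card_prod]
  apply Nat.card_congr
  refine (Equiv.ofBijective (fun p : F × F => (⟨u m p.1 p.2, u_mem_QQ _ _⟩ : QQ F m)) ⟨?_, ?_⟩).symm
  · rintro ⟨a, b⟩ ⟨c, d⟩ h
    obtain ⟨rfl, rfl⟩ := u_inj (congrArg Subtype.val h)
    rfl
  · rintro ⟨g, a, b, rfl⟩
    exact ⟨(a, b), rfl⟩

theorem card_ZQ : Nat.card (ZQ F m) = Nat.card F := by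
  apply Nat.card_congr
  refine (Equiv.ofBijective (fun p : F => (⟨u m 0 p, ⟨p, rfl⟩⟩ : ZQ F m)) ⟨?_, ?_⟩).symm
  · rintro a b h
    exact (u_inj (congrArg Subtype.val h)).2
  · rintro ⟨g, b, rfl⟩
    exact ⟨b, rfl⟩

theorem hhom_inj : Function.Injective (hhom (F := F) (m := m)) := fun _ _ h => hh_inj h

variable (F m) in
/-- the torus is the multiplicative group -/
noncomputable def KK_equiv : KK F m ≃* Fˣ := (MonoidHom.ofInjective (hhom_inj (F := F) (m := m))).symm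

theorem card_KK : Nat.card (KK F m) = Nat.card F - 1 := by
  rw [Nat.card_congr (KK_equiv F m).toEquiv, Nat.card_units]

instance isCyclic_KK : IsCyclic (KK F m) := isCyclic_of_surjective (KK_equiv F m).symm.toMonoidHom
  (KK_equiv F m).symm.surjective

theorem card_Om : Nat.card (Om F m) = Nat.card F ^ 2 + 1 := by
  have h : Nat.card (Option (F × F)) = Nat.card F ^ 2 + 1 := by
    rw [Nat.card_eq_fintype_card, Fintype.card_option, Fintype.card_prod, Nat.card_eq_fintype_card, pow_two]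
  rw [← h]
  apply Nat.card_congr
  refine (Equiv.ofBijective (fun o : Option (F × F) =>
    (match o with | none => pinf F m | some p => pp m p.1 p.2 : Om F m)) ⟨?_, ?_⟩).symm
  · rintro (_ | ⟨a, b⟩) (_ | ⟨c, d⟩) h
    · rfl
    · exact absurd h.symm (pp_ne_inf _ _)
    · exact absurd h (pp_ne_inf _ _)
    · obtain ⟨h1, h2⟩ := pp_inj h
      dsimp only at h1 h2
      rw [h1, h2]
  · intro p
    by_cases hp : p = pinf F m
    · exact ⟨none, hp.symm⟩
    · obtain ⟨x, y, rfl⟩ := exists_pp hp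
      exact ⟨some (x, y), rfl⟩

section
variable [hm : Fact (1 ≤ m)]

theorem mem_BB' {g : Gz F m} : g ∈ BB F m ↔ ∃ a b j, g = u m a b * hh m j := by
  constructor
  · intro h; exact stab_inf (mem_BB.1 h)
  · rintro ⟨a, b, j, rfl⟩
    exact mul_mem (QQ_le_BB (u_mem_QQ a b)) (KK_le_BB (mem_KK.2 ⟨j, rfl⟩))

theorem card_BB : Nat.card (BB F m) = Nat.card F ^ 2 * (Nat.card F - 1) := by
  have h : Nat.card ((F × F) × Fˣ) = Nat.card F ^ 2 * (Nat.card F - 1) := by
    rw [Nat.card_prod, Nat.card_prod, pow_two, Nat.card_units]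
  rw [← h]
  apply Nat.card_congr
  refine (Equiv.ofBijective (fun p : (F × F) × Fˣ =>
    (⟨u m p.1.1 p.1.2 * hh m p.2, mem_BB'.2 ⟨_, _, _, rfl⟩⟩ : BB F m)) ⟨?_, ?_⟩).symm
  · rintro ⟨⟨a, b⟩, i⟩ ⟨⟨c, d⟩, j⟩ h
    obtain ⟨rfl, rfl, rfl⟩ := uh_inj (congrArg Subtype.val h)
    rfl
  · rintro ⟨g, hg⟩
    obtain ⟨a, b, j, rfl⟩ := mem_BB'.1 hg
    exact ⟨((a, b), j), rfl⟩

omit hm in
instance isPretrans : MulAction.IsPretransitive (Gz F m) (Om F m) := by
  refine ⟨fun p q => ?_⟩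
  obtain ⟨g, hg⟩ := exists_to_inf p
  obtain ⟨k, hk⟩ := exists_to_inf q
  exact ⟨k⁻¹ * g, by rw [mul_smul, hg, ← hk, inv_smul_smul]⟩

omit hm in
theorem index_BB : (BB F m).index = Nat.card F ^ 2 + 1 := by
  rw [BB, MulAction.index_stabilizer_of_transitive, card_Om]

theorem card_Gz : Nat.card (Gz F m) = (Nat.card F ^ 2 + 1) * (Nat.card F ^ 2 * (Nat.card F - 1)) := by
  rw [← (BB F m).index_mul_card, index_BB, card_BB]

/-- Bruhat decomposition -/
theorem bruhat {g : Gz F m} (hg : g ∉ BB F m) :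
    ∃ x y a b j, g = u m x y * ww F m * (u m a b * hh m j) := by
  have h1 : g • pinf F m ≠ pinf F m := fun h => hg (mem_BB.2 h)
  obtain ⟨x, y, hxy⟩ := exists_pp h1
  obtain ⟨a, b, j, hj⟩ := mem_BB'.1 (show (ww F m)⁻¹ * (u m x y)⁻¹ * g ∈ BB F m from mem_BB.2 (by
    rw [mul_smul, mul_smul, hxy, ← u_smul_zero x y, inv_smul_smul, inv_smul_eq_iff, ww_inf]))
  refine ⟨x, y, a, b, j, ?_⟩
  rw [← hj]; group

omit hm in
theorem ww_fix : ww F m • pp m 1 1 = pp m (1 : F) 1 := by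
  have h : zz m (1 : F) 1 = 1 := by
    rw [zz_def, map_one]
    have := two0 (1 : F)
    linear_combination this
  rw [ww_pp (by rw [h]; exact one_ne_zero), h, div_one]

/-- the involution `w` is conjugate to an element of `Z(Q)`. -/
theorem ww_conj : ∃ (x : Gz F m) (b : F), ww F m = x * u m 0 b * x⁻¹ := by
  obtain ⟨k, hk⟩ := exists_to_inf (pp m (1 : F) 1)
  have h1 : (k * ww F m * k⁻¹) • pinf F m = pinf F m := by
    rw [← hk, mul_smul, mul_smul, inv_smul_smul, ww_fix]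
  obtain ⟨a, b, j, hj⟩ := stab_inf h1
  have h2 : (u m a b * hh m j) * (u m a b * hh m j) = u m 0 0 * hh m 1 := by
    rw [← hj, u_zero, hh_one]
    calc k * ww F m * k⁻¹ * (k * ww F m * k⁻¹) = k * (ww F m * ww F m) * k⁻¹ := by group
      _ = 1 * 1 := by rw [ww_ww]; group
  have h3 : (u m a b * hh m j) * (u m a b * hh m j) =
      u m (a + sg F m j * a) (b + sg F m j * j ^ 2 * b + sg F m a * (sg F m j * a)) * hh m (j * j) := by
    calc (u m a b * hh m j) * (u m a b * hh m j) = u m a b * (hh m j * u m a b) * hh m j := by group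
      _ = _ := by rw [hh_u, hh_mul, ← u_mul]; group
  rw [h3] at h2
  obtain ⟨h4, h5, h6⟩ := uh_inj h2
  have hj1 : j = 1 := by
    apply Units.ext
    have h7 : ((j : F) - 1) ^ 2 = 0 := by
      have h8 : (j : F) * j = 1 := by rw [← Units.val_mul, h6, Units.val_one]
      have h9 := two0 (j : F)
      have h10 := two0 (1 : F)
      linear_combination h8 - h9 + h10
    exact sub_eq_zero.1 (pow_eq_zero_iff two_ne_zero |>.1 h7)
  have ha : a = 0 := by
    rw [hj1, Units.val_one, map_one] at h5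
    have h6 : sg F m a * a = 0 := by
      have := two0 b
      linear_combination h5 - this
    rcases mul_eq_zero.1 h6 with h | h
    · exact sg_eq_zero.1 h
    · exact h
  refine ⟨k⁻¹, b, ?_⟩
  rw [hj1, hh_one, mul_one, ha] at hj
  rw [← hj]; group

include hF hm in
omit [CharP F 2] in
/-- there is a torus element of order `> 1` -/
theorem exists_j : ∃ j : Fˣ, j ≠ 1 := by
  by_contra h
  push Not at h
  have h1 : Nat.card Fˣ = 1 := by
    rw [Nat.card_eq_one_iff_unique]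
    exact ⟨⟨fun a b => (h a).trans (h b).symm⟩, ⟨1⟩⟩
  rw [Nat.card_units, Nat.card_eq_fintype_card, hF.1] at h1
  have h2 : 2 ^ 3 ≤ 2 ^ (2 * m + 1) := Nat.pow_le_pow_right (by norm_num) (by have := hm.1; omega)
  omega

theorem eq_top_of_normal {N : Subgroup (Gz F m)} [hN : N.Normal] (h : ZQ F m ≤ N) : N = ⊤ := by
  have hw : ww F m ∈ N := by
    obtain ⟨x, b, hb⟩ := ww_conj (F := F) (m := m)
    rw [hb]
    exact hN.conj_mem _ (h ⟨b, rfl⟩) x
  have hK : ∀ j, hh m j ∈ N := by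
    intro j
    obtain ⟨i, hi⟩ : ∃ i : Fˣ, i * i = j := by
      obtain ⟨y, hy⟩ := sg_surj F m (j : F)
      have hy0 : sg F m y ≠ 0 := by
        intro h0
        have : (j : F) = 0 := by rw [← hy, h0]
        exact j.ne_zero this
      obtain ⟨t, ht⟩ := sg_surj F m y
      refine ⟨Units.mk0 t ?_, ?_⟩
      · rintro rfl
        rw [map_zero] at ht
        rw [← ht, map_zero] at hy0
        exact hy0 rfl
      · apply Units.ext
        rw [Units.val_mul, Units.val_mk0, ← hy, ← pow_two, ← sg_sg (m := m), ht]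
    have h1 : hh m i * ww F m * (hh m i)⁻¹ * (ww F m)⁻¹ ∈ N :=
      mul_mem (hN.conj_mem _ hw _) (inv_mem hw)
    have h2 : hh m i * ww F m * (hh m i)⁻¹ * (ww F m)⁻¹ = hh m j := by
      rw [ww_inv, hh_inv, mul_assoc, mul_assoc]
      have : ww F m * (hh m i⁻¹ * ww F m) = hh m i := by
        rw [← mul_assoc, ww_hh, mul_assoc, ww_ww, mul_one, inv_inv]
      rw [this, ← hh_mul, hi]
    rwa [h2] at h1
  have hQ : ∀ a b, u m a b ∈ N := by
    obtain ⟨j, hj⟩ := exists_j (F := F) (m := m)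
    intro a b
    have e1 : sg F m (j : F) + 1 ≠ 0 := by
      intro h0
      apply hj (j_eq_one_of_sg (m := m) _)
      have := two0 (1 : F)
      linear_combination h0 - this
    obtain ⟨c, hc⟩ : ∃ c, c = a / (sg F m (j : F) + 1) := ⟨_, rfl⟩
    have hc' : c * (sg F m (j : F) + 1) = a := by rw [hc]; field_simp
    have h1 : hh m j * (u m c 0 * (hh m j)⁻¹ * (u m c 0)⁻¹) ∈ N :=
      mul_mem (hK j) (hN.conj_mem _ (inv_mem (hK j)) _)
    have h2 : hh m j * (u m c 0 * (hh m j)⁻¹ * (u m c 0)⁻¹) =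
        u m a (sg F m c * c + sg F m (sg F m j * c) * c) := by
      have : hh m j * (u m c 0 * (hh m j)⁻¹ * (u m c 0)⁻¹) =
        (hh m j * u m c 0) * (hh m j)⁻¹ * (u m c 0)⁻¹ := by group
      rw [this, hh_u, mul_inv_cancel_right, u_inv, u_mul, mul_zero, zero_add, zero_add]
      congr 1
      rw [← hc']; ring
    rw [h2] at h1
    have h3 := mul_mem (h ⟨b + (sg F m c * c + sg F m (sg F m j * c) * c), rfl⟩) h1
    rw [u_mul, map_zero, zero_mul, add_zero, zero_add, add_assoc, two0, add_zero] at h3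
    exact h3
  rw [eq_top_iff]
  intro g _
  by_cases hg : g ∈ BB F m
  · obtain ⟨a, b, j, rfl⟩ := mem_BB'.1 hg
    exact mul_mem (hQ a b) (hK j)
  · obtain ⟨x, y, a, b, j, rfl⟩ := bruhat hg
    exact mul_mem (mul_mem (hQ x y) hw) (mul_mem (hQ a b) (hK j))

end

end CfsgL.Sz
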