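import Mathlib

/-! Matrices of prime order dividing `q^2+1` acting on a 4-dimensional space. -/

set_option autoImplicit false

namespace CfsgL.Sz

open Matrix

theorem num_aux {q p : ℕ} (hp : p.Prime) (hp2 : p ≠ 2) (hd : p ∣ q ^ 2 + 1) {d e : ℕ} (hed : e ≤ d)
    (h : q ^ d ≡ q ^ e [MOD p]) (hde : d - e ≤ 3) : d = e := by
  haveI : Fact p.Prime := ⟨hp⟩
  have h1 : (q : ZMod p) ^ 2 = -1 := by
    have : ((q ^ 2 + 1 : ℕ) : ZMod p) = 0 := (ZMod.natCast_eq_zero_iff _ _).2 hd
    push_cast at this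
    linear_combination this
  have hq0 : (q : ZMod p) ≠ 0 := by
    intro h0
    rw [h0] at h1
    have : (1 : ZMod p) = 0 := by linear_combination h1
    exact one_ne_zero this
  have h2 : (2 : ZMod p) ≠ 0 := by
    intro h0
    have : ((2 : ℕ) : ZMod p) = 0 := by exact_mod_cast h0
    rw [ZMod.natCast_eq_zero_iff] at this
    exact hp2 ((Nat.prime_dvd_prime_iff_eq hp Nat.prime_two).1 this)
  have h3 : (q : ZMod p) ^ d = (q : ZMod p) ^ e := by
    have := (ZMod.natCast_eq_natCast_iff _ _ _).2 h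
    push_cast at this
    exact this
  obtain ⟨k, rfl⟩ := Nat.exists_eq_add_of_le hed
  rw [pow_add] at h3
  have h4 : (q : ZMod p) ^ k = 1 := by
    have h5 : (q : ZMod p) ^ e * ((q : ZMod p) ^ k - 1) = 0 := by linear_combination h3
    rcases mul_eq_zero.1 h5 with h6 | h6
    · exact absurd h6 (pow_ne_zero _ hq0)
    · exact sub_eq_zero.1 h6
  have hk : k ≤ 3 := by omega
  interval_cases k
  · rfl
  · exfalso
    rw [pow_one] at h4
    rw [h4] at h1
    apply h2; linear_combination h1
  · exfalso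
    rw [h4] at h1
    apply h2; linear_combination h1
  · exfalso
    have h7 : (q : ZMod p) = -1 := by linear_combination (-1 : ZMod p) * h4 + (q : ZMod p) * h1
    rw [h7] at h1
    apply h2; linear_combination h1

variable {F : Type*} [Field F] [Fintype F]

theorem invariant_fixed {A : Matrix (Fin 4) (Fin 4) F} {p : ℕ} (hp : p.Prime) (hp2 : p ≠ 2)
    (hd : p ∣ Fintype.card F ^ 2 + 1) (hA : A ^ p = 1) (W : Submodule F (Fin 4 → F))
    (hW : ∀ w ∈ W, A.mulVec w ∈ W) (hdim : Module.finrank F W -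
      Module.finrank F ↥(W ⊓ LinearMap.ker (A.mulVecLin - LinearMap.id)) ≤ 3) :
    W ≤ LinearMap.ker (A.mulVecLin - LinearMap.id) := by
  classical
  haveI : Fact p.Prime := ⟨hp⟩
  let W' : Submodule F (Fin 4 → F) := W ⊓ LinearMap.ker (A.mulVecLin - LinearMap.id)
  let f : Function.End W := fun w => ⟨A.mulVec w, hW _ w.2⟩
  have hfp : ∀ (n : ℕ) (w : W), ((f ^ n) w : Fin 4 → F) = (A ^ n).mulVec w := by
    intro n
    induction n with
    | zero => intro w; rw [pow_zero, pow_zero, Matrix.one_mulVec]; rfl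
    | succ n ih =>
      intro w
      rw [pow_succ, pow_succ]
      change ((f ^ n) (f w) : Fin 4 → F) = _
      rw [ih, ← Matrix.mulVec_mulVec]
  have hf : f ^ p ^ 1 = 1 := by
    funext w
    apply Subtype.ext
    rw [hfp, pow_one, hA, Matrix.one_mulVec]; rfl
  have h1 := Equiv.Perm.card_fixedPoints_modEq hf
  have h2 : Fintype.card f.fixedPoints = Fintype.card W' := by
    apply Fintype.card_congr
    refine ⟨fun w => ⟨w.1.1, w.1.2, ?_⟩, fun w => ⟨⟨w.1, w.2.1⟩, ?_⟩, fun w => rfl, fun w => rfl⟩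
    · have : f w.1 = w.1 := w.2
      change A.mulVec w.1.1 - w.1.1 = 0
      have h3 : A.mulVec w.1.1 = w.1.1 := congrArg Subtype.val this
      rw [h3, sub_self]
    · have : A.mulVec w.1 - w.1 = 0 := w.2.2
      exact Subtype.ext (sub_eq_zero.1 this)
  rw [h2, Module.card_eq_pow_finrank (K := F) (V := W), Module.card_eq_pow_finrank (K := F) (V := W')] at h1
  have h3 : Module.finrank F W' ≤ Module.finrank F W := Submodule.finrank_mono inf_le_left
  have h4 := num_aux hp hp2 hd h3 h1 hdim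
  have h5 : W' = W := Submodule.eq_of_le_of_finrank_eq inf_le_left h4.symm
  rw [← h5]; exact inf_le_right

theorem irred {A : Matrix (Fin 4) (Fin 4) F} {p : ℕ} (hp : p.Prime) (hp2 : p ≠ 2)
    (hd : p ∣ Fintype.card F ^ 2 + 1) (hA : A ^ p = 1) (hA1 : A ≠ 1) (W : Submodule F (Fin 4 → F))
    (hW : ∀ w ∈ W, A.mulVec w ∈ W) : W = ⊥ ∨ W = ⊤ := by
  by_cases hb : W = ⊥
  · exact Or.inl hb
  by_cases ht : W = ⊤
  · exact Or.inr ht
  exfalso
  have h1 : Module.finrank F W ≤ 3 := by
    have := Submodule.finrank_lt ht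
    rw [Module.finrank_fin_fun] at this
    omega
  have h2 := invariant_fixed hp hp2 hd hA W hW (by omega)
  have h3 := invariant_fixed hp hp2 hd hA ⊤ (fun w _ => trivial) (by
    rw [finrank_top, Module.finrank_fin_fun, top_inf_eq]
    have h4 := Submodule.finrank_mono h2
    have h5 : 0 < Module.finrank F W := by
      rw [Nat.pos_iff_ne_zero]
      intro h0
      exact hb (Submodule.finrank_eq_zero.1 h0)
    omega)
  apply hA1
  have h4 : ∀ v, A.mulVec v = v := by
    intro v
    have := h3 (Submodule.mem_top (x := v))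
    change A.mulVec v - v = 0 at this
    exact sub_eq_zero.1 this
  ext i j
  have := congrFun (h4 (Pi.single j 1)) i
  rw [Matrix.mulVec_single_one] at this
  simpa [Matrix.one_apply, Pi.single_apply] using this

theorem comm_ker {A B : Matrix (Fin 4) (Fin 4) F} {p : ℕ} (hp : p.Prime) (hp2 : p ≠ 2)
    (hd : p ∣ Fintype.card F ^ 2 + 1) (hA : A ^ p = 1) (hA1 : A ≠ 1) (hAB : A * B = B * A)
    (hB : B ≠ 0) {v : Fin 4 → F} (hv : B.mulVec v = 0) : v = 0 := by
  rcases irred hp hp2 hd hA hA1 (LinearMap.ker B.mulVecLin) (by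
    intro w hw
    have hw' : B.mulVec w = 0 := hw
    change B.mulVec (A.mulVec w) = 0
    rw [Matrix.mulVec_mulVec, ← hAB, ← Matrix.mulVec_mulVec, hw', Matrix.mulVec_zero]) with h | h
  · have h1 : v ∈ LinearMap.ker B.mulVecLin := hv
    rw [h] at h1
    exact h1
  · exfalso
    apply hB
    ext i j
    have h1 : Pi.single j 1 ∈ LinearMap.ker B.mulVecLin := by rw [h]; trivial
    have h2 : B.mulVec (Pi.single j 1) = 0 := h1
    rw [Matrix.mulVec_single_one] at h2
    exact congrFun h2 i

open Polynomial in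
omit [Fintype F] in
theorem root_count {M C : Type*} [Ring M] [Algebra F M] [CommRing C] [IsDomain C] (j : C →+* M)
    (hj : Function.Injective j) (i : F →+* C) (hij : ∀ a, j (i a) = algebraMap F M a) (P : F[X])
    (hP : P ≠ 0) (S : Set C) (hS : ∀ x ∈ S, aeval (j x) P = 0) : S.ncard ≤ P.natDegree := by
  classical
  have h1 : P.map i ≠ 0 := (Polynomial.map_ne_zero_iff i.injective).2 hP
  have h2 : S ⊆ ((P.map i).roots.toFinset : Set C) := by
    intro x hx
    rw [Finset.mem_coe, Multiset.mem_toFinset, Polynomial.mem_roots h1, Polynomial.IsRoot.def]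
    apply hj
    rw [map_zero, ← hS x hx, Polynomial.eval_map, Polynomial.hom_eval₂, Polynomial.aeval_def]
    congr 1
    ext a
    exact hij a
  calc S.ncard ≤ ((P.map i).roots.toFinset : Set C).ncard := Set.ncard_le_ncard h2 (Finset.finite_toSet _)
    _ = (P.map i).roots.toFinset.card := Set.ncard_coe_finset _
    _ ≤ Multiset.card (P.map i).roots := Multiset.toFinset_card_le _
    _ ≤ (P.map i).natDegree := Polynomial.card_roots' _
    _ ≤ P.natDegree := Polynomial.natDegree_map_le


theorem exists_comm_ring.{u} {F : Type u} [Field F] [Fintype F] {A : Matrix (Fin 4) (Fin 4) F} {p : ℕ}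
    (hp : p.Prime) (hp2 : p ≠ 2)
    (hd : p ∣ Fintype.card F ^ 2 + 1) (hA : A ^ p = 1) (hA1 : A ≠ 1) :
    ∃ (C : Type u) (_ : CommRing C) (_ : IsDomain C) (j : C →+* Matrix (Fin 4) (Fin 4) F) (i : F →+* C),
      Function.Injective j ∧ (∀ a, j (i a) = algebraMap F _ a) ∧ ∀ B, (∃ c, j c = B) ↔ A * B = B * A := by
  classical
  let C : Subalgebra F (Matrix (Fin 4) (Fin 4) F) := Subalgebra.centralizer F {A}
  have hmem : ∀ B : Matrix (Fin 4) (Fin 4) F, B ∈ C ↔ A * B = B * A := by
    intro B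
    rw [Subalgebra.mem_centralizer_iff]
    constructor
    · intro h; exact h _ rfl
    · rintro h _ rfl; exact h
  haveI : NoZeroDivisors C := by
    refine ⟨fun {x y} hxy => ?_⟩
    by_cases hx : x = 0
    · exact Or.inl hx
    right
    have hx' : (x : Matrix (Fin 4) (Fin 4) F) ≠ 0 := fun h => hx (Subtype.ext h)
    have hxy' : (x : Matrix (Fin 4) (Fin 4) F) * y = 0 := congrArg Subtype.val hxy
    apply Subtype.ext
    change (y : Matrix (Fin 4) (Fin 4) F) = 0
    have h1 : ∀ v, (y : Matrix (Fin 4) (Fin 4) F).mulVec v = 0 := by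
      intro v
      apply comm_ker hp hp2 hd hA hA1 ((hmem _).1 x.2) hx'
      rw [Matrix.mulVec_mulVec, hxy', Matrix.zero_mulVec]
    ext i j
    have := congrFun (h1 (Pi.single j 1)) i
    rw [Matrix.mulVec_single_one] at this
    exact this
  haveI : Nontrivial C := ⟨0, 1, fun h => by
    have : (0 : Matrix (Fin 4) (Fin 4) F) = 1 := congrArg Subtype.val h
    exact zero_ne_one this⟩
  haveI : IsDomain C := NoZeroDivisors.to_isDomain C
  haveI : Finite C := Subtype.finite
  have hfield := Finite.isDomain_to_isField C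
  have hcomm : ∀ x y : C, x * y = y * x := hfield.mul_comm
  letI instC : CommRing C := { (inferInstance : Ring C) with mul_comm := hcomm }
  haveI hdom : IsDomain C := NoZeroDivisors.to_isDomain C
  refine ⟨C, instC, hdom, ?_, ?_, ?_, ?_, ?_⟩
  · exact {
      toFun := Subtype.val
      map_one' := rfl
      map_mul' := fun _ _ => rfl
      map_zero' := rfl
      map_add' := fun _ _ => rfl }
  · exact {
      toFun := fun a => ⟨algebraMap F _ a, C.algebraMap_mem a⟩
      map_one' := Subtype.ext (map_one _)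
      map_mul' := fun _ _ => Subtype.ext (map_mul _ _ _)
      map_zero' := Subtype.ext (map_zero _)
      map_add' := fun _ _ => Subtype.ext (map_add _ _ _) }
  · exact fun _ _ h => Subtype.ext h
  · exact fun _ => rfl
  · intro B
    rw [← hmem]
    exact ⟨fun ⟨c, hc⟩ => hc ▸ c.2, fun h => ⟨⟨B, h⟩, rfl⟩⟩

theorem cyc_cent {G : Type*} [Group G] [Finite G] (ρ : G →* Matrix (Fin 4) (Fin 4) F)
    (hρ : Function.Injective ρ) (g : G)
    {p : ℕ} (hp : p.Prime) (hp2 : p ≠ 2) (hd : p ∣ Fintype.card F ^ 2 + 1) (hg : g ^ p = 1) (hg1 : g ≠ 1) :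
    IsCyclic (Subgroup.centralizer {g}) ∧
      Nat.card {x : G // x ∈ Subgroup.centralizer {g} ∧ ∃ n, x = n * g * n⁻¹} ≤ 4 := by
  classical
  have hA : ρ g ^ p = 1 := by rw [← map_pow, hg, map_one]
  have hA1 : ρ g ≠ 1 := fun h => hg1 (hρ (h.trans (map_one ρ).symm))
  obtain ⟨C, _, _, j, i, hj, hij, hC⟩ := exists_comm_ring hp hp2 hd hA hA1
  have hex : ∀ x : Subgroup.centralizer {g}, ∃ c, j c = ρ x := fun x => (hC _).2 (by
    rw [← map_mul, ← map_mul, Subgroup.mem_centralizer_singleton_iff.1 x.2])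
  choose f0 hf0 using hex
  let f : Subgroup.centralizer {g} →* C := {
    toFun := f0
    map_one' := hj (by rw [hf0, map_one, Subgroup.coe_one, map_one])
    map_mul' := fun x y => hj (by rw [hf0, map_mul, hf0, hf0, Subgroup.coe_mul, map_mul]) }
  have hf : Function.Injective f := by
    intro x y h
    have h' : f0 x = f0 y := h
    exact Subtype.ext (hρ (by rw [← hf0, ← hf0, h']))
  refine ⟨isCyclic_of_injective_ringHom (R := C) f hf, ?_⟩
  have h1 := root_count (F := F) (M := Matrix (Fin 4) (Fin 4) F) (C := C) j hj i hij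
    (ρ g).charpoly (Matrix.charpoly_monic _).ne_zero
    (f '' {x | ∃ n, (x : G) = n * g * n⁻¹}) (by
      rintro _ ⟨x, ⟨n, hn⟩, rfl⟩
      have h1 : (ρ x).charpoly = (ρ g).charpoly := by
        rw [hn, map_mul, Matrix.charpoly_mul_comm, ← map_mul]
        congr 2
        group
      rw [← h1]
      change Polynomial.aeval (j (f0 x)) _ = 0
      rw [hf0]
      exact Matrix.aeval_self_charpoly _)
  rw [Matrix.charpoly_natDegree_eq_dim, Fintype.card_fin, Set.ncard_image_of_injective _ hf] at h1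
  refine le_trans (le_of_eq ?_) h1
  rw [← Nat.card_coe_set_eq]
  apply Nat.card_congr
  exact ⟨fun x => ⟨⟨x.1, x.2.1⟩, x.2.2⟩, fun x => ⟨x.1.1, x.1.2, x.2⟩, fun _ => rfl, fun _ => rfl⟩

end CfsgL.Sz
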