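import Mathlib

/-! Counting the elements conjugate into a TI subgroup. -/

set_option autoImplicit false

namespace CfsgL.Sz

variable {G : Type*} [Group G]

/-- nontrivial elements conjugate into `T` -/
def cc (T : Subgroup G) : Set G := {g | g ≠ 1 ∧ ∃ x, x * g * x⁻¹ ∈ T}

theorem mem_nrm {T : Subgroup G} {x : G} : x ∈ Subgroup.normalizer (T : Set G) ↔
    ∀ t, t ∈ T ↔ x * t * x⁻¹ ∈ T := Subgroup.mem_normalizer_iff

theorem card_cc [Finite G] (T : Subgroup G)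
    (hTI : ∀ x t : G, t ∈ T → t ≠ 1 → x * t * x⁻¹ ∈ T → x ∈ Subgroup.normalizer (T : Set G)) :
    (cc T).ncard = (Subgroup.normalizer (T : Set G)).index * (Nat.card T - 1) := by
  classical
  have h1 : Nat.card {t : T // t ≠ 1} = Nat.card T - 1 := by
    haveI : Fintype T := Fintype.ofFinite _
    rw [Nat.card_eq_fintype_card, Nat.card_eq_fintype_card, Fintype.card_subtype_compl,
      Fintype.card_subtype_eq]
  rw [← h1, Subgroup.index, ← Nat.card_prod, ← Nat.card_coe_set_eq]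
  apply Nat.card_congr
  refine (Equiv.ofBijective (fun p : (G ⧸ Subgroup.normalizer (T : Set G)) × {t : T // t ≠ 1} =>
    (⟨p.1.out * (p.2.1 : G) * p.1.out⁻¹, ?_, p.1.out⁻¹, ?_⟩ : cc T)) ⟨?_, ?_⟩).symm
  · intro h
    apply p.2.2
    apply Subtype.ext
    rw [mul_inv_eq_one] at h
    exact mul_eq_left.1 h
  · have : p.1.out⁻¹ * (p.1.out * (p.2.1 : G) * p.1.out⁻¹) * p.1.out⁻¹⁻¹ = p.2.1 := by group
    rw [this]; exact p.2.1.2
  · rintro ⟨c, t⟩ ⟨d, s⟩ h
    have h2 : c.out * (t.1 : G) * c.out⁻¹ = d.out * (s.1 : G) * d.out⁻¹ := congrArg Subtype.val h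
    have h3 : (d.out⁻¹ * c.out) * (t.1 : G) * (d.out⁻¹ * c.out)⁻¹ = s.1 := by
      calc (d.out⁻¹ * c.out) * (t.1 : G) * (d.out⁻¹ * c.out)⁻¹
          = d.out⁻¹ * (c.out * (t.1 : G) * c.out⁻¹) * d.out := by group
        _ = _ := by rw [h2]; group
    have h4 : d.out⁻¹ * c.out ∈ Subgroup.normalizer (T : Set G) :=
      hTI _ t.1 t.1.2 (fun h0 => t.2 (Subtype.ext h0)) (h3 ▸ s.1.2)
    have h5 : c = d := by
      rw [← QuotientGroup.out_eq' c, ← QuotientGroup.out_eq' d]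
      exact (QuotientGroup.eq.2 h4).symm
    subst h5
    have h6 : (t.1 : G) = s.1 := by
      have := h3
      rw [inv_mul_cancel] at this
      simpa using this
    rw [Subtype.ext (Subtype.ext h6)]
  · rintro ⟨g, hg1, x, hx⟩
    obtain ⟨n, hn⟩ := QuotientGroup.mk_out_eq_mul (Subgroup.normalizer (T : Set G)) x⁻¹
    obtain ⟨c, hc⟩ : ∃ c : G ⧸ Subgroup.normalizer (T : Set G), c = (x⁻¹ : G) := ⟨_, rfl⟩
    rw [← hc] at hn
    have h7 : c.out⁻¹ * g * c.out ∈ T := by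
      rw [hn]
      have h8 : (x⁻¹ * (n : G))⁻¹ * g * (x⁻¹ * n) = (n : G)⁻¹ * (x * g * x⁻¹) * (n : G)⁻¹⁻¹ := by group
      rw [h8]
      exact (mem_nrm.1 (inv_mem n.2) _).1 hx
    refine ⟨(c, ⟨⟨_, h7⟩, ?_⟩), ?_⟩
    · intro h9
      have h10 : c.out⁻¹ * g * c.out = 1 := congrArg Subtype.val h9
      apply hg1
      calc g = c.out * (c.out⁻¹ * g * c.out) * c.out⁻¹ := by group
        _ = 1 := by rw [h10]; group
    · apply Subtype.ext
      change c.out * (c.out⁻¹ * g * c.out) * c.out⁻¹ = g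
      group

end CfsgL.Sz
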