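import Cfsg.Agent.L.Sz.Simple
import Cfsg.Agent.L.Sz.Sing
import Cfsg.Agent.L.Sz.TI

/-! The Suzuki groups: centralizers, the Sylow 2-subgroup and the torus. -/

set_option autoImplicit false

namespace CfsgL.Sz

open Matrix Subgroup

variable {F : Type*} [Field F] [Fintype F] {m : ℕ} [CharP F 2] [hF : Fact (Fintype.card F = 2 ^ (2 * m + 1))]

section
variable [hm : Fact (1 ≤ m)]

omit hm in
theorem u_fix {a b : F} (h : a ≠ 0 ∨ b ≠ 0) {p : Om F m} (hp : u m a b • p = p) : p = pinf F m := by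
  by_contra hne
  obtain ⟨x, y, rfl⟩ := exists_pp hne
  rw [u_pp] at hp
  obtain ⟨h1, h2⟩ := pp_inj hp
  have ha : a = 0 := by linear_combination h1
  rw [ha, map_zero, zero_mul, add_zero] at h2
  have hb : b = 0 := by linear_combination h2
  rcases h with h | h
  · exact h ha
  · exact h hb

omit hm in
theorem hh_fix' {j : Fˣ} (hj : j ≠ 1) {p : Om F m} (hp : hh m j • p = p) : p = pinf F m ∨ p = pzero F m := by
  by_cases hne : p = pinf F m
  · exact Or.inl hne
  · right
    obtain ⟨x, y, rfl⟩ := exists_pp hne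
    rcases hh_fix hp with h | ⟨rfl, rfl⟩
    · exact absurd h hj
    · rfl

omit hm in
theorem hh_zero (j : Fˣ) : hh m j • pzero F m = pzero F m := by
  rw [hh_pp, mul_zero, mul_zero]

/-- an element swapping infinity and zero is conjugate to `w` -/
theorem swap_form {g : Gz F m} (h1 : g • pinf F m = pzero F m) (h2 : g • pzero F m = pinf F m) :
    ∃ i, g = hh m i * ww F m := by
  obtain ⟨i, hi⟩ := fix_two' (g := g * ww F m) (by rw [mul_smul, ww_inf, h2])
    (by rw [mul_smul, ww_zero, h1])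
  exact ⟨i, by rw [← hi, mul_assoc, ww_ww, mul_one]⟩

include hF in
omit hm [CharP F 2] in
theorem exists_sqrt (j : Fˣ) [CharP F 2] : ∃ i : Fˣ, i * i = j := by
  obtain ⟨y, hy⟩ := sg_surj F m (j : F)
  obtain ⟨t, ht⟩ := sg_surj F m y
  refine ⟨Units.mk0 t ?_, ?_⟩
  · rintro rfl
    rw [map_zero] at ht
    rw [← ht, map_zero] at hy
    exact j.ne_zero hy.symm
  · apply Units.ext
    rw [Units.val_mul, Units.val_mk0, ← hy, ← pow_two, ← sg_sg (m := m), ht]

theorem swap_conj {g : Gz F m} (h1 : g • pinf F m = pzero F m) (h2 : g • pzero F m = pinf F m) :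
    ∃ i, g = hh m i * ww F m * (hh m i)⁻¹ := by
  obtain ⟨j, hj⟩ := swap_form h1 h2
  obtain ⟨i, hi⟩ := exists_sqrt (m := m) j
  refine ⟨i, ?_⟩
  rw [hj, ← hi, hh_mul, mul_assoc, mul_assoc]
  congr 1
  rw [hh_inv, ww_hh, inv_inv]

theorem ww_fixes : ∃ p : Om F m, ww F m • p = p := ⟨_, ww_fix⟩

/-- fixed-point-free -/
def Fpf (g : Gz F m) : Prop := ∀ p : Om F m, g • p ≠ p

omit hm [CharP F 2] [Fintype F] hF in
theorem Fpf.conj [CharP F 2] [Fintype F] [Fact (Fintype.card F = 2 ^ (2 * m + 1))] {g : Gz F m} (hg : Fpf g) (x : Gz F m) : Fpf (x * g * x⁻¹) := by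
  intro p hp
  apply hg (x⁻¹ • p)
  rw [mul_smul, mul_smul, smul_eq_iff_eq_inv_smul] at hp
  exact hp

theorem comm_fix {g c : Gz F m} (hc : c ≠ 1) (hgc : g * c = c * g) (hp : ∃ p : Om F m, c • p = p) :
    ∃ p : Om F m, g • p = p := by
  rcases tri c with ⟨x, a, b, hx⟩ | ⟨x, j, hj, hx⟩ | h
  · have hab : a ≠ 0 ∨ b ≠ 0 := by
      by_contra h
      push Not at h
      rw [h.1, h.2, u_zero, mul_one, mul_inv_cancel] at hx
      exact hc hx
    refine ⟨x • pinf F m, ?_⟩
    have h1 : u m a b • (x⁻¹ • (g • (x • pinf F m))) = x⁻¹ • (g • (x • pinf F m)) := by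
      have h2 : u m a b = x⁻¹ * c * x := by rw [hx]; group
      rw [← mul_smul, ← mul_smul, ← mul_smul, h2]
      have h3 : x⁻¹ * c * x * x⁻¹ * g * x = x⁻¹ * g * x * u m a b := by
        calc x⁻¹ * c * x * x⁻¹ * g * x = x⁻¹ * (c * g) * x := by group
          _ = x⁻¹ * (g * c) * x := by rw [hgc]
          _ = _ := by rw [h2]; group
      rw [h3, mul_smul, u_inf, mul_smul, mul_smul]
    have h4 := u_fix hab h1
    rw [inv_smul_eq_iff] at h4
    exact h4
  · have h2 : hh m j = x⁻¹ * c * x := by rw [hx]; group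
    have key : ∀ q : Om F m, hh m j • q = q → hh m j • ((x⁻¹ * g * x) • q) = (x⁻¹ * g * x) • q := by
      intro q hq
      rw [← mul_smul]
      have h3 : hh m j * (x⁻¹ * g * x) = x⁻¹ * g * x * hh m j := by
        rw [h2]
        calc x⁻¹ * c * x * (x⁻¹ * g * x) = x⁻¹ * (c * g) * x := by group
          _ = x⁻¹ * (g * c) * x := by rw [hgc]
          _ = _ := by group
      rw [h3, mul_smul, hq]
    rcases hh_fix' hj (key _ (hh_inf j)) with h5 | h5
    · refine ⟨x • pinf F m, ?_⟩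
      rw [mul_smul, mul_smul, inv_smul_eq_iff] at h5
      exact h5
    · rcases hh_fix' hj (key _ (hh_zero j)) with h6 | h6
      · obtain ⟨i, hi⟩ := swap_conj h5 h6
        obtain ⟨p, hp⟩ := ww_fixes (F := F) (m := m)
        refine ⟨x • (hh m i • p), ?_⟩
        have h7 : g = x * (hh m i * ww F m * (hh m i)⁻¹) * x⁻¹ := by rw [← hi]; group
        rw [h7, mul_smul, mul_smul, mul_smul, mul_smul, inv_smul_smul, inv_smul_smul, hp]
      · refine ⟨x • pzero F m, ?_⟩
        rw [mul_smul, mul_smul, inv_smul_eq_iff] at h6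
        exact h6
  · obtain ⟨p, hp⟩ := hp
    exact absurd hp (h p)

theorem Fpf.of_comm {g c : Gz F m} (hg : Fpf g) (hc : c ≠ 1) (hgc : g * c = c * g) : Fpf c := by
  intro p hp
  obtain ⟨q, hq⟩ := comm_fix hc hgc ⟨p, hp⟩
  exact hg q hq

omit hm in
theorem Fpf.ne_one {g : Gz F m} (hg : Fpf g) : g ≠ 1 := by
  rintro rfl
  exact hg (pinf F m) (one_smul _ _)

/-- a semiregular subgroup has order dividing `q^2+1` -/
theorem card_dvd_of_semireg (T : Subgroup (Gz F m)) (hT : ∀ t ∈ T, t ≠ 1 → Fpf t) :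
    Nat.card T ∣ Nat.card F ^ 2 + 1 := by
  rw [← card_Om (F := F) (m := m)]
  have h : ∀ p : Om F m, MulAction.stabilizer T p = ⊥ := by
    intro p
    rw [eq_bot_iff]
    intro t ht
    rw [Subgroup.mem_bot]
    by_contra h1
    exact hT t t.2 (fun h2 => h1 (Subtype.ext h2)) p ht
  have e := MulAction.selfEquivOrbitsQuotientProd h
  rw [Nat.card_congr e, Nat.card_prod]
  exact dvd_mul_left _ _

omit [CharP F 2] hm in
include hF in
theorem card_F : Nat.card F = 2 ^ (2 * m + 1) := by rw [Nat.card_eq_fintype_card, hF.1]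

omit [CharP F 2] hm in
include hF in
theorem card_F_even : Even (Nat.card F) := by
  rw [card_F (m := m), pow_succ]; exact even_two.mul_left _

omit [CharP F 2] in
include hF in
theorem card_F_ge : 8 ≤ Nat.card F := by
  rw [card_F (m := m)]
  calc 8 = 2 ^ 3 := rfl
    _ ≤ 2 ^ (2 * m + 1) := Nat.pow_le_pow_right (by norm_num) (by have := hm.1; omega)

/-! ### odd order facts -/

theorem odd_of_dvd {n q : ℕ} (hq : Even q) (h : n ∣ q ^ 2 + 1) : Odd n := by
  have : Odd (q ^ 2 + 1) := (hq.pow_of_ne_zero two_ne_zero).add_one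
  exact this.of_dvd_nat h

theorem coprime_aux {q : ℕ} (hq : Even q) (h1 : 1 ≤ q) : Nat.Coprime (q - 1) (q ^ 2 + 1) := by
  rw [Nat.coprime_iff_gcd_eq_one]
  by_contra h
  obtain ⟨p, hp, hpd⟩ := Nat.exists_prime_and_dvd h
  have h2 : p ∣ q - 1 := hpd.trans (Nat.gcd_dvd_left _ _)
  have h3 : p ∣ q ^ 2 + 1 := hpd.trans (Nat.gcd_dvd_right _ _)
  have h4 : p ∣ 2 := by
    have h5 : q ^ 2 + 1 = (q - 1) * (q + 1) + 2 := by
      obtain ⟨k, rfl⟩ := Nat.exists_eq_add_of_le h1
      rw [Nat.add_sub_cancel_left]; ring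
    rw [h5] at h3
    exact (Nat.dvd_add_right (h2.mul_right _)).1 h3
  have h5 : p = 2 := (Nat.prime_dvd_prime_iff_eq hp Nat.prime_two).1 h4
  rw [h5] at h3
  have := odd_of_dvd hq h3
  exact absurd this (by decide)

omit [CharP F 2] hm in
theorem u_pow_four [CharP F 2] (a b : F) : (u m a b) ^ 4 = 1 := by
  have h1 : (u m a b) ^ 2 = u m 0 (sg F m a * a) := by
    rw [pow_two, u_mul, two0, two0, zero_add]
  have h2 : (u m a b) ^ (2 * 2) = 1 := by
    rw [pow_mul, h1, pow_two, u_mul, map_zero, zero_mul, two0, two0, add_zero, u_zero]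
  exact h2

omit [CharP F 2] hm in
theorem hh_pow [CharP F 2] (j : Fˣ) (n : ℕ) : (hh m j) ^ n = hh m (j ^ n) := by
  induction n with
  | zero => rw [pow_zero, pow_zero, hh_one]
  | succ n ih => rw [pow_succ, pow_succ, ih, hh_mul]

omit [CharP F 2] hm in
theorem hh_pow_card [CharP F 2] (j : Fˣ) : (hh m j) ^ (Nat.card F - 1) = 1 := by
  rw [hh_pow, ← Nat.card_units, pow_card_eq_one', hh_one]

omit [CharP F 2] hm in
theorem conj_pow' {G : Type*} [Group G] (x g : G) (n : ℕ) : (x * g * x⁻¹) ^ n = x * g ^ n * x⁻¹ := by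
  rw [conj_pow]

/-- elements of order dividing `q²+1` are fixed-point-free -/
theorem fpf_of_dvd {g : Gz F m} (hg : g ≠ 1) (h : orderOf g ∣ Nat.card F ^ 2 + 1) : Fpf g := by
  rcases tri g with ⟨x, a, b, hx⟩ | ⟨x, j, hj, hx⟩ | h1
  · exfalso
    have h1 : g ^ 4 = 1 := by rw [hx, conj_pow, u_pow_four]; group
    have h2 : orderOf g ∣ 4 := orderOf_dvd_of_pow_eq_one h1
    have h3 := odd_of_dvd (card_F_even (F := F) (m := m)) h
    have h4 : Nat.Coprime (orderOf g) (2 ^ 2) :=
      Nat.Coprime.pow_right _ ((Nat.coprime_two_right).2 h3)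
    have h5 : orderOf g = 1 := Nat.eq_one_of_dvd_coprimes h4 dvd_rfl h2
    exact hg (orderOf_eq_one_iff.1 h5)
  · exfalso
    have h1 : g ^ (Nat.card F - 1) = 1 := by rw [hx, conj_pow, hh_pow_card]; group
    have h2 : orderOf g ∣ Nat.card F - 1 := orderOf_dvd_of_pow_eq_one h1
    have h4 := coprime_aux (card_F_even (F := F) (m := m)) (by have := card_F_ge (F := F) (m := m); omega)
    have h5 : orderOf g = 1 := Nat.eq_one_of_dvd_coprimes h4 h2 h
    exact hg (orderOf_eq_one_iff.1 h5)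
  · exact h1

/-! ### centralizers of the three types -/

/-- the centralizer of a nontrivial element of `Q` lies in `Q` -/
theorem cent_QQ {g c : Gz F m} (hg : g ∈ QQ F m) (hg1 : g ≠ 1) (hc : c * g = g * c) : c ∈ QQ F m := by
  obtain ⟨a, b, rfl⟩ := hg
  have hab : a ≠ 0 ∨ b ≠ 0 := by
    by_contra h
    push Not at h
    rw [h.1, h.2, u_zero] at hg1
    exact hg1 rfl
  have h1 : c • pinf F m = pinf F m := by
    apply u_fix hab
    rw [← mul_smul, ← hc, mul_smul, u_inf]
  obtain ⟨x, y, j, rfl⟩ := stab_inf h1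
  by_cases hj : j = 1
  · rw [hj, hh_one, mul_one]; exact ⟨x, y, rfl⟩
  exfalso
  have h2 : (u m x y * hh m j) * u m a b = u m (x + sg F m j * a) (y + sg F m j * j ^ 2 * b +
      sg F m x * (sg F m j * a)) * hh m j := by
    rw [mul_assoc, hh_u, ← mul_assoc, u_mul]
  have h3 : u m a b * (u m x y * hh m j) = u m (a + x) (b + y + sg F m a * x) * hh m j := by
    rw [← mul_assoc, u_mul]
  rw [h2, h3] at hc
  obtain ⟨e1, e2, -⟩ := uh_inj hc
  have ha : a = 0 := by
    by_contra ha
    apply hj (j_eq_one_of_sg (m := m) _)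
    apply mul_right_cancel₀ ha
    linear_combination e1
  rw [ha, map_zero, mul_zero, mul_zero, zero_mul, add_zero, add_zero] at e2
  have hb : b = 0 := by
    by_contra hb
    apply hj (j_eq_one_of_sg2 (m := m) _)
    apply mul_right_cancel₀ hb
    linear_combination e2
  rcases hab with h | h
  · exact h ha
  · exact h hb

/-- the centralizer of a nontrivial element of the torus is the torus -/
theorem cent_KK {j : Fˣ} (hj : j ≠ 1) {c : Gz F m} (hc : c * hh m j = hh m j * c) : c ∈ KK F m := by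
  have key : ∀ q : Om F m, hh m j • q = q → hh m j • (c • q) = c • q := by
    intro q hq
    rw [← mul_smul, ← hc, mul_smul, hq]
  rcases hh_fix' hj (key _ (hh_inf j)) with h5 | h5
  · rcases hh_fix' hj (key _ (hh_zero j)) with h6 | h6
    · exfalso
      exact pp_ne_inf _ _ (smul_left_cancel c (h6.trans h5.symm))
    · exact mem_KK.2 (fix_two' h5 h6)
  · rcases hh_fix' hj (key _ (hh_zero j)) with h6 | h6
    · exfalso
      obtain ⟨i, rfl⟩ := swap_form h5 h6
      rw [mul_assoc, ww_hh, ← mul_assoc, ← hh_mul, ← mul_assoc, ← hh_mul] at hc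
      have h7 := hh_inj (mul_right_cancel hc)
      have h8 : j * j = 1 := by
        have h9 : j⁻¹ = j := by
          apply mul_left_cancel (a := i)
          rw [h7, mul_comm]
        calc j * j = j * j⁻¹ := by rw [h9]
          _ = 1 := mul_inv_cancel _
      obtain ⟨k, hk⟩ : ∃ k, Nat.card Fˣ = 2 * k + 1 := by
        rw [Nat.card_units]
        obtain ⟨k, hk⟩ := card_F_even (F := F) (m := m)
        have := card_F_ge (F := F) (m := m)
        exact ⟨k - 1, by omega⟩
      apply hj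
      have h10 : j ^ (2 * k + 1) = 1 := by rw [← hk, pow_card_eq_one']
      rw [pow_succ, pow_mul, pow_two, h8, one_pow, one_mul] at h10
      exact h10
    · exfalso
      exact pp_ne_inf _ _ (smul_left_cancel c (h5.trans h6.symm)).symm

end

end CfsgL.Sz
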