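import Cfsg.Agent.L.Sz.Tori

/-! The Suzuki groups: counting, existence of the tori of orders `q ± r + 1`. -/

set_option autoImplicit false

namespace CfsgL.Sz

open Subgroup

variable {F : Type*} [Field F] [Fintype F] {m : ℕ} [CharP F 2] [hF : Fact (Fintype.card F = 2 ^ (2 * m + 1))]

section
variable [hm : Fact (1 ≤ m)]

omit hm in
theorem u_conj_fix {a b : F} (h : u m a b ≠ 1) {p : Om F m} (hp : u m a b • p = p) : p = pinf F m := by
  apply u_fix _ hp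
  by_contra h'
  push Not at h'
  rw [h'.1, h'.2, u_zero] at h
  exact h rfl

theorem QQ_norm_conj {x : Gz F m} (hx : x ∈ BB F m) {t : Gz F m} (ht : t ∈ QQ F m) : x * t * x⁻¹ ∈ QQ F m := by
  obtain ⟨a, b, j, rfl⟩ := mem_BB'.1 hx
  obtain ⟨c, d, rfl⟩ := ht
  have : u m a b * hh m j * u m c d * (u m a b * hh m j)⁻¹ =
      u m a b * (u m (sg F m j * c) (sg F m j * j ^ 2 * d)) * (u m a b)⁻¹ := by
    rw [mul_assoc (u m a b) (hh m j), hh_u]; group
  rw [this]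
  exact mul_mem (mul_mem (u_mem_QQ _ _) (u_mem_QQ _ _)) (inv_mem (u_mem_QQ _ _))

theorem QQ_ti (x t : Gz F m) (ht : t ∈ QQ F m) (ht1 : t ≠ 1) (hx : x * t * x⁻¹ ∈ QQ F m) : x ∈ BB F m := by
  obtain ⟨a, b, rfl⟩ := ht
  obtain ⟨c, d, hcd⟩ := hx
  have h1 : u m c d ≠ 1 := by
    rw [← hcd]
    intro h
    apply ht1
    calc u m a b = x⁻¹ * (x * u m a b * x⁻¹) * x := by group
      _ = 1 := by rw [h]; group
  rw [mem_BB]
  apply u_conj_fix h1
  rw [← hcd, mul_smul, mul_smul, inv_smul_smul, u_inf]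

theorem norm_QQ : normalizer (QQ F m : Set (Gz F m)) = BB F m := by
  apply le_antisymm
  · intro x hx
    refine QQ_ti x (u m 0 1) (u_mem_QQ _ _) ?_ ((mem_nrm.1 hx _).1 (u_mem_QQ _ _))
    intro h
    exact one_ne_zero (u_ne_one h).2
  · intro x hx
    rw [mem_nrm]
    intro t
    constructor
    · exact QQ_norm_conj hx
    · intro h
      have h1 := QQ_norm_conj (inv_mem hx) h
      have h2 : x⁻¹ * (x * t * x⁻¹) * x⁻¹⁻¹ = t := by group
      rwa [h2] at h1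

theorem cc_QQ : (cc (QQ F m)).ncard = (Nat.card F ^ 2 + 1) * (Nat.card F ^ 2 - 1) := by
  rw [card_cc, norm_QQ, index_BB, card_QQ]
  intro x t ht ht1 hx
  rw [norm_QQ]
  exact QQ_ti x t ht ht1 hx

theorem KK_perm {x t : Gz F m} (ht : t ∈ KK F m) (ht1 : t ≠ 1) (hx : x * t * x⁻¹ ∈ KK F m) :
    (x • pinf F m = pinf F m ∧ x • pzero F m = pzero F m) ∨
      (x • pinf F m = pzero F m ∧ x • pzero F m = pinf F m) := by
  obtain ⟨j, rfl⟩ := mem_KK.1 ht
  obtain ⟨i, hi⟩ := mem_KK.1 hx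
  have hi1 : i ≠ 1 := by
    rintro rfl
    rw [hh_one] at hi
    apply ht1
    calc hh m j = x⁻¹ * (x * hh m j * x⁻¹) * x := by group
      _ = 1 := by rw [hi]; group
  have h1 : hh m i • (x • pinf F m) = x • pinf F m := by
    rw [← hi, mul_smul, mul_smul, inv_smul_smul, hh_inf]
  have h2 : hh m i • (x • pzero F m) = x • pzero F m := by
    rw [← hi, mul_smul, mul_smul, inv_smul_smul, hh_zero]
  rcases hh_fix' hi1 h1 with h3 | h3
  · rcases hh_fix' hi1 h2 with h4 | h4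
    · exact absurd (smul_left_cancel x (h4.trans h3.symm)) (pp_ne_inf _ _)
    · exact Or.inl ⟨h3, h4⟩
  · rcases hh_fix' hi1 h2 with h4 | h4
    · exact Or.inr ⟨h3, h4⟩
    · exact absurd (smul_left_cancel x (h4.trans h3.symm)) (pp_ne_inf _ _)

theorem hw_conj (i j : Fˣ) : (hh m i * ww F m) * hh m j * (hh m i * ww F m)⁻¹ = hh m j⁻¹ := by
  rw [mul_assoc (hh m i), ww_hh, mul_inv_rev]
  calc hh m i * (hh m j⁻¹ * ww F m) * ((ww F m)⁻¹ * (hh m i)⁻¹) = hh m i * hh m j⁻¹ * (hh m i)⁻¹ := by group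
    _ = _ := by rw [← hh_mul, mul_comm i, hh_mul, mul_inv_cancel_right]

theorem mem_norm_KK {x : Gz F m} : x ∈ normalizer (KK F m : Set (Gz F m)) ↔
    (∃ i, x = hh m i) ∨ ∃ i, x = hh m i * ww F m := by
  constructor
  · intro hx
    obtain ⟨j, hj⟩ := exists_j (F := F) (m := m)
    have h1 : hh m j ≠ 1 := fun h => hj (hh_inj (m := m) (by rw [h, hh_one]))
    rcases KK_perm (mem_KK.2 ⟨j, rfl⟩) h1 ((mem_nrm.1 hx _).1 (mem_KK.2 ⟨j, rfl⟩)) with h | h
    · exact Or.inl (fix_two' h.1 h.2)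
    · exact Or.inr (swap_form h.1 h.2)
  · intro h
    have key : ∀ x : Gz F m, ((∃ i, x = hh m i) ∨ ∃ i, x = hh m i * ww F m) → ∀ t ∈ KK F m,
        x * t * x⁻¹ ∈ KK F m := by
      rintro x (⟨i, rfl⟩ | ⟨i, rfl⟩) t ht
      · exact mul_mem (mul_mem (mem_KK.2 ⟨i, rfl⟩) ht) (inv_mem (mem_KK.2 ⟨i, rfl⟩))
      · obtain ⟨j, rfl⟩ := mem_KK.1 ht
        rw [hw_conj]; exact mem_KK.2 ⟨_, rfl⟩
    rw [mem_nrm]
    intro t
    refine ⟨key x h t, fun h1 => ?_⟩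
    have h2 : x⁻¹ = x⁻¹ := rfl
    have h3 : (∃ i, x⁻¹ = hh m i) ∨ ∃ i, x⁻¹ = hh m i * ww F m := by
      rcases h with ⟨i, rfl⟩ | ⟨i, rfl⟩
      · exact Or.inl ⟨_, hh_inv i⟩
      · right
        refine ⟨i, ?_⟩
        rw [mul_inv_rev, ww_inv, hh_inv, ww_hh, inv_inv]
    have h4 := key _ h3 _ h1
    have h5 : x⁻¹ * (x * t * x⁻¹) * x⁻¹⁻¹ = t := by group
    rwa [h5] at h4

theorem ww_not_KK (i : Fˣ) : hh m i * ww F m ∉ KK F m := by
  intro h
  obtain ⟨j, hj⟩ := mem_KK.1 h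
  have h1 : (hh m i * ww F m) • pinf F m = pinf F m := by rw [hj, hh_inf]
  rw [mul_smul, ww_inf, hh_zero] at h1
  exact pp_ne_inf _ _ h1

theorem card_norm_KK : Nat.card (normalizer (KK F m : Set (Gz F m))) = 2 * (Nat.card F - 1) := by
  have h1 : (KK F m).relIndex (normalizer (KK F m : Set (Gz F m))) = 2 := by
    rw [relIndex, index_eq_two_iff]
    refine ⟨⟨ww F m, mem_norm_KK.2 (Or.inr ⟨1, by rw [hh_one, one_mul]⟩)⟩, ?_⟩
    rintro ⟨b, hb⟩
    rw [mem_subgroupOf, mem_subgroupOf]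
    change Xor' (b * ww F m ∈ KK F m) (b ∈ KK F m)
    rcases mem_norm_KK.1 hb with ⟨i, rfl⟩ | ⟨i, rfl⟩
    · exact Or.inr ⟨mem_KK.2 ⟨i, rfl⟩, ww_not_KK i⟩
    · refine Or.inl ⟨?_, ww_not_KK i⟩
      rw [mul_assoc, ww_ww, mul_one]; exact mem_KK.2 ⟨i, rfl⟩
  have h2 := Subgroup.card_mul_index ((KK F m).subgroupOf (normalizer (KK F m : Set (Gz F m))))
  rw [← relIndex, h1, Nat.card_congr (subgroupOfEquivOfLe le_normalizer).toEquiv, card_KK] at h2
  rw [← h2, mul_comm]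

theorem KK_ti (x t : Gz F m) (ht : t ∈ KK F m) (ht1 : t ≠ 1) (hx : x * t * x⁻¹ ∈ KK F m) :
    x ∈ normalizer (KK F m : Set (Gz F m)) := by
  rw [mem_norm_KK]
  rcases KK_perm ht ht1 hx with h | h
  · exact Or.inl (fix_two' h.1 h.2)
  · exact Or.inr (swap_form h.1 h.2)

theorem cc_KK : ∃ i : ℕ, i * (2 * (Nat.card F - 1)) = Nat.card (Gz F m) ∧
    (cc (KK F m)).ncard = i * (Nat.card F - 2) := by
  refine ⟨(normalizer (KK F m : Set (Gz F m))).index, ?_, ?_⟩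
  · rw [← card_norm_KK (F := F) (m := m), index_mul_card]
  · rw [card_cc (KK F m) KK_ti, card_KK]
    congr 1

theorem Tor.cc {T : Subgroup (Gz F m)} (hT : Tor T) : ∃ i n : ℕ, (n = 1 ∨ n = 2 ∨ n = 4) ∧
    i * (n * Nat.card T) = Nat.card (Gz F m) ∧ (CfsgL.Sz.cc T).ncard = i * (Nat.card T - 1) ∧
      Nat.card (normalizer (T : Set (Gz F m))) = n * Nat.card T := by
  obtain ⟨n, hn, hN⟩ := hT.norm_card
  refine ⟨(normalizer (T : Set (Gz F m))).index, n, hn, ?_, ?_, hN⟩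
  · rw [← hN, index_mul_card]
  · rw [card_cc T hT.ti]

/-! disjointness -/

omit hm in
theorem cc_fix_QQ {g : Gz F m} (hg : g ∈ CfsgL.Sz.cc (QQ F m)) : ∃! p : Om F m, g • p = p := by
  obtain ⟨hg1, x, a, b, hab⟩ := hg
  have h1 : u m a b ≠ 1 := by
    rw [← hab]
    intro h
    apply hg1
    calc g = x⁻¹ * (x * g * x⁻¹) * x := by group
      _ = 1 := by rw [h]; group
  refine ⟨x⁻¹ • pinf F m, ?_, ?_⟩
  · have : x • g • x⁻¹ • pinf F m = pinf F m := by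
      rw [← mul_smul, ← mul_smul, hab, u_inf]
    change g • x⁻¹ • pinf F m = x⁻¹ • pinf F m
    rw [eq_inv_smul_iff]; exact this
  · intro q hq
    rw [eq_inv_smul_iff]
    apply u_conj_fix h1
    rw [← hab, mul_smul, mul_smul, inv_smul_smul, hq]

omit hm in
theorem cc_fix_KK {g : Gz F m} (hg : g ∈ CfsgL.Sz.cc (KK F m)) :
    ∃ p q : Om F m, p ≠ q ∧ g • p = p ∧ g • q = q := by
  obtain ⟨hg1, x, hx⟩ := hg
  obtain ⟨j, hj⟩ := mem_KK.1 hx
  refine ⟨x⁻¹ • pinf F m, x⁻¹ • pzero F m, ?_, ?_, ?_⟩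
  · intro h
    exact pp_ne_inf _ _ (smul_left_cancel _ h).symm
  · rw [eq_inv_smul_iff, ← mul_smul, ← mul_smul, hj, hh_inf]
  · rw [eq_inv_smul_iff, ← mul_smul, ← mul_smul, hj, hh_zero]

theorem Tor.cc_fpf {T : Subgroup (Gz F m)} (hT : Tor T) {g : Gz F m} (hg : g ∈ CfsgL.Sz.cc T) : Fpf g := by
  obtain ⟨hg1, x, hx⟩ := hg
  have h1 : x * g * x⁻¹ ≠ 1 := by
    intro h
    apply hg1
    calc g = x⁻¹ * (x * g * x⁻¹) * x := by group
      _ = 1 := by rw [h]; group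
  have h2 := (hT.fpf hx h1).conj x⁻¹
  have h3 : x⁻¹ * (x * g * x⁻¹) * x⁻¹⁻¹ = g := by group
  rwa [h3] at h2

theorem cc_cover {g : Gz F m} : g = 1 ∨ g ∈ CfsgL.Sz.cc (QQ F m) ∨ g ∈ CfsgL.Sz.cc (KK F m) ∨ Fpf g := by
  by_cases hg : g = 1
  · exact Or.inl hg
  right
  rcases tri g with ⟨x, a, b, h⟩ | ⟨x, j, hj, h⟩ | h
  · refine Or.inl ⟨hg, x⁻¹, a, b, ?_⟩
    rw [h]; group
  · refine Or.inr (Or.inl ⟨hg, x⁻¹, mem_KK.2 ⟨j, ?_⟩⟩)
    rw [h]; group
  · exact Or.inr (Or.inr h)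

theorem disj_QK : Disjoint (CfsgL.Sz.cc (QQ F m)) (CfsgL.Sz.cc (KK F m)) := by
  rw [Set.disjoint_left]
  intro g h1 h2
  obtain ⟨r, -, hr⟩ := cc_fix_QQ h1
  obtain ⟨p, q, hpq, hp, hq⟩ := cc_fix_KK h2
  exact hpq ((hr p hp).trans (hr q hq).symm)

/-- the set of fixed-point-free elements -/
def fpfSet (F : Type*) [Field F] (m : ℕ) [CharP F 2] [Fintype F] [Fact (Fintype.card F = 2 ^ (2 * m + 1))] :
    Set (Gz F m) := {g | Fpf g}

theorem count_total : 1 + (cc (QQ F m)).ncard + (cc (KK F m)).ncard + (fpfSet F m).ncard = Nat.card (Gz F m) := by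
  have h1 : ({1} : Set (Gz F m)) ∪ cc (QQ F m) ∪ cc (KK F m) ∪ fpfSet F m = Set.univ := by
    ext g
    simp only [Set.mem_union, Set.mem_univ, iff_true, Set.mem_singleton_iff]
    rcases cc_cover (g := g) with h | h | h | h
    · exact Or.inl (Or.inl (Or.inl h))
    · exact Or.inl (Or.inl (Or.inr h))
    · exact Or.inl (Or.inr h)
    · exact Or.inr h
  rw [← Set.ncard_univ, ← h1, Set.ncard_union_eq, Set.ncard_union_eq, Set.ncard_union_eq, Set.ncard_singleton]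
  · rw [Set.disjoint_left]
    rintro g hg h
    exact h.1 hg
  · rw [Set.disjoint_union_left]
    refine ⟨?_, disj_QK⟩
    rw [Set.disjoint_left]
    rintro g hg h
    exact h.1 hg
  · rw [Set.disjoint_left]
    rintro g hg h
    have h : Fpf g := h
    rcases hg with (hg | hg) | hg
    · exact h.ne_one hg
    · obtain ⟨p, hp, -⟩ := cc_fix_QQ hg
      exact h p hp
    · obtain ⟨p, q, -, hp, -⟩ := cc_fix_KK hg
      exact h p hp

theorem Tor.disj {T₁ T₂ : Subgroup (Gz F m)} (h₁ : Tor T₁) (h₂ : Tor T₂)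
    (hc : Nat.Coprime (Nat.card T₁) (Nat.card T₂)) : Disjoint (CfsgL.Sz.cc T₁) (CfsgL.Sz.cc T₂) := by
  rw [Set.disjoint_left]
  rintro g ⟨hg1, x, hx⟩ ⟨-, y, hy⟩
  have e1 : orderOf g ∣ Nat.card T₁ := by
    have : orderOf (x * g * x⁻¹) = orderOf g := by
      change orderOf (MulAut.conj x g) = _
      exact orderOf_injective (MulAut.conj x).toMonoidHom (MulAut.conj x).injective g
    rw [← this]; exact Subgroup.orderOf_dvd_natCard _ hx
  have e2 : orderOf g ∣ Nat.card T₂ := by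
    have : orderOf (y * g * y⁻¹) = orderOf g := by
      change orderOf (MulAut.conj y g) = _
      exact orderOf_injective (MulAut.conj y).toMonoidHom (MulAut.conj y).injective g
    rw [← this]; exact Subgroup.orderOf_dvd_natCard _ hy
  exact hg1 (orderOf_eq_one_iff.1 (Nat.eq_one_of_dvd_coprimes hc e1 e2))

end

end CfsgL.Sz
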