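import Cfsg.Agent.L.Sz.OddSub

/-! Nilpotent covers of the Suzuki groups. -/

set_option autoImplicit false

namespace CfsgL.Sz

open Subgroup CfsgL.Odd

variable {F : Type*} [Field F] [Fintype F] {m : ℕ} [CharP F 2] [hF : Fact (Fintype.card F = 2 ^ (2 * m + 1))]

section
variable [hm : Fact (1 ≤ m)]

/-- a nontrivial nilpotent group has a nontrivial central element -/
theorem exists_central {G : Type*} [Group G] {A : Subgroup G} [hA : Group.IsNilpotent A] {a : G} (ha : a ∈ A)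
    (ha1 : a ≠ 1) : ∃ z ∈ A, z ≠ 1 ∧ ∀ y ∈ A, y * z = z * y := by
  haveI : Nontrivial A := ⟨⟨a, ha⟩, 1, fun h => ha1 (congrArg Subtype.val h)⟩
  have h1 : center A ≠ ⊥ := Group.IsNilpotent.center_ne_bot _
  obtain ⟨z, hz⟩ := ne_bot_iff_exists_ne_one.1 h1
  refine ⟨z.1.1, z.1.2, fun h => hz (Subtype.ext (Subtype.ext h)), ?_⟩
  intro y hy
  exact congrArg Subtype.val ((mem_center_iff.1 z.2) ⟨y, hy⟩)

/-- nilpotent subgroups containing a generator of an odd centralizer -/
theorem nilp_eq {A : Subgroup (Gz F m)} [Group.IsNilpotent A] {g g₀ : Gz F m} (hg : g ≠ 1) (ho : Odd (orderOf g))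
    (hg₀ : centralizer {g} = zpowers g₀) (hA : g₀ ∈ A) : A = centralizer {g} := by
  have hgm : g ∈ centralizer {g} := mem_centralizer_singleton_iff.2 rfl
  have hg₀1 : g₀ ≠ 1 := by
    rintro rfl
    rw [zpowers_one_eq_bot] at hg₀
    rw [hg₀, mem_bot] at hgm
    exact hg hgm
  have hg₀m : g₀ ∈ centralizer {g} := by rw [hg₀]; exact mem_zpowers g₀
  have hg₀c : centralizer {g₀} = centralizer {g} := cent_eq_of_odd hg ho hg₀m hg₀1
  obtain ⟨z, hzA, hz1, hz⟩ := exists_central hA hg₀1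
  have hzc : z ∈ centralizer {g} := by
    rw [← hg₀c, mem_centralizer_singleton_iff]
    exact (hz g₀ hA).symm
  have hzc' := cent_eq_of_odd hg ho hzc hz1
  apply le_antisymm
  · intro y hy
    rw [← hzc', mem_centralizer_singleton_iff]
    exact hz y hy
  · rw [hg₀, zpowers_le]; exact hA

/-- nilpotent subgroups containing an element of order four -/
theorem nilp_le {A : Subgroup (Gz F m)} [Group.IsNilpotent A] {x v : Gz F m} (hv : x * v * x⁻¹ ∈ QQ F m)
    (hv1 : v ≠ 1) (hA : v ∈ A) : ∀ y ∈ A, x * y * x⁻¹ ∈ QQ F m := by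
  have conj_ne : ∀ w : Gz F m, w ≠ 1 → x * w * x⁻¹ ≠ 1 := by
    intro w hw h
    apply hw
    calc w = x⁻¹ * (x * w * x⁻¹) * x := by group
      _ = 1 := by rw [h]; group
  obtain ⟨z, hzA, hz1, hz⟩ := exists_central hA hv1
  have hzQ : x * z * x⁻¹ ∈ QQ F m := by
    apply cent_QQ hv (conj_ne v hv1)
    calc x * z * x⁻¹ * (x * v * x⁻¹) = x * (z * v) * x⁻¹ := by group
      _ = x * (v * z) * x⁻¹ := by rw [← hz v hA]
      _ = _ := by group
  intro y hy
  apply cent_QQ hzQ (conj_ne z hz1)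
  calc x * y * x⁻¹ * (x * z * x⁻¹) = x * (y * z) * x⁻¹ := by group
    _ = x * (z * y) * x⁻¹ := by rw [hz y hy]
    _ = _ := by group

theorem fpf_odd {g : Gz F m} (hg : Fpf g) : Odd (orderOf g) :=
  odd_of_dvd (card_F_even (F := F) (m := m)) hg.order_dvd

theorem hh_odd (j : Fˣ) : Odd (orderOf (hh m j)) := by
  have h1 : orderOf (hh m j) ∣ Nat.card F - 1 := orderOf_dvd_of_pow_eq_one (hh_pow_card j)
  have h2 : Odd (Nat.card F - 1) := by
    obtain ⟨k, hk⟩ := card_F_even (F := F) (m := m)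
    have := card_F_ge (F := F) (m := m)
    exact ⟨k - 1, by omega⟩
  exact h2.of_dvd_nat h1

theorem no_nilp_cover : ¬ ∃ 𝓐 : Finset (Subgroup (Gz F m)), ((∀ A ∈ 𝓐, A ≠ ⊤) ∧ (∀ g : Gz F m, ∃ A ∈ 𝓐, g ∈ A)) ∧
    (∀ 𝓑 : Finset (Subgroup (Gz F m)), (∀ A ∈ 𝓑, A ≠ ⊤) ∧ (∀ g : Gz F m, ∃ A ∈ 𝓑, g ∈ A) → 𝓐.card ≤ 𝓑.card) ∧
    (∀ A ∈ 𝓐, Group.IsNilpotent ↥A) := by
  classical
  rintro ⟨𝓐, ⟨hprop, hcov⟩, hmin, hnil⟩
  haveI : Fintype (Om F m) := Fintype.ofFinite _
  haveI : Fintype (Gz F m) := Fintype.ofFinite _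
  -- odd centralizers are members
  have hodd : ∀ g : Gz F m, g ≠ 1 → Odd (orderOf g) → centralizer {g} ∈ 𝓐 := by
    intro g hg ho
    haveI := (cent_odd hg ho).1
    obtain ⟨g₀, hg₀⟩ := IsCyclic.exists_generator (α := centralizer {g})
    have h1 : centralizer {g} = zpowers (g₀ : Gz F m) := by
      apply le_antisymm
      · intro y hy
        obtain ⟨k, hk⟩ := hg₀ ⟨y, hy⟩
        exact ⟨k, congrArg Subtype.val hk⟩
      · rw [zpowers_le]; exact g₀.2
    obtain ⟨A, hA, hgA⟩ := hcov (g₀ : Gz F m)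
    haveI := hnil A hA
    rw [← nilp_eq hg ho h1 hgA]
    exact hA
  -- members attached to points
  have hpt : ∀ p : Om F m, ∃ A ∈ 𝓐, ∃ x v : Gz F m, x • p = pinf F m ∧ v ∈ A ∧ v ≠ 1 ∧ v * v ≠ 1 ∧
      x * v * x⁻¹ ∈ QQ F m ∧ ∀ y ∈ A, x * y * x⁻¹ ∈ QQ F m := by
    intro p
    obtain ⟨x, hx⟩ := exists_to_inf p
    obtain ⟨v, hv⟩ : ∃ v, v = x⁻¹ * u m 1 0 * x := ⟨_, rfl⟩
    have hxv : x * v * x⁻¹ = u m 1 0 := by rw [hv]; group
    have hvv : v * v ≠ 1 := by
      intro h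
      have h2 : u m (1 : F) 0 * u m 1 0 = 1 := by
        rw [← hxv]
        calc x * v * x⁻¹ * (x * v * x⁻¹) = x * (v * v) * x⁻¹ := by group
          _ = 1 := by rw [h]; group
      rw [u_sq, map_one, one_mul] at h2
      exact one_ne_zero (u_ne_one h2).2
    have hv1 : v ≠ 1 := by rintro rfl; exact hvv (one_mul 1)
    obtain ⟨A, hA, hvA⟩ := hcov v
    haveI := hnil A hA
    have hxQ : x * v * x⁻¹ ∈ QQ F m := by rw [hxv]; exact u_mem_QQ _ _
    exact ⟨A, hA, x, v, hx, hvA, hv1, hvv, hxQ, nilp_le hxQ hv1 hvA⟩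
  choose A hA𝓐 x v hx hvA hv1 hvv hvQ hAQ using hpt
  have hAinj : Function.Injective A := by
    intro p p' h
    have h1 := hvQ p
    have h2 := hAQ p' (v p) (by rw [← h]; exact hvA p)
    -- `v p` fixes `p` and `p'`
    have key : ∀ q : Om F m, x q * v p * (x q)⁻¹ ∈ QQ F m → v p • q = q := by
      intro q hq
      have h3 := mem_BB.1 (QQ_le_BB hq)
      rw [← hx q, mul_smul, mul_smul, inv_smul_smul] at h3
      exact smul_left_cancel _ h3
    have hp := key p h1
    have hp' := key p' h2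
    have hcc : v p ∈ cc (QQ F m) := ⟨hv1 p, x p, h1⟩
    obtain ⟨r, -, hr⟩ := cc_fix_QQ hcc
    exact (hr p hp).trans (hr p' hp').symm
  -- the three families
  let S1 : Finset (Subgroup (Gz F m)) := Finset.univ.image A
  let S2 : Finset (Subgroup (Gz F m)) := (Finset.univ.filter (fun g : Gz F m => Fpf g)).image
    (fun g => centralizer {g})
  have hS1 : S1.card = Fintype.card (Om F m) := by
    rw [Finset.card_image_of_injective _ hAinj, Finset.card_univ]
  obtain ⟨j, hj⟩ := exists_j (F := F) (m := m)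
  have hj1 : hh m j ≠ 1 := fun h => hj (hh_inj (m := m) (by rw [h, hh_one]))
  have hKK : KK F m ∈ 𝓐 := by rw [← cent_hh hj]; exact hodd _ hj1 (hh_odd j)
  have hA_notodd : ∀ p : Om F m, ∀ g : Gz F m, g ≠ 1 → Odd (orderOf g) → A p ≠ centralizer {g} := by
    intro p g hg ho h
    have h1 : v p ∈ centralizer {g} := by rw [← h]; exact hvA p
    have h2 := (cent_odd hg ho).2.of_dvd_nat (Subgroup.orderOf_dvd_natCard _ h1)
    exact odd_not_QQ (hv1 p) h2 (hvQ p)
  have hd12 : Disjoint S1 S2 := by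
    rw [Finset.disjoint_left]
    intro B hB1 hB2
    obtain ⟨p, -, rfl⟩ := Finset.mem_image.1 hB1
    obtain ⟨g, hg, hg'⟩ := Finset.mem_image.1 hB2
    have hgf : Fpf g := (Finset.mem_filter.1 hg).2
    exact hA_notodd p g hgf.ne_one (fpf_odd hgf) hg'.symm
  have hK12 : KK F m ∉ S1 ∪ S2 := by
    rw [Finset.mem_union]
    rintro (h | h)
    · obtain ⟨p, -, hp⟩ := Finset.mem_image.1 h
      rw [← cent_hh hj] at hp
      exact hA_notodd p _ hj1 (hh_odd j) hp
    · obtain ⟨g, hg, hg'⟩ := Finset.mem_image.1 h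
      have hgf : Fpf g := (Finset.mem_filter.1 hg).2
      have h1 : g ∈ KK F m := by rw [← hg']; exact mem_centralizer_singleton_iff.2 rfl
      obtain ⟨i, hi⟩ := mem_KK.1 h1
      exact hgf (pinf F m) (by rw [hi, hh_inf])
  have hsub : insert (KK F m) (S1 ∪ S2) ⊆ 𝓐 := by
    intro B hB
    rw [Finset.mem_insert, Finset.mem_union] at hB
    rcases hB with rfl | hB | hB
    · exact hKK
    · obtain ⟨p, -, rfl⟩ := Finset.mem_image.1 hB; exact hA𝓐 p
    · obtain ⟨g, hg, rfl⟩ := Finset.mem_image.1 hB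
      have hgf : Fpf g := (Finset.mem_filter.1 hg).2
      exact hodd g hgf.ne_one (fpf_odd hgf)
  have h1 := Finset.card_le_card hsub
  rw [Finset.card_insert_of_notMem hK12, Finset.card_union_of_disjoint hd12, hS1] at h1
  -- the competing cover
  have h2 := hmin (Finset.univ.image (fun p : Om F m => MulAction.stabilizer (Gz F m) p) ∪ S2) ⟨?_, ?_⟩
  · have h3 := Finset.card_union_le (Finset.univ.image (fun p : Om F m => MulAction.stabilizer (Gz F m) p)) S2
    have h4 : (Finset.univ.image (fun p : Om F m => MulAction.stabilizer (Gz F m) p)).card ≤ Fintype.card (Om F m) := by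
      rw [← Finset.card_univ]; exact Finset.card_image_le
    omega
  · intro B hB
    rw [Finset.mem_union] at hB
    rcases hB with hB | hB
    · obtain ⟨p, -, rfl⟩ := Finset.mem_image.1 hB
      intro h
      obtain ⟨q, hq⟩ : ∃ q : Om F m, q ≠ p := by
        by_cases h0 : p = pinf F m
        · exact ⟨pzero F m, by rw [h0]; exact pp_ne_inf _ _⟩
        · exact ⟨pinf F m, Ne.symm h0⟩
      obtain ⟨g, hg⟩ := MulAction.exists_smul_eq (Gz F m) p q
      have : g ∈ MulAction.stabilizer (Gz F m) p := by rw [h]; trivial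
      exact hq (hg.symm.trans this)
    · obtain ⟨g, hg, rfl⟩ := Finset.mem_image.1 hB
      have hgf : Fpf g := (Finset.mem_filter.1 hg).2
      intro h
      have : hh m j ∈ centralizer {g} := by rw [h]; trivial
      have h3 := hgf.of_comm hj1 (mem_centralizer_singleton_iff.1 this).symm
      exact h3 (pinf F m) (hh_inf j)
  · intro g
    by_cases hg : Fpf g
    · exact ⟨centralizer {g}, Finset.mem_union_right _ (Finset.mem_image.2 ⟨g, by simpa using hg, rfl⟩),
        mem_centralizer_singleton_iff.2 rfl⟩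
    · unfold Fpf at hg
      push Not at hg
      obtain ⟨p, hp⟩ := hg
      exact ⟨MulAction.stabilizer (Gz F m) p, Finset.mem_union_left _ (Finset.mem_image.2 ⟨p, Finset.mem_univ _, rfl⟩), hp⟩

end

end CfsgL.Sz
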