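import Cfsg.Agent.L.Sz.Aut2

/-! Embeddings of smaller Suzuki groups. -/

set_option autoImplicit false
set_option maxHeartbeats 400000

namespace CfsgL.Sz

open Subgroup

variable {F : Type*} [Field F] [Fintype F] {m : ℕ} [CharP F 2] [hF : Fact (Fintype.card F = 2 ^ (2 * m + 1))]
variable {K : Type*} [Field K] [Fintype K] {k : ℕ} [CharP K 2] [hK : Fact (Fintype.card K = 2 ^ (2 * k + 1))]

omit [Fintype F] hF in
include hK in
/-- compatibility of the Frobenius-type endomorphisms -/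
theorem phi_sg (hd : 2 * k + 1 ∣ 2 * m + 1) (φ : K →+* F) (x : K) : φ (sg K k x) = sg F m (φ x) := by
  obtain ⟨l, hl⟩ := hd
  obtain ⟨r, hr⟩ : ∃ r, l = 2 * r + 1 := by
    rcases Nat.even_or_odd l with ⟨s, hs⟩ | ⟨s, hs⟩
    · exfalso
      rw [hs] at hl
      have : (2 * k + 1) * (s + s) = 2 * ((2 * k + 1) * s) := by ring
      omega
    · exact ⟨s, hs⟩
  have e1 : m + 1 = k + 1 + (2 * k + 1) * r := by
    rw [hr] at hl
    have : (2 * k + 1) * (2 * r + 1) = 2 * ((2 * k + 1) * r) + (2 * k + 1) := by ring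
    omega
  rw [sg_apply, sg_apply, ← map_pow, e1, pow_add 2 (k + 1), pow_mul x, pow_mul 2, ← hK.1,
    FiniteField.pow_card_pow]

omit [Fintype F] hF in
theorem phi_zz (hd : 2 * k + 1 ∣ 2 * m + 1) (φ : K →+* F) (a b : K) : φ (zz k a b) = zz m (φ a) (φ b) := by
  rw [zz_def, zz_def, map_add, map_add, map_mul, map_mul, map_pow, phi_sg hd, phi_sg hd]

/-- entrywise application -/
def slm (φ : K →+* F) : Matrix.SpecialLinearGroup (Fin 4) K →* Matrix.SpecialLinearGroup (Fin 4) F :=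
  Matrix.SpecialLinearGroup.map φ

omit [Fintype F] [CharP F 2] hF [Fintype K] [CharP K 2] hK in
theorem slm_apply (φ : K →+* F) (g : Matrix.SpecialLinearGroup (Fin 4) K) (i j : Fin 4) :
    (slm φ g).1 i j = φ (g.1 i j) := rfl

omit [Fintype F] hF in
theorem slm_U (hd : 2 * k + 1 ∣ 2 * m + 1) (φ : K →+* F) (a b : K) : slm φ (U k a b) = U m (φ a) (φ b) := by
  apply Subtype.ext
  ext i j
  rw [slm_apply]
  fin_cases i <;> fin_cases j <;> simp [U, phi_sg hd, phi_zz hd]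

omit [Fintype F] hF in
theorem slm_H (hd : 2 * k + 1 ∣ 2 * m + 1) (φ : K →+* F) (j : Kˣ) : slm φ (H k j) = H m (Units.map (φ : K →* F) j) := by
  apply Subtype.ext
  ext i l
  rw [slm_apply]
  fin_cases i <;> fin_cases l <;> simp [H, phi_sg hd, Matrix.diagonal]

omit [Fintype F] [CharP F 2] hF [Fintype K] [CharP K 2] hK in
theorem slm_W (φ : K →+* F) : slm φ (W K) = W F := by
  apply Subtype.ext
  ext i j
  rw [slm_apply]
  fin_cases i <;> fin_cases j <;> simp [W]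

variable [hm : Fact (1 ≤ m)] [hk : Fact (1 ≤ k)]

theorem slm_mem (hd : 2 * k + 1 ∣ 2 * m + 1) (φ : K →+* F) {g : Matrix.SpecialLinearGroup (Fin 4) K}
    (hg : g ∈ Cfsg.Sz K k) : slm φ g ∈ Cfsg.Sz F m := by
  obtain ⟨g', hg'⟩ : ∃ g' : Gz K k, g'.1 = g := ⟨⟨g, hg⟩, rfl⟩
  rw [← hg']
  by_cases hB : g' ∈ BB K k
  · obtain ⟨a, b, j, rfl⟩ := mem_BB'.1 hB
    change slm φ (U k a b * H k j) ∈ _
    rw [map_mul, slm_U hd, slm_H hd]
    exact mul_mem (U_mem _ _) (H_mem _)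
  · obtain ⟨x, y, a, b, j, rfl⟩ := bruhat hB
    change slm φ (U k x y * W K * (U k a b * H k j)) ∈ _
    rw [map_mul, map_mul, map_mul, slm_U hd, slm_H hd, slm_U hd, slm_W]
    exact mul_mem (mul_mem (U_mem _ _) W_mem) (mul_mem (U_mem _ _) (H_mem _))

/-- the embedding -/
def emb (hd : 2 * k + 1 ∣ 2 * m + 1) (φ : K →+* F) : Gz K k →* Gz F m where
  toFun g := ⟨slm φ g.1, slm_mem hd φ g.2⟩
  map_one' := Subtype.ext (map_one (slm φ))
  map_mul' g h := Subtype.ext (map_mul (slm φ) _ _)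

theorem emb_u (hd : 2 * k + 1 ∣ 2 * m + 1) (φ : K →+* F) (a b : K) : emb hd φ (u k a b) = u m (φ a) (φ b) :=
  Subtype.ext (slm_U hd φ a b)

theorem emb_hh (hd : 2 * k + 1 ∣ 2 * m + 1) (φ : K →+* F) (j : Kˣ) :
    emb hd φ (hh k j) = hh m (Units.map (φ : K →* F) j) := Subtype.ext (slm_H hd φ j)

theorem emb_ww (hd : 2 * k + 1 ∣ 2 * m + 1) (φ : K →+* F) : emb hd φ (ww K k) = ww F m := Subtype.ext (slm_W φ)

theorem emb_inj (hd : 2 * k + 1 ∣ 2 * m + 1) (φ : K →+* F) : Function.Injective (emb hd φ) := by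
  intro g h hgh
  apply Subtype.ext
  apply Subtype.ext
  ext i j
  apply φ.injective
  have h1 : (slm φ g.1) = slm φ h.1 := congrArg Subtype.val hgh
  rw [← slm_apply, ← slm_apply, h1]

/-- the range of the embedding -/
theorem mem_range_of (hd : 2 * k + 1 ∣ 2 * m + 1) (φ : K →+* F) {M : Subgroup (Gz F m)}
    (h1 : ∀ a b : K, u m (φ a) (φ b) ∈ M) (h2 : ∀ j : Kˣ, hh m (Units.map (φ : K →* F) j) ∈ M) (h3 : ww F m ∈ M) :
    (emb hd φ).range ≤ M := by
  rintro _ ⟨g, rfl⟩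
  by_cases hB : g ∈ BB K k
  · obtain ⟨a, b, j, rfl⟩ := mem_BB'.1 hB
    rw [map_mul, emb_u, emb_hh]
    exact mul_mem (h1 _ _) (h2 _)
  · obtain ⟨x, y, a, b, j, rfl⟩ := bruhat hB
    rw [map_mul, map_mul, map_mul, emb_u, emb_hh, emb_u, emb_ww]
    exact mul_mem (mul_mem (h1 _ _) h3) (mul_mem (h1 _ _) (h2 _))

omit [CharP F 2] [CharP K 2] hm hk in
include hF hK in
theorem exists_phi (hd : 2 * k + 1 ∣ 2 * m + 1) : Nonempty (K →+* F) := by
  haveI : Fact (Nat.Prime 2) := ⟨Nat.prime_two⟩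
  haveI := char_two hF.1
  haveI := char_two hK.1
  letI : Algebra (ZMod 2) F := ZMod.algebra F 2
  letI : Algebra (ZMod 2) K := ZMod.algebra K 2
  have h1 : Module.finrank (ZMod 2) F = 2 * m + 1 := by
    have h := Module.card_eq_pow_finrank (K := ZMod 2) (V := F)
    rw [hF.1, ZMod.card] at h
    exact (Nat.pow_right_injective (le_refl 2) h).symm
  have h2 : Module.finrank (ZMod 2) K = 2 * k + 1 := by
    have h := Module.card_eq_pow_finrank (K := ZMod 2) (V := K)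
    rw [hK.1, ZMod.card] at h
    exact (Nat.pow_right_injective (le_refl 2) h).symm
  obtain ⟨f⟩ := FiniteField.nonempty_algHom_of_finrank_dvd (F := ZMod 2) (K := K) (L := F) (by rw [h1, h2]; exact hd)
  exact ⟨f.toRingHom⟩

end CfsgL.Sz
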