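import Cfsg.Agent.L.Sz.OddSub

/-! Fixity two actions of the Suzuki groups. -/

set_option autoImplicit false

namespace CfsgL.Sz

open Subgroup CfsgL.Odd

variable {F : Type*} [Field F] [Fintype F] {m : ℕ} [CharP F 2] [hF : Fact (Fintype.card F = 2 ^ (2 * m + 1))]

section
variable [hm : Fact (1 ≤ m)]

theorem norm_fpf {g : Gz F m} (hg : Fpf g) :
    Nat.card (normalizer ((centralizer {g} : Subgroup (Gz F m)) : Set (Gz F m))) = 4 * Nat.card (centralizer {g}) := by
  obtain ⟨T₁, T₂, h₁, h₂, -, -, n₁, n₂, -, -, hall⟩ := tori_exist (F := F) (m := m)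
  have key : ∀ {T : Subgroup (Gz F m)}, Tor T → Nat.card (normalizer (T : Set (Gz F m))) = 4 * Nat.card T →
      g ∈ cc T → Nat.card (normalizer ((centralizer {g} : Subgroup (Gz F m)) : Set (Gz F m))) =
        4 * Nat.card (centralizer {g}) := by
    rintro T hT hn ⟨hg1, x, hx⟩
    have h1 : x * g * x⁻¹ ≠ 1 := by
      intro h
      apply hg1
      calc g = x⁻¹ * (x * g * x⁻¹) * x := by group
        _ = 1 := by rw [h]; group
    have h2 := hT.cent hx h1
    have h3 := norm_conj_card x g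
    obtain ⟨e⟩ := cent_conj_equiv x g
    rw [← h3, ← Nat.card_congr e.toEquiv, h2, hn]
  rcases hall g hg with h | h
  · exact key h₁ n₁ h
  · exact key h₂ n₂ h

/-- squares lie in subgroups of index at most two -/
theorem sq_mem_of_relIndex {G : Type*} [Group G] {H C : Subgroup G} (h0 : H.relIndex C ≠ 0)
    (h : H.relIndex C ≤ 2) {c : G} (hc : c ∈ C) : c * c ∈ H := by
  have h1 : H.relIndex C = 1 ∨ H.relIndex C = 2 := by omega
  rcases h1 with h1 | h1
  · have := relIndex_eq_one.1 h1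
    exact mul_mem (this hc) (this hc)
  · have := sq_mem_of_index_two (H := H.subgroupOf C) h1 ⟨c, hc⟩
    rw [mem_subgroupOf, pow_two] at this
    exact this

theorem surj_sgmul (b : F) : ∃ a : F, sg F m a * a = b := by
  by_cases hb : b = 0
  · exact ⟨0, by rw [hb, mul_zero]⟩
  have hinj : Function.Injective (fun j : Fˣ => (Units.mk0 (sg F m (j : F) * (j : F))
      (mul_ne_zero (sg_j_ne j) j.ne_zero) : Fˣ)) := by
    intro i j h
    have h1 : sg F m (i : F) * (i : F) = sg F m (j : F) * (j : F) := congrArg Units.val h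
    have h3 : sg F m (j : F) ≠ 0 := sg_j_ne j
    have h4 : (j : F) ≠ 0 := j.ne_zero
    have h2 : i * j⁻¹ = 1 := by
      apply j_eq_one_of_sg2 (m := m)
      have h5 : sg F m ((i * j⁻¹ : Fˣ) : F) * ((i * j⁻¹ : Fˣ) : F) = 1 := by
        rw [Units.val_mul, map_mul, Units.val_inv_eq_inv_val, map_inv₀]
        field_simp
        linear_combination h1
      have h6 := congrArg (sg F m) h5
      rw [map_mul, map_one, sg_sg, mul_comm] at h6
      exact h6
    exact mul_inv_eq_one.1 h2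
  obtain ⟨j, hj⟩ := (Finite.surjective_of_injective hinj) (Units.mk0 b hb)
  exact ⟨j, congrArg Units.val hj⟩

/-- A subgroup `H` containing `BB` is `BB` or everything. -/
theorem BB_max {H : Subgroup (Gz F m)} (h : BB F m ≤ H) : H = BB F m ∨ H = ⊤ := by
  haveI : MulAction.IsPreprimitive (Gz F m) (Om F m) :=
    MulAction.isPreprimitive_of_is_two_pretransitive isTwoTrans
  haveI : Nontrivial (Om F m) := ⟨⟨pinf F m, pzero F m, (pp_ne_inf _ _).symm⟩⟩
  have hco : IsCoatom (BB F m) := (MulAction.isCoatom_stabilizer_iff_preprimitive _ _).2 inferInstance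
  by_cases h1 : H = BB F m
  · exact Or.inl h1
  · right
    exact hco.2 _ (lt_of_le_of_ne h (Ne.symm h1))

section action
variable {Ω : Type*} [Finite Ω] [MulAction (Gz F m) Ω] (hfix : ∀ g : Gz F m, g ≠ 1 → Nat.card (MulAction.fixedBy Ω g) ≤ 2)

include hfix

theorem relIndex_norm_le {α : Ω} {A : Subgroup (Gz F m)} (hA : A ≤ MulAction.stabilizer (Gz F m) α)
    (hA1 : A ≠ ⊥) : (MulAction.stabilizer (Gz F m) α).relIndex (normalizer (A : Set (Gz F m))) ≤ 2 := by
  obtain ⟨⟨a, haA⟩, ha1'⟩ := ne_bot_iff_exists_ne_one.1 hA1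
  have ha1 : a ≠ 1 := fun h' => ha1' (Subtype.ext h')
  have h1 : (MulAction.stabilizer (Gz F m) α).relIndex (normalizer (A : Set (Gz F m))) =
      Nat.card (MulAction.orbit (normalizer (A : Set (Gz F m))) α) := by
    rw [Nat.card_congr (MulAction.orbitEquivQuotientStabilizer _ _)]
    rfl
  rw [h1]
  refine le_trans ?_ (hfix a ha1)
  apply Nat.card_le_card_of_injective (fun x : MulAction.orbit (normalizer (A : Set (Gz F m))) α =>
    (⟨x.1, ?_⟩ : MulAction.fixedBy Ω (a : Gz F m)))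
  · intro x y h
    have h' : x.1 = y.1 := congrArg (fun z : MulAction.fixedBy Ω (a : Gz F m) => (z : Ω)) h
    exact Subtype.ext h'
  · obtain ⟨n, hn⟩ := x.2
    have hn' : (n : Gz F m) • α = x.1 := hn
    rw [MulAction.mem_fixedBy, ← hn', ← inv_smul_eq_iff, ← mul_smul, ← mul_smul]
    have h2 : (n : Gz F m)⁻¹ * (a : Gz F m) * n ∈ A := by
      have h3 := (mem_nrm.1 (inv_mem n.2) a).1 haA
      rw [inv_inv] at h3
      exact h3
    exact MulAction.mem_stabilizer_iff.1 (hA h2)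

theorem even_case [FaithfulSMul (Gz F m) Ω] [MulAction.IsPretransitive (Gz F m) Ω] {α : Ω} {b : F} (hb : b ≠ 0)
    (h : u m 0 b ∈ MulAction.stabilizer (Gz F m) α) : MulAction.stabilizer (Gz F m) α = BB F m := by
  have hne0 : ∀ C : Subgroup (Gz F m), (MulAction.stabilizer (Gz F m) α).relIndex C ≠ 0 := fun C =>
    FiniteIndex.index_ne_zero
  have hub : u m 0 b ≠ 1 := fun h => hb (u_ne_one h).2
  have h1 := relIndex_norm_le hfix (A := zpowers (u m 0 b)) ((zpowers_le).2 h) (by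
    intro h2
    rw [zpowers_eq_bot] at h2
    exact hub h2)
  have hQN : QQ F m ≤ normalizer ((zpowers (u m 0 b) : Subgroup (Gz F m)) : Set (Gz F m)) := by
    intro x hx
    obtain ⟨c, d, rfl⟩ := hx
    have hcomm : u m c d * u m 0 b * (u m c d)⁻¹ = u m 0 b := by
      rw [mul_inv_eq_iff_eq_mul, u_mul, u_mul, map_zero, mul_zero, zero_mul, add_comm c 0, add_comm d b]
    rw [mem_nrm]
    intro t
    have key : ∀ (x : Gz F m), x * u m 0 b * x⁻¹ = u m 0 b → ∀ t ∈ zpowers (u m 0 b), x * t * x⁻¹ ∈ zpowers (u m 0 b) := by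
      rintro x hx _ ⟨k, rfl⟩
      refine ⟨k, ?_⟩
      change u m 0 b ^ k = x * u m 0 b ^ k * x⁻¹
      rw [← conj_zpow, hx]
    constructor
    · exact key _ hcomm t
    · intro h3
      have h4 := key (u m c d)⁻¹ (by
        calc (u m c d)⁻¹ * u m 0 b * (u m c d)⁻¹⁻¹ = (u m c d)⁻¹ * (u m c d * u m 0 b * (u m c d)⁻¹) * u m c d := by
              rw [hcomm]; group
          _ = _ := by group) _ h3
      have h5 : (u m c d)⁻¹ * (u m c d * t * (u m c d)⁻¹) * (u m c d)⁻¹⁻¹ = t := by group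
      rwa [h5] at h4
  have hZ : ZQ F m ≤ MulAction.stabilizer (Gz F m) α := by
    rintro _ ⟨d, rfl⟩
    obtain ⟨a, ha⟩ := surj_sgmul (m := m) d
    have := sq_mem_of_relIndex (hne0 _) h1 (hQN (u_mem_QQ a 0))
    rw [u_sq, ha] at this
    exact this
  -- `N(ZQ) ≥ BB`
  have hBN : BB F m ≤ normalizer ((ZQ F m : Subgroup (Gz F m)) : Set (Gz F m)) := by
    have key : ∀ x ∈ BB F m, ∀ t ∈ ZQ F m, x * t * x⁻¹ ∈ ZQ F m := by
      rintro x hx _ ⟨d, rfl⟩
      obtain ⟨x1, y1, j, rfl⟩ := mem_BB'.1 hx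
      refine ⟨sg F m j * j ^ 2 * d, ?_⟩
      have h1 : (u m x1 y1 * hh m j) * u m 0 d * (u m x1 y1 * hh m j)⁻¹ =
        u m x1 y1 * (hh m j * u m 0 d * (hh m j)⁻¹) * (u m x1 y1)⁻¹ := by group
      rw [h1, hh_u, mul_zero, mul_inv_cancel_right, mul_inv_eq_iff_eq_mul, u_mul, u_mul, map_zero, mul_zero,
        zero_mul, add_comm x1 0, add_comm y1]
    intro x hx
    rw [mem_nrm]
    intro t
    refine ⟨key x hx t, fun h => ?_⟩
    have h4 := key _ (inv_mem hx) _ h
    have h5 : x⁻¹ * (x * t * x⁻¹) * x⁻¹⁻¹ = t := by group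
    rwa [h5] at h4
  have h2 := relIndex_norm_le hfix (A := ZQ F m) hZ (by
    intro h2
    have : u m 0 b ∈ ZQ F m := ⟨b, rfl⟩
    rw [h2, mem_bot] at this
    exact hub this)
  have hsq : ∀ x ∈ BB F m, x * x ∈ MulAction.stabilizer (Gz F m) α := fun x hx =>
    sq_mem_of_relIndex (hne0 _) h2 (hBN hx)
  have hK : ∀ j, hh m j ∈ MulAction.stabilizer (Gz F m) α := by
    intro j
    obtain ⟨i, hi⟩ := exists_sqrt (m := m) j
    have := hsq (hh m i) (KK_le_BB (mem_KK.2 ⟨i, rfl⟩))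
    rwa [← hh_mul, hi] at this
  have hKc : ∀ j a b, u m a b * (hh m j)⁻¹ * (u m a b)⁻¹ ∈ MulAction.stabilizer (Gz F m) α := by
    intro j a b
    obtain ⟨i, hi⟩ := exists_sqrt (m := m) j
    have := hsq (u m a b * (hh m i)⁻¹ * (u m a b)⁻¹) (mul_mem (mul_mem (QQ_le_BB (u_mem_QQ _ _))
      (inv_mem (KK_le_BB (mem_KK.2 ⟨i, rfl⟩)))) (inv_mem (QQ_le_BB (u_mem_QQ _ _))))
    have h3 : (u m a b * (hh m i)⁻¹ * (u m a b)⁻¹) * (u m a b * (hh m i)⁻¹ * (u m a b)⁻¹) =
        u m a b * (hh m i * hh m i)⁻¹ * (u m a b)⁻¹ := by group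
    rwa [h3, ← hh_mul, hi] at this
  have hQ : ∀ a b, u m a b ∈ MulAction.stabilizer (Gz F m) α := by
    obtain ⟨j, hj⟩ := exists_j (F := F) (m := m)
    intro a b
    have e1 : sg F m (j : F) + 1 ≠ 0 := by
      intro h0
      apply hj (j_eq_one_of_sg (m := m) _)
      have := two0 (1 : F)
      linear_combination h0 - this
    obtain ⟨c, hc⟩ : ∃ c, c = a / (sg F m (j : F) + 1) := ⟨_, rfl⟩
    have hc' : c * (sg F m (j : F) + 1) = a := by rw [hc]; field_simp
    have h1 : hh m j * (u m c 0 * (hh m j)⁻¹ * (u m c 0)⁻¹) ∈ MulAction.stabilizer (Gz F m) α :=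
      mul_mem (hK j) (hKc j c 0)
    have h2 : hh m j * (u m c 0 * (hh m j)⁻¹ * (u m c 0)⁻¹) =
        u m a (sg F m c * c + sg F m (sg F m j * c) * c) := by
      have : hh m j * (u m c 0 * (hh m j)⁻¹ * (u m c 0)⁻¹) =
        (hh m j * u m c 0) * (hh m j)⁻¹ * (u m c 0)⁻¹ := by group
      rw [this, hh_u, mul_inv_cancel_right, u_inv, u_mul, mul_zero, zero_add, zero_add]
      congr 1
      rw [← hc']; ring
    rw [h2] at h1
    have h3 := mul_mem (hZ ⟨b + (sg F m c * c + sg F m (sg F m j * c) * c), rfl⟩) h1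
    rw [u_mul, map_zero, zero_mul, add_zero, zero_add, add_assoc, two0, add_zero] at h3
    exact h3
  have hB : BB F m ≤ MulAction.stabilizer (Gz F m) α := by
    intro x hx
    obtain ⟨a, b, j, rfl⟩ := mem_BB'.1 hx
    exact mul_mem (hQ a b) (hK j)
  rcases BB_max hB with h3 | h3
  · exact h3
  · exfalso
    have h4 : ∀ β : Ω, β = α := by
      intro β
      obtain ⟨g, hg⟩ := MulAction.exists_smul_eq (Gz F m) α β
      have : g ∈ MulAction.stabilizer (Gz F m) α := by rw [h3]; trivial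
      rw [← hg]; exact this
    apply hub
    apply FaithfulSMul.eq_of_smul_eq_smul (α := Ω)
    intro β
    rw [h4 (u m 0 b • β), h4 ((1 : Gz F m) • β)]

theorem odd_case {α : Ω} (ho : Odd (Nat.card (MulAction.stabilizer (Gz F m) α)))
    (h1 : MulAction.stabilizer (Gz F m) α ≠ ⊥) :
    Nat.card (MulAction.stabilizer (Gz F m) α) = Nat.card F - 1 := by
  obtain ⟨H, hH⟩ : ∃ H, H = MulAction.stabilizer (Gz F m) α := ⟨_, rfl⟩
  have hne0 : ∀ C : Subgroup (Gz F m), H.relIndex C ≠ 0 := fun C => FiniteIndex.index_ne_zero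
  rw [← hH] at ho h1 ⊢
  obtain ⟨⟨g, hgH⟩, hg1, hgo, hg⟩ := odd_group (oddCent_sub H) ho (by
    intro h; exact h1 (card_eq_one.1 h))
  have hg1' : g ≠ 1 := fun h => hg1 (Subtype.ext h)
  have hgo' : Odd (orderOf g) := by rwa [← orderOf_coe] at hgo
  have hHle : H ≤ centralizer {g} := by
    intro x hx
    have : (⟨x, hx⟩ : H) ∈ centralizer {(⟨g, hgH⟩ : H)} := by rw [← hg]; trivial
    rw [mem_centralizer_singleton_iff] at this ⊢
    exact congrArg Subtype.val this
  -- index of `H` in the normalizer of `zpowers g`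
  have h2 := relIndex_norm_le hfix (α := α) (A := H) (by rw [hH]) h1
  rw [← hH] at h2
  have hCN : centralizer {g} ≤ normalizer (H : Set (Gz F m)) := by
    intro x hx
    rw [mem_nrm]
    obtain ⟨hcyc, -⟩ := cent_odd hg1' hgo'
    have key : ∀ x ∈ centralizer {g}, ∀ t ∈ H, x * t * x⁻¹ ∈ H := by
      intro x hx t ht
      have h3 := cent_comm_of_cyclic hcyc (mem_centralizer_singleton_iff.1 hx)
        (mem_centralizer_singleton_iff.1 (hHle ht))
      rw [h3, mul_inv_cancel_right]; exact ht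
    intro t
    refine ⟨key x hx t, fun h => ?_⟩
    have h4 := key _ (inv_mem hx) _ h
    have h5 : x⁻¹ * (x * t * x⁻¹) * x⁻¹⁻¹ = t := by group
    rwa [h5] at h4
  have h3 : H.relIndex (centralizer {g}) ≤ 2 := (relIndex_le_of_le_right hCN (hne0 _)).trans h2
  have h4 : H.relIndex (centralizer {g}) = 1 := by
    have h5 : H.relIndex (centralizer {g}) ∣ Nat.card (centralizer {g}) := by
      rw [← relIndex_card hHle]; exact dvd_mul_right _ _
    have h6 := (cent_odd hg1' hgo').2.of_dvd_nat h5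
    obtain ⟨k, hk⟩ := h6
    omega
  have h5 : H = centralizer {g} := le_antisymm hHle (relIndex_eq_one.1 h4)
  rcases cent_tri hg1' with ⟨x, hx⟩ | ⟨-, h6 | ⟨hf, -⟩⟩
  · exact absurd hx (odd_not_QQ hg1' hgo')
  · rw [h5, h6]
  · exfalso
    have h7 := norm_fpf hf
    rw [h5] at h2
    have h8 := relIndex_card (le_normalizer (H := centralizer {g}))
    rw [h7] at h8
    have h9 := Nat.eq_of_mul_eq_mul_right Nat.card_pos h8
    omega

end action

end

end CfsgL.Sz
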