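import Cfsg.Agent.L.Sz.Card

/-! The Suzuki groups preserve the alternating form. -/

set_option autoImplicit false

namespace CfsgL.Sz

open Matrix

variable {F : Type*} [Field F] [Fintype F] {m : ℕ} [CharP F 2] [hF : Fact (Fintype.card F = 2 ^ (2 * m + 1))]

/-- preserving the form -/
def PF (g : Matrix (Fin 4) (Fin 4) F) : Prop := g.transpose * Cfsg.suzukiForm F * g = Cfsg.suzukiForm F

omit [Fintype F] [CharP F 2] hF in
theorem PF.mul {g h : Matrix (Fin 4) (Fin 4) F} (hg : PF g) (hh : PF h) : PF (g * h) := by
  unfold PF at *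
  rw [Matrix.transpose_mul]
  calc h.transpose * g.transpose * Cfsg.suzukiForm F * (g * h)
      = h.transpose * (g.transpose * Cfsg.suzukiForm F * g) * h := by simp only [Matrix.mul_assoc]
    _ = _ := by rw [hg, hh]

theorem PF_U (a b : F) : PF (U m a b).1 := by
  unfold PF
  ext i j
  have h1 := two0 a
  have h2 := two0 (sg F m a)
  have h3 := two0 (b + sg F m a * a)
  have h4 := two0 b
  have h5 := two0 (zz m a b)
  have h6 := two0 (b * a)
  have h7 := two0 (sg F m a * a)
  fin_cases i <;> fin_cases j <;>
    simp [U, Cfsg.suzukiForm, Matrix.mul_apply, Fin.sum_univ_four, Matrix.vecMul, dotProduct, Matrix.transpose]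
  all_goals first
    | exact h1
    | exact h2
    | linear_combination h1
    | linear_combination h2
    | linear_combination h3
    | linear_combination h3 + h4
    | linear_combination h7
    | linear_combination h4 + h7
    | linear_combination h5 + h6
    | linear_combination h5 + h6 + h7
    | linear_combination h5

theorem PF_H (j : Fˣ) : PF (H m j).1 := by
  have h1 : (j : F) ≠ 0 := j.ne_zero
  have h2 : sg F m (j : F) ≠ 0 := by rwa [Ne, sg_eq_zero]
  unfold PF
  ext i k
  fin_cases i <;> fin_cases k <;>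
    simp [H, Cfsg.suzukiForm, Matrix.mul_apply, Fin.sum_univ_four, Matrix.vecMul, dotProduct, Matrix.transpose,
      Matrix.diagonal] <;> field_simp

omit [Fintype F] [CharP F 2] hF in
theorem PF_W : PF (W F).1 := by
  unfold PF
  ext i k
  fin_cases i <;> fin_cases k <;>
    simp [W, Cfsg.suzukiForm, Matrix.mul_apply, Fin.sum_univ_four, Matrix.vecMul, dotProduct, Matrix.transpose]

theorem form_Sz [hm : Fact (1 ≤ m)] (g : Gz F m) : PF g.1.1 := by
  by_cases hg : g ∈ BB F m
  · obtain ⟨a, b, j, rfl⟩ := mem_BB'.1 hg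
    exact (PF_U (m := m) a b).mul (PF_H (m := m) j)
  · obtain ⟨x, y, a, b, j, rfl⟩ := bruhat hg
    exact ((PF_U (m := m) x y).mul PF_W).mul ((PF_U (m := m) a b).mul (PF_H (m := m) j))

end CfsgL.Sz
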