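import Cfsg.Agent.L.Sz.Basic

/-! The Suzuki groups: relations and the stabilizer of two points. -/

set_option autoImplicit false

namespace CfsgL.Sz

open Matrix

variable {F : Type*} [Field F] [Fintype F] {m : ℕ} [CharP F 2] [hF : Fact (Fintype.card F = 2 ^ (2 * m + 1))]

omit hF in
theorem mem_Sz {g : SpecialLinearGroup (Fin 4) F} :
    g ∈ Cfsg.Sz F m ↔ ∀ p, p ∈ Cfsg.suzukiOvoid F m → g • p ∈ Cfsg.suzukiOvoid F m := by
  rw [MulAction.mem_stabilizer_set' (Set.toFinite _)]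

theorem mem_Sz' {g : SpecialLinearGroup (Fin 4) F} (h1 : g • inf F ∈ Cfsg.suzukiOvoid F m)
    (h2 : ∀ x y, g • pt m x y ∈ Cfsg.suzukiOvoid F m) : g ∈ Cfsg.Sz F m := by
  rw [mem_Sz]
  intro p hp
  rcases mem_ovoid.1 hp with rfl | ⟨x, y, rfl⟩
  · exact h1
  · exact h2 x y

theorem U_mem (a b : F) : U m a b ∈ Cfsg.Sz F m := by
  apply mem_Sz'
  · rw [U_inf]; exact inf_mem
  · intro x y; rw [U_pt]; exact pt_mem _ _

theorem H_mem (j : Fˣ) : H m j ∈ Cfsg.Sz F m := by
  apply mem_Sz'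
  · rw [H_inf]; exact inf_mem
  · intro x y; rw [H_pt]; exact pt_mem _ _

theorem W_mem : W F ∈ Cfsg.Sz F m := by
  apply mem_Sz'
  · rw [W_inf (m := m)]; exact pt_mem _ _
  · intro x y
    by_cases h : zz m x y = 0
    · obtain ⟨rfl, rfl⟩ := (zz_eq_zero (m := m)).1 h
      rw [W_zero]; exact inf_mem (m := m)
    · rw [W_pt h]; exact pt_mem _ _

theorem U_mul (a b c d : F) : U m a b * U m c d = U m (a + c) (b + d + sg F m a * c) := by
  apply Subtype.ext
  have h1 := zz_translate (m := m) a b c d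
  have h2 := two0 (sg F m a * c)
  change (U m a b).1 * (U m c d).1 = (U m (a + c) (b + d + sg F m a * c)).1
  ext i j
  fin_cases i <;> fin_cases j <;>
    simp [U, Matrix.mul_apply, Fin.sum_univ_four]
  case «0».«1» => ring
  case «0».«2» => linear_combination (-1 : F) * h2
  case «0».«3» => rw [add_comm a c, add_comm b d, h1]
  case «1».«3» => ring
  all_goals ring

omit [Fintype F] hF in
theorem U_zero : U m (0 : F) 0 = 1 := by
  apply Subtype.ext
  change (U m (0:F) 0).1 = 1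
  ext i j
  fin_cases i <;> fin_cases j <;> simp [U, zz00]

theorem U_inv (a b : F) : (U m a b)⁻¹ = U m a (b + sg F m a * a) := by
  rw [inv_eq_iff_mul_eq_one, U_mul, two0]
  have : b + (b + sg F m a * a) + sg F m a * a = (b + b) + (sg F m a * a + sg F m a * a) := by ring
  rw [this, two0, two0, add_zero, U_zero]

omit [Fintype F] hF in
theorem H_mul (i j : Fˣ) : H m (i * j) = H m i * H m j := by
  apply Subtype.ext
  change (H m (i * j)).1 = (H m i).1 * (H m j).1
  rw [H, H, H]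
  simp only
  rw [Matrix.diagonal_mul_diagonal]
  congr 1
  ext k
  have h1 : (j : F) ≠ 0 := j.ne_zero
  have h2 : sg F m (j : F) ≠ 0 := by rwa [Ne, sg_eq_zero]
  have h3 : (i : F) ≠ 0 := i.ne_zero
  have h4 : sg F m (i : F) ≠ 0 := by rwa [Ne, sg_eq_zero]
  fin_cases k <;> simp <;> field_simp

omit [Fintype F] hF in
theorem H_one : H m (1 : Fˣ) = 1 := by
  apply Subtype.ext
  change (H m 1).1 = 1
  rw [H, ← Matrix.diagonal_one]
  simp only
  congr 1
  ext k
  fin_cases k <;> simp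

omit [Fintype F] hF in
theorem H_inv (j : Fˣ) : (H m j)⁻¹ = H m j⁻¹ := by
  rw [inv_eq_iff_mul_eq_one, ← H_mul, mul_inv_cancel, H_one]

omit [Fintype F] [CharP F 2] hF in
theorem W_mul_W : W F * W F = 1 := by
  apply Subtype.ext
  change (W F).1 * (W F).1 = 1
  ext i j
  fin_cases i <;> fin_cases j <;> simp [W, Matrix.mul_apply, Fin.sum_univ_four]

omit [Fintype F] [CharP F 2] hF in
theorem W_inv : (W F)⁻¹ = W F := by rw [inv_eq_iff_mul_eq_one, W_mul_W]

omit [Fintype F] hF in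
theorem W_H (j : Fˣ) : W F * H m j = H m j⁻¹ * W F := by
  apply Subtype.ext
  change (W F).1 * (H m j).1 = (H m j⁻¹).1 * (W F).1
  have h1 : (j : F) ≠ 0 := j.ne_zero
  have h2 : sg F m (j : F) ≠ 0 := by rwa [Ne, sg_eq_zero]
  ext a b
  fin_cases a <;> fin_cases b <;>
    simp [W, H, Matrix.mul_apply, Fin.sum_univ_four, Matrix.diagonal, mul_comm]

theorem H_U (j : Fˣ) (a b : F) :
    H m j * U m a b = U m (sg F m j * a) (sg F m j * j ^ 2 * b) * H m j := by
  apply Subtype.ext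
  change (H m j).1 * (U m a b).1 = (U m (sg F m j * a) (sg F m j * j ^ 2 * b)).1 * (H m j).1
  have h1 : (j : F) ≠ 0 := j.ne_zero
  have h2 : sg F m (j : F) ≠ 0 := by rwa [Ne, sg_eq_zero]
  have h3 := zz_scale a b j (sg_sg (m := m))
  ext s t
  fin_cases s <;> fin_cases t <;>
    simp [U, H, Matrix.mul_apply, Fin.sum_univ_four, Matrix.diagonal, h3, sg_sg] <;>
    field_simp

/-! ### vanishing polynomials -/

omit [CharP F 2] in
theorem poly_van (hm : 1 ≤ m) {c1 c2 c3 : F}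
    (h : ∀ t : F, c1 * t ^ (2 ^ (m + 1) + 2) + c2 * t ^ (2 ^ (m + 1)) + c3 * t ^ 2 = 0) :
    c1 = 0 ∧ c2 = 0 ∧ c3 = 0 := by
  obtain ⟨s, hs⟩ : ∃ s, s = 2 ^ (m + 1) := ⟨_, rfl⟩
  rw [← hs] at h
  have hs4 : 4 ≤ s := by
    rw [hs]
    calc 4 = 2 ^ 2 := rfl
      _ ≤ 2 ^ (m + 1) := Nat.pow_le_pow_right (by norm_num) (by omega)
  have hsq : s + 2 < Fintype.card F := by
    rw [hF.1]
    have : 2 ^ (2 * m + 1) = s * 2 ^ m := by rw [hs, ← pow_add]; congr 1; ring
    rw [this]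
    have h2 : 2 ≤ 2 ^ m := by
      calc 2 = 2 ^ 1 := rfl
        _ ≤ 2 ^ m := Nat.pow_le_pow_right (by norm_num) hm
    nlinarith
  let p : Polynomial F := Polynomial.C c1 * Polynomial.X ^ (s + 2) + Polynomial.C c2 * Polynomial.X ^ s
    + Polynomial.C c3 * Polynomial.X ^ 2
  have hp : p = 0 := by
    apply Polynomial.eq_zero_of_natDegree_lt_card_of_eval_eq_zero (ι := F) p (f := id)
      Function.injective_id
    · intro t
      simp only [p, Polynomial.eval_add, Polynomial.eval_mul, Polynomial.eval_C,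
        Polynomial.eval_pow, Polynomial.eval_X, id]
      exact h t
    · refine lt_of_le_of_lt ?_ hsq
      simp only [p]
      refine (Polynomial.natDegree_add_le _ _).trans (max_le ?_ ?_)
      · refine (Polynomial.natDegree_add_le _ _).trans (max_le ?_ ?_)
        · exact Polynomial.natDegree_C_mul_X_pow_le _ _
        · exact (Polynomial.natDegree_C_mul_X_pow_le _ _).trans (by omega)
      · exact (Polynomial.natDegree_C_mul_X_pow_le _ _).trans (by omega)
  have hc : ∀ k, p.coeff k = 0 := fun k => by rw [hp]; simp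
  have e1 := hc (s + 2)
  have e2 := hc s
  have e3 := hc 2
  simp only [p, Polynomial.coeff_add, Polynomial.coeff_C_mul, Polynomial.coeff_X_pow] at e1 e2 e3
  refine ⟨?_, ?_, ?_⟩
  · rw [if_pos trivial, if_neg (by omega), if_neg (by omega)] at e1; simpa using e1
  · rw [if_neg (by omega), if_pos trivial, if_neg (by omega)] at e2; simpa using e2
  · rw [if_neg (by omega), if_neg (by omega), if_pos trivial] at e3; simpa using e3

theorem poly_van' (hm : 1 ≤ m) {c1 c2 c3 : F}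
    (h : ∀ t : F, c1 * (sg F m t * t ^ 2) + c2 * sg F m t + c3 * t ^ 2 = 0) :
    c1 = 0 ∧ c2 = 0 ∧ c3 = 0 := by
  apply poly_van hm
  intro t
  rw [pow_add, ← sg_apply]
  exact h t

/-! ### The stabilizer of two points -/

theorem exists_pt_of_ne {p : Projectivization F (Fin 4 → F)} (hp : p ∈ Cfsg.suzukiOvoid F m)
    (h : p ≠ inf F) : ∃ x y, p = pt m x y := by
  rcases mem_ovoid.1 hp with h1 | h1
  · exact absurd h1 h
  · exact h1

theorem img {g : SpecialLinearGroup (Fin 4) F} (hg : g ∈ Cfsg.Sz F m) (h1 : g • inf F = inf F)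
    (x y : F) : ∃ x' y', ∃ c : F, c ≠ 0 ∧
      g.1.mulVec ![zz m x y, y, x, 1] = c • ![zz m x' y', y', x', 1] := by
  have h2 : g • pt m x y ≠ inf F := by
    intro h
    rw [← h1] at h
    exact pt_ne_inf x y (smul_left_cancel g h)
  obtain ⟨x', y', h3⟩ := exists_pt_of_ne (mem_Sz.1 hg _ (pt_mem x y)) h2
  refine ⟨x', y', ?_⟩
  have h4 : g.1.mulVec ![zz m x y, y, x, 1] ≠ 0 :=
    (smul_ne_zero_iff_ne g).mpr (vec_ne_zero one_ne_zero)
  change Projectivization.mk F (g.1.mulVec ![zz m x y, y, x, 1]) h4 = _ at h3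
  unfold pt at h3
  rw [Projectivization.mk_eq_mk_iff'] at h3
  obtain ⟨c, hc⟩ := h3
  refine ⟨c, ?_, hc.symm⟩
  rintro rfl
  rw [zero_smul] at hc
  exact h4 hc.symm

omit [Fintype F] hF [CharP F 2] in
theorem col0 {g : SpecialLinearGroup (Fin 4) F} (h1 : g • inf F = inf F) :
    g.1 1 0 = 0 ∧ g.1 2 0 = 0 ∧ g.1 3 0 = 0 := by
  have h4 : g.1.mulVec ![(1 : F), 0, 0, 0] ≠ 0 :=
    (smul_ne_zero_iff_ne g).mpr inf_vec_ne
  change Projectivization.mk F (g.1.mulVec ![(1 : F), 0, 0, 0]) h4 = _ at h1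
  unfold inf at h1
  rw [Projectivization.mk_eq_mk_iff'] at h1
  obtain ⟨c, hc⟩ := h1
  have e1 := congrFun hc 1
  have e2 := congrFun hc 2
  have e3 := congrFun hc 3
  simp [Matrix.mulVec, dotProduct, Fin.sum_univ_four] at e1 e2 e3
  exact ⟨e1.symm, e2.symm, e3.symm⟩

omit [Fintype F] hF in
theorem col3 {g : SpecialLinearGroup (Fin 4) F} (h1 : g • pt m (0 : F) 0 = pt m 0 0) :
    g.1 0 3 = 0 ∧ g.1 1 3 = 0 ∧ g.1 2 3 = 0 := by
  have h4 : g.1.mulVec ![zz m (0 : F) 0, 0, 0, 1] ≠ 0 :=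
    (smul_ne_zero_iff_ne g).mpr (vec_ne_zero one_ne_zero)
  change Projectivization.mk F (g.1.mulVec ![zz m (0 : F) 0, 0, 0, 1]) h4 = _ at h1
  unfold pt at h1
  rw [Projectivization.mk_eq_mk_iff'] at h1
  obtain ⟨c, hc⟩ := h1
  have e0 := congrFun hc 0
  have e1 := congrFun hc 1
  have e2 := congrFun hc 2
  rw [zz00] at e0 e1 e2
  simp [Matrix.mulVec, dotProduct, Fin.sum_univ_four] at e0 e1 e2
  exact ⟨e0.symm, e1.symm, e2.symm⟩

theorem row3 {g : SpecialLinearGroup (Fin 4) F} (hg : g ∈ Cfsg.Sz F m) (h1 : g • inf F = inf F) :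
    g.1 3 1 = 0 ∧ g.1 3 2 = 0 := by
  have hc := col0 h1
  have h2 : ∀ x y, g.1 3 1 * y + g.1 3 2 * x + g.1 3 3 ≠ 0 := by
    intro x y
    obtain ⟨x', y', c, hc0, h⟩ := img hg h1 x y
    have e3 := congrFun h 3
    simp [Matrix.mulVec, dotProduct, Fin.sum_univ_four, hc.2.2] at e3
    rw [e3]; exact hc0
  constructor
  · by_contra h
    apply h2 0 (-(g.1 3 3) / g.1 3 1)
    field_simp
    ring
  · by_contra h
    apply h2 (-(g.1 3 3) / g.1 3 2) 0
    field_simp
    ring

theorem fix_two (hm : 1 ≤ m) {g : SpecialLinearGroup (Fin 4) F} (hg : g ∈ Cfsg.Sz F m)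
    (h1 : g • inf F = inf F) (h2 : g • pt m (0 : F) 0 = pt m 0 0) : ∃ j, g = H m j := by
  obtain ⟨c10, c20, c30⟩ := col0 h1
  obtain ⟨c03, c13, c23⟩ := col3 h2
  obtain ⟨c31, c32⟩ := row3 hg h1
  have hwgw : W F * g * W F ∈ Cfsg.Sz F m :=
    mul_mem (mul_mem W_mem hg) W_mem
  have hw1 : (W F * g * W F) • inf F = inf F := by
    rw [mul_smul, mul_smul, W_inf (m := m), h2, W_zero]
  have hr := row3 hwgw hw1
  have c02 : g.1 0 2 = 0 := by
    have := hr.1
    change ((W F).1 * g.1 * (W F).1) 3 1 = 0 at this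
    simpa [W, Matrix.mul_apply, Fin.sum_univ_four, Matrix.vecMul, dotProduct] using this
  have c01 : g.1 0 1 = 0 := by
    have := hr.2
    change ((W F).1 * g.1 * (W F).1) 3 2 = 0 at this
    simpa [W, Matrix.mul_apply, Fin.sum_univ_four, Matrix.vecMul, dotProduct] using this
  -- equation
  obtain ⟨a, ha⟩ : ∃ a, a = g.1 0 0 := ⟨_, rfl⟩
  obtain ⟨d, hd⟩ : ∃ d, d = g.1 3 3 := ⟨_, rfl⟩
  obtain ⟨p, hp⟩ : ∃ p, p = g.1 1 1 := ⟨_, rfl⟩
  obtain ⟨q, hq⟩ : ∃ q, q = g.1 1 2 := ⟨_, rfl⟩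
  obtain ⟨r, hr⟩ : ∃ r, r = g.1 2 1 := ⟨_, rfl⟩
  obtain ⟨s, hs⟩ : ∃ s, s = g.1 2 2 := ⟨_, rfl⟩
  have hdet := g.2
  have hdet' : a * (p * s - q * r) * d = 1 := by
    rw [Matrix.det_succ_row_zero] at hdet
    simp [Fin.sum_univ_four, Matrix.det_fin_three, Fin.succAbove, c01, c02, c03, c10, c20, c30, c13, c23,
      c31, c32] at hdet
    rw [ha, hd, hp, hq, hr, hs]
    linear_combination hdet
  have hd0 : d ≠ 0 := by
    rintro rfl
    rw [mul_zero] at hdet'
    exact zero_ne_one hdet'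
  have key : ∀ x y : F, a / d * zz m x y = zz m (r / d * y + s / d * x) (p / d * y + q / d * x) := by
    intro x y
    obtain ⟨x', y', c, hc0, h⟩ := img hg h1 x y
    have e0 := congrFun h 0
    have e1 := congrFun h 1
    have e2 := congrFun h 2
    have e3 := congrFun h 3
    simp [Matrix.mulVec, dotProduct, Fin.sum_univ_four, c01, c02, c03, c10, c20, c30, c13, c23,
      c31, c32] at e0 e1 e2 e3
    rw [← ha] at e0
    rw [← hp, ← hq] at e1
    rw [← hr, ← hs] at e2
    rw [← hd] at e3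
    subst e3
    have hx : x' = r / d * y + s / d * x := by field_simp; linear_combination -e2
    have hy : y' = p / d * y + q / d * x := by field_simp; linear_combination -e1
    rw [← hx, ← hy]
    field_simp
    linear_combination e0
  obtain ⟨A, hA⟩ : ∃ A, A = a / d := ⟨_, rfl⟩
  obtain ⟨P, hP⟩ : ∃ P, P = p / d := ⟨_, rfl⟩
  obtain ⟨Q, hQ⟩ : ∃ Q, Q = q / d := ⟨_, rfl⟩
  obtain ⟨R, hR⟩ : ∃ R, R = r / d := ⟨_, rfl⟩
  obtain ⟨S, hS⟩ : ∃ S, S = s / d := ⟨_, rfl⟩
  rw [← hA, ← hP, ← hQ, ← hR, ← hS] at key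
  -- x = 0
  have v1 := poly_van' (F := F) (m := m) hm (c1 := sg F m R * R ^ 2) (c2 := sg F m P - A) (c3 := R * P)
    (fun t => by
      have := key 0 t
      rw [zz_def, zz_def] at this
      simp only [map_zero, map_add, map_mul] at this
      linear_combination -this)
  have hR0 : R = 0 := by
    rcases mul_eq_zero.1 v1.1 with h | h
    · exact sg_eq_zero.1 h
    · exact pow_eq_zero_iff (two_ne_zero) |>.1 h
  have v2 := poly_van' (F := F) (m := m) hm (c1 := sg F m S * S ^ 2 - A) (c2 := sg F m Q) (c3 := S * Q)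
    (fun t => by
      have := key t 0
      rw [zz_def, zz_def] at this
      simp only [map_zero, map_add, map_mul] at this
      linear_combination -this)
  have hQ0 : Q = 0 := sg_eq_zero.1 v2.2.1
  have hAS : A = sg F m S * S ^ 2 := by linear_combination -v2.1
  have hAP : A = sg F m P := by linear_combination -v1.2.1
  have hASP : A = S * P := by
    have := key 1 1
    rw [zz_def, zz_def] at this
    simp only [map_zero, map_add, map_mul, map_one, hR0, hQ0] at this
    linear_combination this - hAP - hAS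
  have hR' : r = 0 := by
    rw [hR] at hR0
    rcases div_eq_zero_iff.1 hR0 with h | h
    · exact h
    · exact absurd h hd0
  have hQ' : q = 0 := by
    rw [hQ] at hQ0
    rcases div_eq_zero_iff.1 hQ0 with h | h
    · exact h
    · exact absurd h hd0
  have ha' : a = A * d := by rw [hA]; field_simp
  have hp' : p = P * d := by rw [hP]; field_simp
  have hs' : s = S * d := by rw [hS]; field_simp
  rw [hR', hQ'] at hdet'
  have hS0 : S ≠ 0 := by
    rintro h
    rw [hs', h] at hdet'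
    apply zero_ne_one (α := F)
    rw [← hdet']; ring
  have hPS : P = sg F m S * S := by
    apply mul_left_cancel₀ hS0
    rw [← hASP, hAS]; ring
  obtain ⟨j, hj⟩ := sg_surj F m S
  have hj0 : j ≠ 0 := by
    rintro rfl
    rw [map_zero] at hj
    exact hS0 hj.symm
  have hsj0 : sg F m j ≠ 0 := by rwa [hj]
  have hsS : sg F m S = j ^ 2 := by rw [← hj, sg_sg]
  have hd4 : (d * (sg F m j * j)) ^ 4 = 1 := by
    rw [← hdet', ha', hp', hs', hPS, hAS, hsS, hj]
    ring
  have hd1 : d * (sg F m j * j) = 1 := by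
    have h3 : ((d * (sg F m j * j)) ^ 2 - 1) ^ 2 = 0 := by
      have h5 := two0 ((d * (sg F m j * j)) ^ 2)
      have h6 := two0 (1 : F)
      linear_combination hd4 - h5 + h6
    have h4 : (d * (sg F m j * j)) ^ 2 - 1 = 0 := pow_eq_zero_iff (two_ne_zero) |>.1 h3
    have h5 : (d * (sg F m j * j) - 1) ^ 2 = 0 := by
      have h5 := two0 ((d * (sg F m j * j)))
      have h6 := two0 (1 : F)
      linear_combination h4 - h5 + h6
    exact sub_eq_zero.1 (pow_eq_zero_iff (two_ne_zero) |>.1 h5)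
  have hd' : d = (sg F m j * j)⁻¹ := eq_inv_of_mul_eq_one_left hd1
  refine ⟨Units.mk0 j hj0, ?_⟩
  apply Subtype.ext
  ext u v
  fin_cases u <;> fin_cases v <;>
    simp [H, Matrix.diagonal, c01, c02, c03, c10, c20, c30, c13, c23, c31, c32, ← ha, ← hp, ← hq,
      ← hr, ← hs, ← hd, hR', hQ']
  · rw [ha', hAS, hsS, ← hj, hd']; field_simp
  · rw [hp', hPS, hsS, ← hj, hd']; field_simp
  · rw [hs', ← hj, hd']; field_simp
  · rw [hd']; field_simp

end CfsgL.Sz
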