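import Cfsg.Agent.L.Sz.Odd

/-! Abstract counting for subgroups of even order. -/

set_option autoImplicit false

namespace CfsgL.Odd

open Subgroup CfsgL.Sz

/-- the local data -/
structure Lay {M : Type*} [Group M] (Q B : Subgroup M) (q h D : ℕ) : Prop where
  oc : OddCent M
  cardM : Nat.card M = q * h * D
  ccQ : (cc Q).ncard = D * (q - 1)
  cov : ∀ g : M, g ≠ 1 → g ∈ cc Q ∨ Odd (orderOf g)
  dis : ∀ g ∈ cc Q, ¬ Odd (orderOf g)
  two : 2 ≤ q
  pow : ∃ e, q = 2 ^ e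
  oD : Odd D
  oh : Odd h
  gtD : 1 < D

variable {M : Type*} [Group M] [Finite M] {Q B : Subgroup M} {q h D : ℕ}

theorem Lay.od_card (L : Lay Q B q h D) :
    {g : M | g ≠ 1 ∧ Odd (orderOf g)}.ncard + 1 + D * (q - 1) = q * h * D := by
  rw [← L.ccQ, ← L.cardM, ← Set.ncard_univ]
  have h1 : ({g : M | g ≠ 1 ∧ Odd (orderOf g)} ∪ {1}).ncard = {g : M | g ≠ 1 ∧ Odd (orderOf g)}.ncard + 1 := by
    rw [Set.ncard_union_eq, Set.ncard_singleton]
    rw [Set.disjoint_singleton_right]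
    intro h; exact h.1 rfl
  rw [← h1, ← Set.ncard_union_eq]
  · congr 1
    ext g
    simp only [Set.mem_union, Set.mem_setOf_eq, Set.mem_singleton_iff, Set.mem_univ, iff_true]
    by_cases hg : g = 1
    · exact Or.inl (Or.inr hg)
    · rcases L.cov g hg with h | h
      · exact Or.inr h
      · exact Or.inl (Or.inl ⟨hg, h⟩)
  · rw [Set.disjoint_left]
    rintro g (⟨h1, h2⟩ | h1) h3
    · exact L.dis g h3 h2
    · exact h3.1 h1

theorem Cm.cc_sub {C : Subgroup M} (hM : OddCent M) (hC : Cm C) {g : M} (hg : g ∈ CfsgL.Sz.cc C) : g ≠ 1 ∧ Odd (orderOf g) := by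
  obtain ⟨h1, x, hx⟩ := hg
  refine ⟨h1, ?_⟩
  rw [← orderOf_conj' x g]
  exact (hC.odd hM).of_dvd_nat (Subgroup.orderOf_dvd_natCard _ hx)

theorem Cm.cop_of_not {C : Subgroup M} (hM : OddCent M) (hC : Cm C) {g : M} (hg : g ≠ 1) (hgo : Odd (orderOf g))
    (h : g ∉ CfsgL.Sz.cc C) : Nat.Coprime (Nat.card C) (Nat.card (centralizer {g})) := by
  rw [Nat.coprime_iff_gcd_eq_one]
  by_contra h1
  obtain ⟨r, hr, hrd⟩ := Nat.exists_prime_and_dvd h1
  obtain ⟨x, hx⟩ := hC.conj_eq hM (C₂ := centralizer {g}) ⟨g, hg, hgo, rfl⟩ hr (hrd.trans (Nat.gcd_dvd_left _ _))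
    (hrd.trans (Nat.gcd_dvd_right _ _))
  exact h ⟨hg, x, (hx g).1 (mem_centralizer_singleton_iff.2 rfl)⟩

theorem Cm.mem_cc_of_dvd {C : Subgroup M} (hM : OddCent M) (hC : Cm C) {r : ℕ} (hr : r.Prime) {t : M} (ht : orderOf t = r)
    (h : t ∈ CfsgL.Sz.cc C) : r ∣ Nat.card C := by
  obtain ⟨h1, x, hx⟩ := h
  rw [← ht, ← orderOf_conj' x t]
  exact Subgroup.orderOf_dvd_natCard _ hx

theorem numA {q D i n c : ℕ} (h1 : i * (n * c) = q * D) (h2 : i * (c - 1) + 1 ≤ D) (hn : n = 1 ∨ n = 2 ∨ n = 4)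
    (hc : 5 ≤ c) (hq : 2 ≤ q) (hq2 : ∃ e, q = 2 ^ e) (hD : Odd D) : q = n ∧ D = i * c := by
  obtain ⟨d, rfl⟩ : ∃ d, c = d + 5 := ⟨c - 5, by omega⟩
  have e1 : d + 5 - 1 = d + 4 := by omega
  rw [e1] at h2
  have hDpos : 0 < D := by omega
  have h3 : 4 * (i * (d + 5)) < 5 * D := by nlinarith
  have h4 : 4 * q * D < 5 * n * D := by
    have h5 : i * (n * (d + 5)) = n * (i * (d + 5)) := by ring
    rw [h5] at h1
    rcases hn with rfl | rfl | rfl <;> nlinarith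
  have h5 : 4 * q < 5 * n := Nat.lt_of_mul_lt_mul_right h4
  have h6 : q = n := by
    rcases hn with rfl | rfl | rfl
    · omega
    · omega
    · have h7 : q = 2 ∨ q = 3 ∨ q = 4 := by omega
      rcases h7 with rfl | rfl | rfl
      · exfalso
        obtain ⟨k, hk⟩ := hD
        have : D = 2 * (i * (d + 5)) := by nlinarith
        omega
      · exfalso
        obtain ⟨e, he⟩ := hq2
        rcases e with _ | e
        · simp at he
        · rw [pow_succ] at he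
          omega
      · rfl
  refine ⟨h6, ?_⟩
  subst h6
  have : q * D = q * (i * (d + 5)) := by rw [← h1]; ring
  exact Nat.eq_of_mul_eq_mul_left (by omega) this

/-- `h = 1`: a normal component -/
theorem Lay.normal (L : Lay Q B q h D) (hh : h = 1) : ∃ C : Subgroup M, Cm C ∧ normalizer (C : Set M) = ⊤ := by
  subst hh
  have hM := L.oc
  have hq := L.two
  obtain ⟨p, hp, hpD⟩ := Nat.exists_prime_and_dvd (n := D) (by have := L.gtD; omega)
  have hp2 : p ≠ 2 := by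
    rintro rfl
    exact absurd (L.oD.of_dvd_nat hpD) (by decide)
  obtain ⟨C, hC, hpC⟩ := exists_cm hM hp hp2 (by rw [L.cardM]; exact hpD.mul_left _)
  have hod := L.od_card
  have hod' : {g : M | g ≠ 1 ∧ Odd (orderOf g)}.ncard + 1 = D := by
    obtain ⟨r, rfl⟩ : ∃ r, q = r + 1 := ⟨q - 1, by omega⟩
    rw [Nat.add_sub_cancel] at hod
    nlinarith
  have key : ∀ {C : Subgroup M}, Cm C → ∃ i : ℕ, D = i * Nat.card C ∧ (cc C).ncard = i * (Nat.card C - 1) ∧
      Nat.card (normalizer (C : Set M)) = q * Nat.card C := by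
    intro C hC
    obtain ⟨i, n, hn, h1, h2, h3⟩ := hC.cc hM
    have h4 : (cc C).ncard ≤ {g : M | g ≠ 1 ∧ Odd (orderOf g)}.ncard :=
      Set.ncard_le_ncard (fun g hg => hC.cc_sub hM hg)
    rw [L.cardM, mul_one] at h1
    obtain ⟨h5, h6⟩ := numA h1 (by rw [← h2]; omega) hn (hC.five_le hM) hq L.pow L.oD
    exact ⟨i, h6, h2, by rw [h3, h5]⟩
  obtain ⟨i, h1, h2, h3⟩ := key hC
  have hall : ∀ g : M, g ≠ 1 → Odd (orderOf g) → g ∈ cc C := by
    intro g hg hgo
    by_contra hgc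
    have hC' : Cm (centralizer {g}) := ⟨g, hg, hgo, rfl⟩
    obtain ⟨i', h1', h2', h3'⟩ := key hC'
    have hd := disj_of_cop hM (hC.cop_of_not hM hg hgo hgc)
    have h4 : (cc C ∪ cc (centralizer {g})).ncard ≤ {g : M | g ≠ 1 ∧ Odd (orderOf g)}.ncard :=
      Set.ncard_le_ncard (fun g hg => hg.elim (hC.cc_sub hM) (hC'.cc_sub hM))
    rw [Set.ncard_union_eq hd, h2, h2'] at h4
    have h5 := hC.five_le hM
    have h5' := hC'.five_le hM
    obtain ⟨c, hc⟩ : ∃ c, Nat.card C = c + 5 := ⟨Nat.card C - 5, by omega⟩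
    obtain ⟨c', hc'⟩ : ∃ c, Nat.card (centralizer {g} : Subgroup M) = c + 5 := ⟨Nat.card (centralizer {g} : Subgroup M) - 5, by omega⟩
    rw [hc] at h1 h4
    rw [hc'] at h1' h4
    have e1 : c + 5 - 1 = c + 4 := by omega
    have e2 : c' + 5 - 1 = c' + 4 := by omega
    rw [e1, e2] at h4
    nlinarith
  have h4 : {g : M | g ≠ 1 ∧ Odd (orderOf g)}.ncard ≤ (cc C).ncard :=
    Set.ncard_le_ncard (fun g hg => hall g hg.1 hg.2)
  have h5 := hC.five_le hM
  have hi : i = 1 := by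
    obtain ⟨c, hc⟩ : ∃ c, Nat.card C = c + 5 := ⟨Nat.card C - 5, by omega⟩
    rw [h2, hc] at h4
    rw [hc] at h1
    have e1 : c + 5 - 1 = c + 4 := by omega
    rw [e1] at h4
    have h6 : i ≤ 1 := by nlinarith
    have h7 : i ≠ 0 := by
      rintro rfl
      have := L.gtD
      omega
    omega
  refine ⟨C, hC, ?_⟩
  apply eq_top_of_card_eq
  rw [h3, L.cardM, h1, hi, mul_one, one_mul]

end CfsgL.Odd
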