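import Cfsg.Agent.L.Sz.Lay

/-! Abstract counting for subgroups of even order: the case of a nontrivial torus. -/

set_option autoImplicit false
set_option maxHeartbeats 400000

namespace CfsgL.Odd

open Subgroup CfsgL.Sz

variable {M : Type*} [Group M] [Finite M] {Q B : Subgroup M} {q h D : ℕ}

theorem Cm.card_dvd_of_cop {C : Subgroup M} (L : Lay Q B q h D) (hC : Cm C) (hc : Nat.Coprime h (Nat.card C)) :
    Nat.card C ∣ D := by
  have h1 : Nat.card C ∣ q * h * D := by rw [← L.cardM]; exact card_subgroup_dvd_card C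
  apply Nat.Coprime.dvd_of_dvd_mul_left _ h1
  obtain ⟨e, he⟩ := L.pow
  rw [Nat.coprime_mul_iff_right]
  refine ⟨?_, hc.symm⟩
  rw [he]
  exact Nat.Coprime.pow_right _ (Nat.coprime_two_right.2 (hC.odd L.oc))

/-- there is no further prime -/
theorem Lay.no_more (L : Lay Q B q h D) {K C : Subgroup M} (hC : Cm C) (hKc : Nat.card K = h) (hcop : Nat.Coprime h D)
    {d e : ℕ} (hD : D = d * e) (hdc : Nat.card C ∣ d)
    (hall : ∀ r : ℕ, r.Prime → r ∣ e → ¬ r ∣ h → r ≠ 2 → r ∣ Nat.card C) : e = 1 := by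
  by_contra he
  obtain ⟨r, hr, hre⟩ := Nat.exists_prime_and_dvd he
  have hrD : r ∣ D := by rw [hD]; exact hre.mul_left _
  have hr2 : r ≠ 2 := by
    rintro rfl
    exact absurd (L.oD.of_dvd_nat hrD) (by decide)
  have hrh : ¬ r ∣ h := fun h1 => hr.one_lt.ne' (Nat.eq_one_of_dvd_coprimes hcop h1 hrD)
  have hrc := hall r hr hre hrh hr2
  apply hC.coprime L.oc hr hrc
  obtain ⟨d', hd'⟩ := hdc
  have h1 := index_mul_card C
  rw [L.cardM, hD, hd'] at h1
  have h2 : C.index = q * h * (d' * e) := by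
    apply Nat.eq_of_mul_eq_mul_right (Nat.card_pos (α := C))
    rw [h1]; ring
  rw [h2]
  exact (hre.mul_left _).mul_left _

theorem numB1 {q h D n i c R : ℕ} (hq : 2 ≤ q) (h5 : 5 ≤ h) (hc : 5 ≤ c) (hcD : c = D) (hR : 2 * R + q * D + 2 = q * h * D + 2 * D)
    (hRi : R = i * (c - 1)) (hi : i * (n * c) = q * h * D) (hn : n = 1 ∨ n = 2 ∨ n = 4) {t : ℕ} (hDt : D = 1 + q * t)
    (hhq : h ≤ q - 1) : h = q - 1 ∧ D = q + 1 := by
  subst hcD
  obtain ⟨d, rfl⟩ : ∃ d, c = d + 1 := ⟨c - 1, by omega⟩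
  rw [Nat.add_sub_cancel] at hRi
  have h1 : i * n = q * h := by
    apply Nat.eq_of_mul_eq_mul_right (show 0 < d + 1 by omega)
    rw [← hi]; ring
  have h2 : n * R = q * h * d := by rw [hRi, ← h1]; ring
  obtain ⟨q', rfl⟩ : ∃ q', q = q' + 2 := ⟨q - 2, by omega⟩
  obtain ⟨h', rfl⟩ : ∃ h', h = h' + 5 := ⟨h - 5, by omega⟩
  rcases hn with rfl | rfl | rfl
  · exfalso
    rw [one_mul] at h2
    subst h2
    nlinarith [mul_nonneg (Nat.zero_le q') (Nat.zero_le d), mul_nonneg (Nat.zero_le h') (Nat.zero_le d),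
      mul_nonneg (mul_nonneg (Nat.zero_le q') (Nat.zero_le h')) (Nat.zero_le d)]
  · have hd : d = (q' + 2) * t := by omega
    subst hd
    -- 2R = q h d
    have h3 : (q' + 2) * (h' + 5) * ((q' + 2) * t) + (q' + 2) * ((q' + 2) * t + 1) + 2 =
        (q' + 2) * (h' + 5) * ((q' + 2) * t + 1) + 2 * ((q' + 2) * t + 1) := by rw [← h2]; exact hR
    have h4 : (q' + 2) * ((q' + 2) * t + 1) = (q' + 2) * (h' + 5 + 2 * t) := by nlinarith
    have h5 : (q' + 2) * t + 1 = h' + 5 + 2 * t := Nat.eq_of_mul_eq_mul_left (by omega) h4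
    have h6 : q' * t + 1 = h' + 5 := by nlinarith
    have h7 : t = 1 := by
      have h8 : q' * t ≤ q' := by omega
      have h9 : 0 < q' := by
        rcases Nat.eq_zero_or_pos q' with h | h
        · subst h; omega
        · exact h
      have h10 : t ≤ 1 := by
        by_contra hh
        have : q' * 2 ≤ q' * t := Nat.mul_le_mul_left _ (by omega)
        omega
      have h11 : t ≠ 0 := by rintro rfl; omega
      omega
    subst h7
    constructor <;> omega
  · exfalso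
    nlinarith [mul_nonneg (Nat.zero_le q') (Nat.zero_le d), mul_nonneg (Nat.zero_le h') (Nat.zero_le d),
      mul_nonneg (mul_nonneg (Nat.zero_le q') (Nat.zero_le h')) (Nat.zero_le d)]

/-- the classes of components -/
theorem Lay.two_classes (L : Lay Q B q h D) {K : Subgroup M} (hK : Cm K) (hKc : Nat.card K = h) {n0 : ℕ}
    (hn0 : n0 = 1 ∨ n0 = 2) (hKn : Nat.card (normalizer (K : Set M)) = n0 * h) {t : ℕ} (hDt : D = 1 + q * t)
    (hhq : h ∣ q - 1) :
    ∃ (i0 i1 i2 : ℕ) (C₁ C₂ : Subgroup M), n0 = 2 ∧ Cm C₁ ∧ Cm C₂ ∧ D = Nat.card C₁ * Nat.card C₂ ∧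
      2 * i0 = q * D ∧ 4 * i1 = q * h * Nat.card C₂ ∧ 4 * i2 = q * h * Nat.card C₁ ∧
      (cc K).ncard = i0 * (h - 1) ∧ (cc C₁).ncard = i1 * (Nat.card C₁ - 1) ∧ (cc C₂).ncard = i2 * (Nat.card C₂ - 1) ∧
      (∀ g : M, g ≠ 1 → Odd (orderOf g) → g ∈ cc K ∨ g ∈ cc C₁ ∨ g ∈ cc C₂) ∧
      1 + D * (q - 1) + i0 * (h - 1) + i1 * (Nat.card C₁ - 1) + i2 * (Nat.card C₂ - 1) = q * h * D := by
  have hM := L.oc
  have hq := L.two
  have hD1 := L.gtD
  have h5 : 5 ≤ h := by rw [← hKc]; exact hK.five_le hM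
  have hod := L.od_card
  -- data of K
  obtain ⟨i0, n0', hn0', hi0, hccK, hKn'⟩ := hK.cc hM
  have hn00 : n0' = n0 := by
    rw [hKn, hKc] at hKn'
    exact (Nat.eq_of_mul_eq_mul_right (by omega) hKn').symm
  subst hn00
  rw [L.cardM, hKc] at hi0
  rw [hKc] at hccK
  have hi0' : i0 * n0' = q * D := by
    apply Nat.eq_of_mul_eq_mul_right (show 0 < h by omega)
    rw [mul_assoc, hi0]; ring
  have hKidx : K.index = q * D := by
    have h1 := index_mul_card K
    rw [hKc, L.cardM] at h1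
    apply Nat.eq_of_mul_eq_mul_right (show 0 < h by omega)
    rw [h1]; ring
  have hcop : Nat.Coprime h D := by
    rw [Nat.coprime_iff_gcd_eq_one]
    by_contra h1
    obtain ⟨r, hr, hrd⟩ := Nat.exists_prime_and_dvd h1
    apply hK.coprime hM hr (by rw [hKc]; exact hrd.trans (Nat.gcd_dvd_left _ _))
    rw [hKidx]
    exact (hrd.trans (Nat.gcd_dvd_right _ _)).mul_left _
  obtain ⟨R, hR⟩ : ∃ R, {g : M | g ≠ 1 ∧ Odd (orderOf g)}.ncard = (cc K).ncard + R := by
    have : (cc K).ncard ≤ {g : M | g ≠ 1 ∧ Odd (orderOf g)}.ncard :=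
      Set.ncard_le_ncard (fun g hg => hK.cc_sub hM hg)
    exact ⟨_, (Nat.add_sub_cancel' this).symm⟩
  obtain ⟨q', hq'⟩ : ∃ q', q = q' + 2 := ⟨q - 2, by omega⟩
  obtain ⟨h', hh'⟩ : ∃ h', h = h' + 5 := ⟨h - 5, by omega⟩
  -- the first further component
  obtain ⟨p, hp, hpD⟩ := Nat.exists_prime_and_dvd (n := D) (by omega)
  have hp2 : p ≠ 2 := by
    rintro rfl
    exact absurd (L.oD.of_dvd_nat hpD) (by decide)
  have hph : ¬ p ∣ h := fun h1 => hp.one_lt.ne' (Nat.eq_one_of_dvd_coprimes hcop h1 hpD)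
  obtain ⟨C₁, hC₁, hpC₁⟩ := exists_cm hM hp hp2 (by rw [L.cardM]; exact hpD.mul_left _)
  have hcop1 : Nat.Coprime (Nat.card K) (Nat.card C₁) := hK.cop hM hC₁ (by rw [hKc]; exact hph) hpC₁
  have hd1 := disj_of_cop hM hcop1
  have hRle : ∀ {S : Set M}, Disjoint (cc K) S → (∀ g ∈ S, g ≠ 1 ∧ Odd (orderOf g)) → S.ncard ≤ R := by
    intro S hS hS'
    have h1 : (cc K ∪ S).ncard ≤ {g : M | g ≠ 1 ∧ Odd (orderOf g)}.ncard :=
      Set.ncard_le_ncard (fun g hg => hg.elim (hK.cc_sub hM) (hS' g))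
    rw [Set.ncard_union_eq hS, hR] at h1
    omega
  have hC1R := hRle hd1 (fun g hg => hC₁.cc_sub hM hg)
  have hbig1 := hC₁.cc_big hM
  rw [L.cardM] at hbig1
  have hn2 : n0' = 2 := by
    rcases hn0 with rfl | h
    · exfalso
      rw [mul_one] at hi0'
      rw [hR, hccK, hi0', hq', hh'] at hod
      have e1 : h' + 5 - 1 = h' + 4 := by omega
      have e2 : q' + 2 - 1 = q' + 1 := by omega
      rw [e1, e2] at hod
      have h3 : R + 1 = D := by nlinarith
      have h4 : q * h * D ≤ 5 * R := hbig1.trans (Nat.mul_le_mul_left _ hC1R)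
      have h6 : 10 ≤ q * h := by
        calc 10 = 2 * 5 := rfl
          _ ≤ q * h := Nat.mul_le_mul hq h5
      have h7 : 10 * D ≤ q * h * D := Nat.mul_le_mul_right _ h6
      omega
    · exact h
  subst hn2
  have h2R : 2 * R + q * D + 2 = q * h * D + 2 * D := by
    rw [hR, hccK, hq', hh'] at hod
    rw [hq'] at hi0'
    have e1 : h' + 5 - 1 = h' + 4 := by omega
    have e2 : q' + 2 - 1 = q' + 1 := by omega
    rw [e1, e2] at hod
    rw [hq', hh']
    nlinarith
  have hRM : 2 * R < q * h * D := by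
    rw [hq'] at h2R ⊢
    nlinarith
  have hc1D : Nat.card C₁ ∣ D := hC₁.card_dvd_of_cop L (by rw [← hKc]; exact hcop1)
  by_cases hall : ∀ g : M, g ≠ 1 → Odd (orderOf g) → g ∈ cc K ∨ g ∈ cc C₁
  · -- a single class: contradiction
    exfalso
    obtain ⟨e, he⟩ := hc1D
    have he1 : e = 1 := by
      apply L.no_more hC₁ hKc hcop he dvd_rfl
      intro r hr hre hrh hr2
      obtain ⟨C', hC', hrC'⟩ := exists_cm hM hr hr2 (by rw [L.cardM, he]; exact (hre.mul_left _).mul_left _)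
      obtain ⟨s, hs, hso⟩ := Cm.exists_order hM (C := C') hr hrC'
      rcases hall s (ne_one_of_order hr hso) (by rw [hso]; exact hr.odd_of_ne_two hr2) with h1 | h1
      · exact absurd (hKc ▸ hK.mem_cc_of_dvd hM hr hso h1) hrh
      · exact hC₁.mem_cc_of_dvd hM hr hso h1
    rw [he1, mul_one] at he
    obtain ⟨i1, n1, hn1, hi1, hcc1, -⟩ := hC₁.cc hM
    have hRe : R = i1 * (Nat.card C₁ - 1) := by
      rw [← hcc1]
      apply le_antisymm _ hC1R
      have h1 : {g : M | g ≠ 1 ∧ Odd (orderOf g)}.ncard ≤ (cc K ∪ cc C₁).ncard :=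
        Set.ncard_le_ncard (fun g hg => hall g hg.1 hg.2)
      rw [Set.ncard_union_eq hd1, hR] at h1
      omega
    rw [L.cardM] at hi1
    have hhq' : h ≤ q - 1 := Nat.le_of_dvd (by omega) hhq
    obtain ⟨e1, e2⟩ := numB1 hq h5 (hC₁.five_le hM) he.symm h2R hRe hi1 hn1 hDt hhq'
    apply hM.three
    rw [L.cardM, e1, e2]
    obtain ⟨r, hr⟩ : ∃ r, q = r + 1 := ⟨q - 1, by omega⟩
    rw [hr, Nat.add_sub_cancel]
    have h3 : r % 3 = 0 ∨ r % 3 = 1 ∨ r % 3 = 2 := by omega
    rcases h3 with h3 | h3 | h3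
    · exact (Dvd.dvd.mul_left (Nat.dvd_of_mod_eq_zero h3) _).mul_right _
    · exact Dvd.dvd.mul_left (by omega) _
    · exact Dvd.dvd.mul_right (Dvd.dvd.mul_right (by omega) _) _
  · push Not at hall
    obtain ⟨g, hg, hgo, hgK, hgC⟩ := hall
    have hC₂ : Cm (centralizer {g}) := ⟨g, hg, hgo, rfl⟩
    have hcopK2 := hK.cop_of_not hM hg hgo hgK
    have hcop12 := hC₁.cop_of_not hM hg hgo hgC
    have hgC2 : g ∈ cc (centralizer {g}) := ⟨hg, 1, by
      rw [one_mul, inv_one, mul_one]; exact mem_centralizer_singleton_iff.2 rfl⟩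
    obtain ⟨C₂, hC₂e⟩ : ∃ C₂ : Subgroup M, C₂ = centralizer {g} := ⟨_, rfl⟩
    rw [← hC₂e] at hC₂ hcopK2 hcop12 hgC2
    have hdK2 := disj_of_cop hM hcopK2
    have hd12 := disj_of_cop hM hcop12
    have hbig2 := hC₂.cc_big hM
    rw [L.cardM] at hbig2
    have hall : ∀ g : M, g ≠ 1 → Odd (orderOf g) → g ∈ cc K ∨ g ∈ cc C₁ ∨ g ∈ cc C₂ := by
      intro k hk hko
      by_contra hcon
      push Not at hcon
      obtain ⟨hkK, hk1, hk2⟩ := hcon
      have hC₃ : Cm (centralizer {k}) := ⟨k, hk, hko, rfl⟩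
      have hdK3 := disj_of_cop hM (hK.cop_of_not hM hk hko hkK)
      have hd13 := disj_of_cop hM (hC₁.cop_of_not hM hk hko hk1)
      have hd23 := disj_of_cop hM (hC₂.cop_of_not hM hk hko hk2)
      have hbig3 := hC₃.cc_big hM
      rw [L.cardM] at hbig3
      have h3 := hRle (S := cc C₁ ∪ cc C₂ ∪ cc (centralizer {k}))
        (by rw [Set.disjoint_union_right, Set.disjoint_union_right]; exact ⟨⟨hd1, hdK2⟩, hdK3⟩)
        (by
          rintro x ((hx | hx) | hx)
          · exact hC₁.cc_sub hM hx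
          · exact hC₂.cc_sub hM hx
          · exact hC₃.cc_sub hM hx)
      rw [Set.ncard_union_eq (by rw [Set.disjoint_union_left]; exact ⟨hd13, hd23⟩), Set.ncard_union_eq hd12] at h3
      omega
    have hRe : R = (cc C₁).ncard + (cc C₂).ncard := by
      rw [← Set.ncard_union_eq hd12]
      apply le_antisymm
      · have h1 : {g : M | g ≠ 1 ∧ Odd (orderOf g)}.ncard ≤ (cc K ∪ (cc C₁ ∪ cc C₂)).ncard :=
          Set.ncard_le_ncard (fun g hg => hall g hg.1 hg.2)
        rw [Set.ncard_union_eq (by rw [Set.disjoint_union_right]; exact ⟨hd1, hdK2⟩), hR] at h1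
        omega
      · apply hRle (by rw [Set.disjoint_union_right]; exact ⟨hd1, hdK2⟩)
        rintro x (hx | hx)
        · exact hC₁.cc_sub hM hx
        · exact hC₂.cc_sub hM hx
    -- n = 4
    have hn4 : ∀ {C C' : Subgroup M}, Cm C → q * h * D ≤ 5 * (cc C').ncard → R = (cc C).ncard + (cc C').ncard →
        ∃ i, i * (4 * Nat.card C) = q * h * D ∧ (cc C).ncard = i * (Nat.card C - 1) := by
      intro C C' hC hb hRC
      obtain ⟨i, n, hn, h1, h2, -⟩ := hC.cc hM
      rw [L.cardM] at h1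
      have h3 := hC.five_le hM
      obtain ⟨c, hc⟩ : ∃ c, Nat.card C = c + 5 := ⟨Nat.card C - 5, by omega⟩
      have e1 : c + 5 - 1 = c + 4 := by omega
      rcases hn with rfl | rfl | rfl
      · exfalso
        rw [hc] at h1 h2
        rw [e1] at h2
        rw [h2] at hRC
        have e3 : i * (1 * (c + 5)) = i * c + 5 * i := by ring
        have e4 : i * (c + 4) = i * c + 4 * i := by ring
        rw [e3] at h1
        rw [e4] at hRC
        generalize i * c = x at h1 hRC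
        generalize q * h * D = y at h1 hRM hb
        omega
      · exfalso
        rw [hc] at h1 h2
        rw [e1] at h2
        rw [h2] at hRC
        have e3 : i * (2 * (c + 5)) = 2 * (i * c) + 10 * i := by ring
        have e4 : i * (c + 4) = i * c + 4 * i := by ring
        rw [e3] at h1
        rw [e4] at hRC
        generalize i * c = x at h1 hRC
        generalize q * h * D = y at h1 hRM hb
        omega
      · exact ⟨i, h1, h2⟩
    obtain ⟨i1, hi1, hcc1⟩ := hn4 hC₁ hbig2 hRe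
    obtain ⟨i2, hi2, hcc2⟩ := hn4 hC₂ hbig1 (by rw [hRe, add_comm])
    have hc2D : Nat.card C₂ ∣ D := hC₂.card_dvd_of_cop L (by rw [← hKc]; exact hcopK2)
    obtain ⟨e, he⟩ := hcop12.mul_dvd_of_dvd_of_dvd hc1D hc2D
    have he1 : e = 1 := by
      by_contra hne
      obtain ⟨r, hr, hre⟩ := Nat.exists_prime_and_dvd hne
      have hrD : r ∣ D := by rw [he]; exact hre.mul_left _
      have hr2 : r ≠ 2 := by
        rintro rfl
        exact absurd (L.oD.of_dvd_nat hrD) (by decide)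
      have hrh : ¬ r ∣ h := fun h1 => hr.one_lt.ne' (Nat.eq_one_of_dvd_coprimes hcop h1 hrD)
      obtain ⟨C', hC', hrC'⟩ := exists_cm hM hr hr2 (by rw [L.cardM]; exact hrD.mul_left _)
      obtain ⟨s, hs, hso⟩ := Cm.exists_order hM (C := C') hr hrC'
      have hfin : ∀ {C : Subgroup M}, Cm C → (∃ d', D = Nat.card C * (d' * e)) → s ∉ cc C := by
        rintro C hC ⟨d', hd'⟩ hsC
        apply hC.coprime hM hr (hC.mem_cc_of_dvd hM hr hso hsC)
        have h1 := index_mul_card C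
        rw [L.cardM] at h1
        have h2 : C.index = q * h * (d' * e) := by
          apply Nat.eq_of_mul_eq_mul_right (Nat.card_pos (α := C))
          rw [h1, hd']; ring
        rw [h2]
        exact (hre.mul_left _).mul_left _
      rcases hall s (ne_one_of_order hr hso) (by rw [hso]; exact hr.odd_of_ne_two hr2) with h1 | h1 | h1
      · exact absurd (hKc ▸ hK.mem_cc_of_dvd hM hr hso h1) hrh
      · exact hfin hC₁ ⟨Nat.card C₂, by rw [he]; ring⟩ h1
      · exact hfin hC₂ ⟨Nat.card C₁, by rw [he]; ring⟩ h1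
    rw [he1, mul_one] at he
    refine ⟨i0, i1, i2, C₁, C₂, rfl, hC₁, hC₂, he, by rw [← hi0', mul_comm], ?_, ?_, hccK, hcc1, hcc2, hall, ?_⟩
    · apply Nat.eq_of_mul_eq_mul_right (Nat.card_pos (α := C₁))
      calc 4 * i1 * Nat.card C₁ = i1 * (4 * Nat.card C₁) := by ring
        _ = q * h * (Nat.card C₁ * Nat.card C₂) := by rw [hi1, ← he]
        _ = q * h * Nat.card C₂ * Nat.card C₁ := by ring
    · apply Nat.eq_of_mul_eq_mul_right (Nat.card_pos (α := C₂))
      calc 4 * i2 * Nat.card C₂ = i2 * (4 * Nat.card C₂) := by ring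
        _ = q * h * (Nat.card C₁ * Nat.card C₂) := by rw [hi2, ← he]
        _ = q * h * Nat.card C₁ * Nat.card C₂ := by ring
    · rw [← hod, hR, hRe, hccK, hcc1, hcc2]
      ring

end CfsgL.Odd
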