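import Cfsg.Agent.L.Sz.Tori2

/-! The Suzuki groups: Sylow 2-subgroups. -/

set_option autoImplicit false

namespace CfsgL.Sz

open Subgroup
open scoped commutatorElement

variable {F : Type*} [Field F] [Fintype F] {m : ℕ} [CharP F 2] [hF : Fact (Fintype.card F = 2 ^ (2 * m + 1))]

theorem isPGroup_QQ : IsPGroup 2 (QQ F m) := by
  apply IsPGroup.of_card (n := 2 * (2 * m + 1))
  rw [card_QQ, card_F (F := F) (m := m), ← pow_mul, mul_comm]

section
variable [hm : Fact (1 ≤ m)]

theorem index_QQ : (QQ F m).index = (Nat.card F ^ 2 + 1) * (Nat.card F - 1) := by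
  have h1 := index_mul_card (QQ F m)
  rw [card_QQ, card_Gz] at h1
  have h2 : 0 < Nat.card F ^ 2 := pow_pos Nat.card_pos 2
  apply Nat.eq_of_mul_eq_mul_right h2
  rw [h1]; ring

theorem not_two_dvd_index : ¬ 2 ∣ (QQ F m).index := by
  rw [index_QQ, Nat.prime_two.dvd_mul]
  obtain ⟨k, hk⟩ := card_F_even (F := F) (m := m)
  have h8 := card_F_ge (F := F) (m := m)
  rintro (h | h)
  · have := odd_of_dvd (card_F_even (F := F) (m := m)) h
    exact absurd this (by decide)
  · omega

variable (F m) in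
/-- the standard Sylow 2-subgroup -/
noncomputable def QSyl : Sylow 2 (Gz F m) := isPGroup_QQ.toSylow not_two_dvd_index

theorem coe_QSyl : (QSyl F m : Subgroup (Gz F m)) = QQ F m := rfl

theorem sylow_conj (P : Sylow 2 (Gz F m)) : ∃ x : Gz F m, ∀ g, g ∈ P ↔ x * g * x⁻¹ ∈ QQ F m := by
  obtain ⟨x, hx⟩ := MulAction.exists_smul_eq (Gz F m) (QSyl F m) P
  refine ⟨x⁻¹, fun g => ?_⟩
  rw [← hx]
  change g ∈ ((x • QSyl F m : Sylow 2 (Gz F m)) : Subgroup (Gz F m)) ↔ _
  rw [Sylow.coe_subgroup_smul, Subgroup.mem_pointwise_smul_iff_inv_smul_mem, ← map_inv]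
  exact Iff.rfl

/-- the Sylow subgroup attached to a point -/
theorem conj_sylow (x : Gz F m) : ∃ P : Sylow 2 (Gz F m), ∀ g, g ∈ P ↔ x * g * x⁻¹ ∈ QQ F m := by
  refine ⟨x⁻¹ • QSyl F m, fun g => ?_⟩
  change g ∈ ((x⁻¹ • QSyl F m : Sylow 2 (Gz F m)) : Subgroup (Gz F m)) ↔ _
  rw [Sylow.coe_subgroup_smul, Subgroup.mem_pointwise_smul_iff_inv_smul_mem, map_inv, inv_inv]
  exact Iff.rfl

theorem sylow_norm {P : Sylow 2 (Gz F m)} {x : Gz F m} (hx : ∀ g, g ∈ P ↔ x * g * x⁻¹ ∈ QQ F m) (g : Gz F m) :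
    g ∈ normalizer ((P : Subgroup (Gz F m)) : Set (Gz F m)) ↔ x * g * x⁻¹ ∈ BB F m := by
  rw [← norm_QQ, mem_nrm, mem_nrm]
  constructor
  · intro h t
    have h1 := h (x⁻¹ * t * x)
    change x⁻¹ * t * x ∈ P ↔ g * (x⁻¹ * t * x) * g⁻¹ ∈ P at h1
    rw [hx, hx] at h1
    have e1 : x * (x⁻¹ * t * x) * x⁻¹ = t := by group
    have e2 : x * (g * (x⁻¹ * t * x) * g⁻¹) * x⁻¹ = x * g * x⁻¹ * t * (x * g * x⁻¹)⁻¹ := by group
    rwa [e1, e2] at h1
  · intro h t
    have h1 := h (x * t * x⁻¹)
    change t ∈ P ↔ g * t * g⁻¹ ∈ P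
    rw [hx, hx]
    have e2 : x * (g * t * g⁻¹) * x⁻¹ = x * g * x⁻¹ * (x * t * x⁻¹) * (x * g * x⁻¹)⁻¹ := by group
    rwa [e2]

theorem center_QQ (g : QQ F m) : g ∈ center (QQ F m) ↔ (g : Gz F m) ∈ ZQ F m := by
  rw [mem_center_iff]
  constructor
  · intro h
    obtain ⟨a, b, hab⟩ := g.2
    have key : ∀ c, sg F m a * c = sg F m c * a := by
      intro c
      have h1 := congrArg Subtype.val (h ⟨u m c 0, u_mem_QQ c 0⟩)
      change u m c 0 * (g : Gz F m) = g * u m c 0 at h1
      rw [hab, u_mul, u_mul] at h1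
      have h2 := (u_inj h1).2
      linear_combination -h2
    have ha : a = 0 := by
      by_contra ha
      have h1 := key 1
      rw [map_one, mul_one, one_mul] at h1
      have h2 : ∀ c, sg F m c = c := by
        intro c
        have := key c
        rw [h1, mul_comm] at this
        exact (mul_right_cancel₀ ha this).symm
      obtain ⟨j, hj⟩ := exists_j (F := F) (m := m)
      have h3 := sg_sg (m := m) (j : F)
      rw [h2, h2] at h3
      apply hj
      apply Units.ext
      have h4 : (j : F) * ((j : F) - 1) = 0 := by linear_combination -h3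
      rcases mul_eq_zero.1 h4 with h5 | h5
      · exact absurd h5 j.ne_zero
      · exact sub_eq_zero.1 h5
    exact ⟨b, by rw [hab, ha]⟩
  · rintro ⟨b, hb⟩ k
    obtain ⟨c, d, hk⟩ := k.2
    apply Subtype.ext
    change (k : Gz F m) * g = g * k
    rw [hb, hk, u_mul, u_mul, map_zero, mul_zero, zero_mul, add_comm c 0, add_comm d b]

theorem orbit_Z {b c : F} (hb : b ≠ 0) (hc : c ≠ 0) : ∃ j : Fˣ, sg F m (j : F) * (j : F) ^ 2 * b = c := by
  have hinj : Function.Injective (fun j : Fˣ => (Units.mk0 (sg F m (j : F) * (j : F) ^ 2)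
      (mul_ne_zero (sg_j_ne j) (pow_ne_zero _ j.ne_zero)) : Fˣ)) := by
    intro i j h
    have h1 : sg F m (i : F) * (i : F) ^ 2 = sg F m (j : F) * (j : F) ^ 2 := congrArg Units.val h
    have h2 : i * j⁻¹ = 1 := by
      apply j_eq_one_of_sg2 (m := m)
      rw [Units.val_mul, map_mul, mul_pow]
      have h3 : sg F m (j : F) ≠ 0 := sg_j_ne j
      have h4 : (j : F) ≠ 0 := j.ne_zero
      rw [Units.val_inv_eq_inv_val, map_inv₀]
      field_simp
      linear_combination h1
    exact mul_inv_eq_one.1 h2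
  obtain ⟨j, hj⟩ := (Finite.surjective_of_injective hinj) (Units.mk0 (c / b) (div_ne_zero hc hb))
  refine ⟨j, ?_⟩
  have := congrArg Units.val hj
  change sg F m (j : F) * (j : F) ^ 2 = c / b at this
  rw [this]; field_simp

theorem commutator_QQ (g : QQ F m) : g ∈ commutator (QQ F m) ↔ (g : Gz F m) ∈ ZQ F m := by
  constructor
  · intro h
    have hle : commutator (QQ F m) ≤ center (QQ F m) := by
      rw [_root_.commutator_def, commutator_le]
      intro x _ y _
      rw [center_QQ]
      obtain ⟨a, b, hx⟩ := x.2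
      obtain ⟨c, d, hy⟩ := y.2
      refine ⟨?_, ?_⟩
      · exact (b + d + sg F m a * c) + (b + sg F m a * a + (d + sg F m c * c) + sg F m a * c) +
          sg F m (a + c) * (a + c)
      · change (x : Gz F m) * y * (x : Gz F m)⁻¹ * (y : Gz F m)⁻¹ = _
        rw [hx, hy, u_inv, u_inv, u_mul, mul_assoc, u_mul, u_mul, two0]
    exact (center_QQ g).1 (hle h)
  · rintro ⟨b, hb⟩
    -- a nontrivial commutator
    obtain ⟨c₀, hc₀⟩ : ∃ c : F, sg F m 1 * c + sg F m c * 1 ≠ 0 := by
      by_contra h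
      push Not at h
      obtain ⟨j, hj⟩ := exists_j (F := F) (m := m)
      have h2 : ∀ c, sg F m c = c := by
        intro c
        have := h c
        rw [map_one] at this
        have h3 := two0 c
        linear_combination this - h3
      have h3 := sg_sg (m := m) (j : F)
      rw [h2, h2] at h3
      apply hj
      apply Units.ext
      have h4 : (j : F) * ((j : F) - 1) = 0 := by linear_combination -h3
      rcases mul_eq_zero.1 h4 with h5 | h5
      · exact absurd h5 j.ne_zero
      · exact sub_eq_zero.1 h5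
    by_cases hb0 : b = 0
    · have : g = 1 := Subtype.ext (by rw [hb, hb0, u_zero]; rfl)
      rw [this]; exact one_mem _
    obtain ⟨j, hj⟩ := orbit_Z (m := m) hc₀ hb0
    have h1 : g = ⁅(⟨u m (sg F m j * 1) (sg F m j * j ^ 2 * 0), u_mem_QQ _ _⟩ : QQ F m),
        ⟨u m (sg F m j * c₀) (sg F m j * j ^ 2 * 0), u_mem_QQ _ _⟩⁆ := by
      apply Subtype.ext
      change (g : Gz F m) = u m (sg F m j * 1) (sg F m j * j ^ 2 * 0) *
        u m (sg F m j * c₀) (sg F m j * j ^ 2 * 0) * (u m (sg F m j * 1) (sg F m j * j ^ 2 * 0))⁻¹ *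
          (u m (sg F m j * c₀) (sg F m j * j ^ 2 * 0))⁻¹
      rw [hb, u_inv, u_inv, u_mul, mul_assoc, u_mul, u_mul]
      congr 1
      · rw [mul_one]
        have := two0 (sg F m (j : F) + sg F m j * c₀)
        linear_combination -this
      · rw [← hj]
        simp only [map_mul, map_add, map_one, sg_sg, mul_one, mul_zero, zero_add]
        have h1 := two0 ((j : F) ^ 2 * sg F m j)
        have h2 := two0 ((j : F) ^ 2 * sg F m j * c₀)
        have h3 := two0 ((j : F) ^ 2 * sg F m c₀ * (sg F m j * c₀))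
        linear_combination -h1 - h2 - h3
    rw [h1, _root_.commutator_def]
    exact commutator_mem_commutator (mem_top _) (mem_top _)

omit hm in
theorem u_sq (a b : F) : u m a b * u m a b = u m 0 (sg F m a * a) := by
  rw [u_mul, two0, two0, zero_add]

theorem exponent_QQ : Monoid.exponent (QQ F m) = 4 := by
  have h1 : Monoid.exponent (QQ F m) ∣ 4 := by
    apply Monoid.exponent_dvd_of_forall_pow_eq_one
    intro g
    obtain ⟨a, b, hg⟩ := g.2
    apply Subtype.ext
    change (g : Gz F m) ^ 4 = 1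
    rw [hg, u_pow_four]
  have h2 : ¬ Monoid.exponent (QQ F m) ∣ 2 := by
    intro h
    have h3 := Monoid.exponent_dvd_iff_forall_pow_eq_one.1 h ⟨u m 1 0, u_mem_QQ 1 0⟩
    have h4 : u m (1 : F) 0 ^ 2 = 1 := congrArg Subtype.val h3
    rw [pow_two, u_sq, map_one, mul_one] at h4
    exact one_ne_zero (u_ne_one h4).2
  have h3 : Monoid.exponent (QQ F m) ≤ 4 := Nat.le_of_dvd (by norm_num) h1
  interval_cases h : Monoid.exponent (QQ F m)
  · exact absurd h1 (by decide)
  · exact absurd (one_dvd 2) h2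
  · exact absurd (dvd_refl 2) h2
  · exact absurd h1 (by decide)
  · rfl

theorem sylow_structure (P : Sylow 2 (Gz F m)) :
    Nat.card P = Nat.card F ^ 2 ∧ Monoid.exponent P = 4 ∧ center P = commutator P ∧
      Nat.card (center P) = Nat.card F := by
  have e : P ≃* QQ F m := Sylow.equiv P (QSyl F m)
  have hc : ∀ x : P, x ∈ center P ↔ e x ∈ center (QQ F m) := by
    intro x
    constructor
    · intro h
      rw [mem_center_iff]
      intro y
      have := congrArg e ((mem_center_iff.1 h) (e.symm y))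
      rwa [map_mul, map_mul, e.apply_symm_apply] at this
    · intro h
      refine mem_center_iff.2 fun y => ?_
      have := (mem_center_iff.1 h) (e y)
      rw [← map_mul, ← map_mul] at this
      exact e.injective this
  have hcm : ∀ x : P, x ∈ commutator P ↔ e x ∈ commutator (QQ F m) := by
    intro x
    have h1 : (commutator P).map e.toMonoidHom = commutator (QQ F m) := by
      rw [_root_.commutator_def, _root_.commutator_def, map_commutator, ← MonoidHom.range_eq_map,
        MonoidHom.range_eq_top.2 e.surjective]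
    rw [← h1]
    constructor
    · intro h; exact ⟨x, h, rfl⟩
    · rintro ⟨y, hy, hyx⟩
      have : y = x := e.injective hyx
      rwa [← this]
  refine ⟨?_, ?_, ?_, ?_⟩
  · rw [Nat.card_congr e.toEquiv, card_QQ]
  · rw [Monoid.exponent_eq_of_mulEquiv e, exponent_QQ]
  · ext x
    rw [hc, hcm, center_QQ, commutator_QQ]
  · rw [← card_ZQ (F := F) (m := m)]
    apply Nat.card_congr
    refine ⟨fun x => ⟨(e x.1 : QQ F m), ?_⟩, fun z => ⟨e.symm ⟨z.1, ZQ_le_QQ z.2⟩, ?_⟩, ?_, ?_⟩
    · exact (center_QQ _).1 ((hc _).1 x.2)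
    · rw [hc, e.apply_symm_apply, center_QQ]
      exact z.2
    · intro x
      apply Subtype.ext
      change e.symm ⟨(e x.1 : Gz F m), _⟩ = x.1
      have : (⟨(e x.1 : Gz F m), ZQ_le_QQ ((center_QQ _).1 ((hc _).1 x.2))⟩ : QQ F m) = e x.1 := rfl
      rw [this, e.symm_apply_apply]
    · intro z
      apply Subtype.ext
      change ((e (e.symm ⟨z.1, ZQ_le_QQ z.2⟩) : QQ F m) : Gz F m) = z.1
      rw [e.apply_symm_apply]

/-! ### centralizers -/

theorem cent_conj_equiv {G : Type*} [Group G] (x g : G) : Nonempty (centralizer {x * g * x⁻¹} ≃* centralizer {g}) := by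
  refine ⟨{ toFun := fun y => ⟨x⁻¹ * y * x, mem_conj_cent.1 y.2⟩
            invFun := fun y => ⟨x * y * x⁻¹, mem_conj_cent.2 (by
              have : x⁻¹ * (x * (y : G) * x⁻¹) * x = y := by group
              rw [this]; exact y.2)⟩
            left_inv := ?_
            right_inv := ?_
            map_mul' := ?_ }⟩
  · intro y
    apply Subtype.ext
    change x * (x⁻¹ * (y : G) * x) * x⁻¹ = y
    group
  · intro y
    apply Subtype.ext
    change x⁻¹ * (x * (y : G) * x⁻¹) * x = y
    group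
  · intro y z
    apply Subtype.ext
    change x⁻¹ * ((y : G) * z) * x = x⁻¹ * (y : G) * x * (x⁻¹ * z * x)
    group

theorem cent_alt {g : Gz F m} (hg : g ≠ 1) :
    IsPGroup 2 (centralizer {g}) ∨ IsCyclic (centralizer {g}) := by
  rcases tri g with ⟨x, a, b, rfl⟩ | ⟨x, j, hj, rfl⟩ | h
  · left
    obtain ⟨e⟩ := cent_conj_equiv x (u m a b)
    have h1 : u m a b ≠ 1 := by
      intro h; apply hg; rw [h]; group
    have h2 : centralizer {u m a b} ≤ QQ F m := fun c hc =>
      cent_QQ (u_mem_QQ a b) h1 (mem_centralizer_singleton_iff.1 hc)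
    have h3 : IsPGroup 2 (centralizer {u m a b}) := isPGroup_QQ.to_le h2
    exact h3.of_equiv e.symm
  · right
    obtain ⟨e⟩ := cent_conj_equiv x (hh m j)
    have h2 : centralizer {hh m j} ≤ KK F m := fun c hc =>
      cent_KK hj (mem_centralizer_singleton_iff.1 hc)
    haveI : IsCyclic (centralizer {hh m j}) :=
      isCyclic_of_injective (inclusion h2) (inclusion_injective h2)
    exact isCyclic_of_injective e.toMonoidHom e.injective
  · right
    exact cent_cyclic h

end

end CfsgL.Sz
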