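import Cfsg.Agent.L.Sz.Lay2
import Cfsg.Agent.L.Sz.Syl

/-! Counting pairs of involutions. -/

set_option autoImplicit false
set_option maxHeartbeats 400000

namespace CfsgL.Odd

open Subgroup CfsgL.Sz

theorem ncard_le_mul {α β : Type*} [Finite α] [Finite β] (s : Set α) (t : Set β) (f : α → β)
    (hf : ∀ a ∈ s, f a ∈ t) (n : ℕ) (hn : ∀ b ∈ t, {a | a ∈ s ∧ f a = b}.ncard ≤ n) :
    s.ncard ≤ n * t.ncard := by
  classical
  haveI := Fintype.ofFinite α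
  haveI := Fintype.ofFinite β
  have := Finset.card_le_mul_card_image_of_maps_to (s := s.toFinset) (t := t.toFinset) (f := f)
    (fun a ha => by simpa using hf a (by simpa using ha)) n (fun b hb => ?_)
  · rwa [← Set.ncard_eq_toFinset_card', ← Set.ncard_eq_toFinset_card'] at this
  · have h := hn b (by simpa using hb)
    rw [Set.ncard_eq_toFinset_card'] at h
    convert h using 2
    ext x
    simp

variable {M : Type*} [Group M] [Finite M]

theorem card_cent_cc (hM : OddCent M) {C : Subgroup M} (hC : Cm C) {b : M} (hb : b ∈ cc C) :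
    Nat.card (centralizer {b} : Subgroup M) = Nat.card C := by
  obtain ⟨hb1, z, hz⟩ := hb
  have h1 : z * b * z⁻¹ ≠ 1 := by
    intro h
    apply hb1
    calc b = z⁻¹ * (z * b * z⁻¹) * z := by group
      _ = 1 := by rw [h]; group
  rw [← hC.cent hM hz h1]
  obtain ⟨e⟩ := cent_conj_equiv z b
  exact (Nat.card_congr e.toEquiv).symm

theorem inv_card_le (b : M) : {x : M | x * b * x⁻¹ = b⁻¹}.ncard ≤ Nat.card (centralizer {b} : Subgroup M) := by
  rcases Set.eq_empty_or_nonempty {x : M | x * b * x⁻¹ = b⁻¹} with h | ⟨x0, hx0⟩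
  · rw [h, Set.ncard_empty]; exact Nat.zero_le _
  · rw [← Nat.card_coe_set_eq]
    apply Nat.card_le_card_of_injective (fun x : {x : M | x * b * x⁻¹ = b⁻¹} =>
      (⟨x0⁻¹ * x.1, ?_⟩ : (centralizer {b} : Subgroup M)))
    · intro x y h
      have h1 : x0⁻¹ * x.1 = x0⁻¹ * y.1 := congrArg Subtype.val h
      exact Subtype.ext (mul_left_cancel h1)
    · rw [mem_centralizer_singleton_iff]
      have h1 : x.1 * b * x.1⁻¹ = x0 * b * x0⁻¹ := x.2.trans hx0.symm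
      calc x0⁻¹ * x.1 * b = x0⁻¹ * (x.1 * b * x.1⁻¹) * x.1 := by group
        _ = b * (x0⁻¹ * x.1) := by rw [h1]; group

theorem pair_fiber (hM : OddCent M) {I : Set M} (hsq : ∀ x ∈ I, x * x = 1) {C : Subgroup M} (hC : Cm C) :
    {p : M × M | p.1 ∈ I ∧ p.2 ∈ I ∧ p.1 * p.2 ∈ cc C}.ncard ≤ Nat.card C * (cc C).ncard := by
  apply ncard_le_mul _ _ (fun p => p.1 * p.2) (fun p hp => hp.2.2)
  intro b hb
  rw [← card_cent_cc hM hC hb]
  refine le_trans ?_ (inv_card_le b)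
  apply Set.ncard_le_ncard_of_injOn (fun p => p.1)
  · rintro ⟨x, y⟩ ⟨⟨hx, hy, -⟩, h⟩
    change x * y = b at h
    change x * b * x⁻¹ = b⁻¹
    have hx' : x⁻¹ = x := by rw [inv_eq_iff_mul_eq_one]; exact hsq x hx
    have hy' : y⁻¹ = y := by rw [inv_eq_iff_mul_eq_one]; exact hsq y hy
    rw [← h, mul_inv_rev, hx', hy', ← mul_assoc, hsq x hx, one_mul]
  · rintro ⟨x, y⟩ ⟨-, h⟩ ⟨x', y'⟩ ⟨-, h'⟩ hxx
    change x = x' at hxx
    subst hxx
    change x * y = b at h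
    change x * y' = b at h'
    rw [← h'] at h
    rw [mul_left_cancel h]

theorem pair_bound (hM : OddCent M) {I : Set M} {a : ℕ} (hcomm : ∀ x ∈ I, {y | y ∈ I ∧ x * y = y * x}.ncard ≤ a)
    (hsq : ∀ x ∈ I, x * x = 1) (hodd : ∀ x ∈ I, ∀ y ∈ I, x * y = y * x ∨ Odd (orderOf (x * y)))
    {K C₁ C₂ : Subgroup M} (hK : Cm K) (h₁ : Cm C₁) (h₂ : Cm C₂)
    (hcov : ∀ g : M, g ≠ 1 → Odd (orderOf g) → g ∈ cc K ∨ g ∈ cc C₁ ∨ g ∈ cc C₂) :
    I.ncard * I.ncard ≤ I.ncard * a + (cc K).ncard * Nat.card K + (cc C₁).ncard * Nat.card C₁ +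
      (cc C₂).ncard * Nat.card C₂ := by
  have hA : {p : M × M | p.1 ∈ I ∧ p.2 ∈ I ∧ p.1 * p.2 = p.2 * p.1}.ncard ≤ a * I.ncard := by
    apply ncard_le_mul _ _ (fun p => p.1) (fun p hp => hp.1)
    intro b hb
    refine le_trans ?_ (hcomm b hb)
    apply Set.ncard_le_ncard_of_injOn (fun p => p.2)
    · rintro ⟨x, y⟩ ⟨⟨hx, hy, hxy⟩, h⟩
      change x = b at h
      subst h
      exact ⟨hy, hxy⟩
    · rintro ⟨x, y⟩ ⟨-, h⟩ ⟨x', y'⟩ ⟨-, h'⟩ hxx
      change x = b at h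
      change x' = b at h'
      change y = y' at hxx
      rw [h, h', hxx]
  have h0 := pair_fiber hM hsq hK
  have h1 := pair_fiber hM hsq h₁
  have h2 := pair_fiber hM hsq h₂
  rw [← Set.ncard_prod]
  have hsub : I ×ˢ I ⊆ {p : M × M | p.1 ∈ I ∧ p.2 ∈ I ∧ p.1 * p.2 = p.2 * p.1} ∪
      {p : M × M | p.1 ∈ I ∧ p.2 ∈ I ∧ p.1 * p.2 ∈ cc K} ∪ {p : M × M | p.1 ∈ I ∧ p.2 ∈ I ∧ p.1 * p.2 ∈ cc C₁} ∪
      {p : M × M | p.1 ∈ I ∧ p.2 ∈ I ∧ p.1 * p.2 ∈ cc C₂} := by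
    rintro ⟨x, y⟩ ⟨hx, hy⟩
    change x ∈ I at hx
    change y ∈ I at hy
    by_cases hxy : x * y = y * x
    · exact Or.inl (Or.inl (Or.inl ⟨hx, hy, hxy⟩))
    · have h3 := (hodd x hx y hy).resolve_left hxy
      have h4 : x * y ≠ 1 := by
        intro h5
        apply hxy
        have hx' : x⁻¹ = x := by rw [inv_eq_iff_mul_eq_one]; exact hsq x hx
        rw [mul_eq_one_iff_inv_eq, hx'] at h5
        rw [h5]
      rcases hcov _ h4 h3 with h5 | h5 | h5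
      · exact Or.inl (Or.inl (Or.inr ⟨hx, hy, h5⟩))
      · exact Or.inl (Or.inr ⟨hx, hy, h5⟩)
      · exact Or.inr ⟨hx, hy, h5⟩
  calc (I ×ˢ I).ncard ≤ _ := Set.ncard_le_ncard hsub
    _ ≤ _ := Set.ncard_union_le _ _
    _ ≤ _ := Nat.add_le_add_right ((Set.ncard_union_le _ _).trans (Nat.add_le_add_right (Set.ncard_union_le _ _) _)) _
    _ ≤ a * I.ncard + Nat.card K * (cc K).ncard + Nat.card C₁ * (cc C₁).ncard + Nat.card C₂ * (cc C₂).ncard := by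
      omega
    _ = _ := by ring

theorem numC {q h D a t c1 c2 i0 i1 i2 : ℕ} (hD : D = 1 + q * t) (ht : t ≠ 0) (hDc : D = c1 * c2)
    (hi0 : 2 * i0 = q * D) (hi1 : 4 * i1 = q * h * c2) (hi2 : 4 * i2 = q * h * c1)
    (hE : 1 + D * (q - 1) + i0 * (h - 1) + i1 * (c1 - 1) + i2 * (c2 - 1) = q * h * D)
    (hP : (D * (a - 1)) * (D * (a - 1)) ≤ D * (a - 1) * (a - 1) + i0 * (h - 1) * h + i1 * (c1 - 1) * c1 +
      i2 * (c2 - 1) * c2) (ha : 2 ≤ a) (hha : h ∣ a - 1) (h5 : 5 ≤ h) (hqa : q ≤ a ^ 2) (hq : 2 ≤ q)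
    (hc1 : 5 ≤ c1) (hc2 : 5 ≤ c2) : t = 1 ∧ h = a - 1 ∧ q = a ^ 2 := by
  have hle : h ≤ a - 1 := Nat.le_of_dvd (by omega) hha
  have hEz : (1 : ℤ) + D * (q - 1) + i0 * (h - 1) + i1 * (c1 - 1) + i2 * (c2 - 1) = q * h * D := by
    have := congrArg (Nat.cast : ℕ → ℤ) hE
    push_cast [Nat.cast_sub (show 1 ≤ q by omega), Nat.cast_sub (show 1 ≤ h by omega),
      Nat.cast_sub (show 1 ≤ c1 by omega), Nat.cast_sub (show 1 ≤ c2 by omega)] at this
    exact this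
  have hPz : ((D : ℤ) * (a - 1)) * (D * (a - 1)) ≤ D * (a - 1) * (a - 1) + i0 * (h - 1) * h + i1 * (c1 - 1) * c1 +
      i2 * (c2 - 1) * c2 := by
    have : (((D * (a - 1)) * (D * (a - 1)) : ℕ) : ℤ) ≤ ((D * (a - 1) * (a - 1) + i0 * (h - 1) * h + i1 * (c1 - 1) * c1 +
      i2 * (c2 - 1) * c2 : ℕ) : ℤ) := Nat.cast_le.2 hP
    push_cast [Nat.cast_sub (show 1 ≤ a by omega), Nat.cast_sub (show 1 ≤ h by omega),
      Nat.cast_sub (show 1 ≤ c1 by omega), Nat.cast_sub (show 1 ≤ c2 by omega)] at this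
    exact this
  have hDz : (D : ℤ) = 1 + q * t := by rw [hD]; push_cast; ring
  have hDcz : (D : ℤ) = c1 * c2 := by rw [hDc]; push_cast; ring
  have hi0z : (2 : ℤ) * i0 = q * D := by exact_mod_cast hi0
  have hi1z : (4 : ℤ) * i1 = q * h * c2 := by exact_mod_cast hi1
  have hi2z : (4 : ℤ) * i2 = q * h * c1 := by exact_mod_cast hi2
  have hE1 : (4 : ℤ) + 2 * D * q - 4 * D = q * h * (c1 + c2) := by
    linear_combination 4 * hEz - 2 * (h - 1) * hi0z - (c1 - 1) * hi1z - (c2 - 1) * hi2z + 2 * q * h * hDcz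
  have hDpos : (0 : ℤ) < D := by
    have : 0 < D := by rw [hD]; omega
    exact_mod_cast this
  have hqpos : (0 : ℤ) < q := by exact_mod_cast (show 0 < q by omega)
  have hP1 : (D : ℤ) * (4 * D * (a - 1) ^ 2) ≤ D * (4 * (a - 1) ^ 2 + 2 * q * h * (h - 1) + q * h * (c1 + c2) - 2 * q * h) := by
    have e1 : (D : ℤ) * (4 * D * (a - 1) ^ 2) = 4 * (((D : ℤ) * (a - 1)) * (D * (a - 1))) := by ring
    have e2 : (D : ℤ) * (4 * (a - 1) ^ 2 + 2 * q * h * (h - 1) + q * h * (c1 + c2) - 2 * q * h) =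
        4 * (D * (a - 1) * (a - 1) + i0 * (h - 1) * h + i1 * (c1 - 1) * c1 + i2 * (c2 - 1) * c2) := by
      linear_combination (-2 * (h - 1) * h) * hi0z + (-(c1 - 1) * c1) * hi1z + (-(c2 - 1) * c2) * hi2z +
        (q * h * (c1 + c2) - 2 * q * h) * hDcz
    rw [e1, e2]
    linarith
  have hP2 := le_of_mul_le_mul_left hP1 hDpos
  rw [← hE1] at hP2
  have hP3 : (2 * q : ℤ) * (2 * t * (a - 1) ^ 2) ≤ (2 * q) * ((h - 1) ^ 2 + (q - 2) * t) := by
    rw [hDz] at hP2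
    nlinarith
  have hP4 := le_of_mul_le_mul_left hP3 (by positivity)
  have hlez : (h : ℤ) ≤ a - 1 := by
    have : h + 1 ≤ a := by omega
    have : ((h + 1 : ℕ) : ℤ) ≤ a := by exact_mod_cast this
    push_cast at this
    linarith
  have h5z : (5 : ℤ) ≤ h := by exact_mod_cast h5
  have hqaz : (q : ℤ) ≤ a ^ 2 := by exact_mod_cast hqa
  have htz : (1 : ℤ) ≤ t := by
    have : 1 ≤ t := by omega
    exact_mod_cast this
  have hsq : ((h : ℤ) - 1) ^ 2 ≤ (a - 2) ^ 2 := by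
    apply pow_le_pow_left₀ <;> linarith
  have hP5 : (t : ℤ) * (a - 2) ^ 2 ≤ (a - 2) ^ 2 := by
    have h6 : (t : ℤ) * (a ^ 2 - q) ≥ 0 := mul_nonneg (by linarith) (by linarith)
    nlinarith
  have hpos : (0 : ℤ) < (a - 2) ^ 2 := by
    apply pow_pos; linarith
  have ht1 : (t : ℤ) ≤ 1 := by
    by_contra hcon
    push Not at hcon
    have h10 : (2 : ℤ) ≤ t := by linarith
    have h11 := mul_le_mul_of_nonneg_right h10 hpos.le
    linarith
  have ht1' : (t : ℤ) = 1 := le_antisymm ht1 htz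
  rw [ht1'] at hP4
  have h7 : ((h : ℤ) - 1) ^ 2 = (a - 2) ^ 2 := by
    apply le_antisymm hsq
    linarith
  have h8 : (h : ℤ) - 1 = a - 2 := by
    have := (sq_eq_sq₀ (by linarith) (by linarith)).1 h7
    exact this
  have h9 : (q : ℤ) = a ^ 2 := by
    apply le_antisymm hqaz
    linarith
  refine ⟨by exact_mod_cast ht1', by omega, by exact_mod_cast h9⟩

end CfsgL.Odd
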