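import Cfsg.Agent.L.Sz.TI

/-! Groups in which the centralizers of the nontrivial elements of odd order are cyclic and TI. -/

set_option autoImplicit false

namespace CfsgL.Odd

open Subgroup CfsgL.Sz

/-- The condition on the centralizers of elements of odd order. -/
structure OddCent (M : Type*) [Group M] : Prop where
  cyc : ∀ g : M, g ≠ 1 → Odd (orderOf g) → IsCyclic (centralizer {g})
  odd : ∀ g : M, g ≠ 1 → Odd (orderOf g) → Odd (Nat.card (centralizer {g}))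
  cent : ∀ g t : M, g ≠ 1 → Odd (orderOf g) → t ∈ centralizer {g} → t ≠ 1 → centralizer {t} = centralizer {g}
  norm : ∀ g : M, g ≠ 1 → Odd (orderOf g) → ∃ n, (n = 1 ∨ n = 2 ∨ n = 4) ∧
    Nat.card (normalizer ((centralizer {g} : Subgroup M) : Set M)) = n * Nat.card (centralizer {g})
  three : ¬ 3 ∣ Nat.card M

variable {M : Type*} [Group M]

/-- components -/
def Cm (C : Subgroup M) : Prop := ∃ g : M, g ≠ 1 ∧ Odd (orderOf g) ∧ C = centralizer {g}

variable [Finite M] (hM : OddCent M)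

include hM

theorem odd_of_mem {g t : M} (hg : g ≠ 1) (hgo : Odd (orderOf g)) (ht : t ∈ centralizer {g}) :
    Odd (orderOf t) :=
  (hM.odd g hg hgo).of_dvd_nat (Subgroup.orderOf_dvd_natCard _ ht)

omit [Finite M] in
theorem Cm.cyclic {C : Subgroup M} (hC : Cm C) : IsCyclic C := by
  obtain ⟨g, h1, h2, rfl⟩ := hC; exact hM.cyc g h1 h2

omit [Finite M] in
theorem Cm.odd {C : Subgroup M} (hC : Cm C) : Odd (Nat.card C) := by
  obtain ⟨g, h1, h2, rfl⟩ := hC; exact hM.odd g h1 h2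

omit [Finite M] in
theorem Cm.cent {C : Subgroup M} (hC : Cm C) {t : M} (ht : t ∈ C) (ht1 : t ≠ 1) : centralizer {t} = C := by
  obtain ⟨g, h1, h2, rfl⟩ := hC; exact hM.cent g t h1 h2 ht ht1

omit [Finite M] hM in
theorem Cm.exists_ne {C : Subgroup M} (hC : Cm C) : ∃ t ∈ C, t ≠ 1 := by
  obtain ⟨g, h1, h2, rfl⟩ := hC
  exact ⟨g, mem_centralizer_singleton_iff.2 rfl, h1⟩

omit [Finite M] in
theorem Cm.ti {C : Subgroup M} (hC : Cm C) (x t : M) (ht : t ∈ C) (ht1 : t ≠ 1)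
    (hx : x * t * x⁻¹ ∈ C) : x ∈ normalizer (C : Set M) := by
  have h1 : x * t * x⁻¹ ≠ 1 := by
    intro h
    apply ht1
    calc t = x⁻¹ * (x * t * x⁻¹) * x := by group
      _ = 1 := by rw [h]; group
  have h2 := hC.cent hM hx h1
  have h3 := hC.cent hM ht ht1
  have mcc : ∀ y : M, y ∈ centralizer {x * t * x⁻¹} ↔ x⁻¹ * y * x ∈ centralizer {t} := by
    intro y
    rw [mem_centralizer_singleton_iff, mem_centralizer_singleton_iff]
    constructor
    · intro h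
      calc x⁻¹ * y * x * t = x⁻¹ * (y * (x * t * x⁻¹)) * x := by group
        _ = _ := by rw [h]; group
    · intro h
      calc y * (x * t * x⁻¹) = x * (x⁻¹ * y * x * t) * x⁻¹ := by group
        _ = _ := by rw [h]; group
  rw [mem_nrm]
  intro s
  have h4 : s ∈ C ↔ s ∈ centralizer {t} := by rw [h3]
  have h5 : x * s * x⁻¹ ∈ C ↔ x * s * x⁻¹ ∈ centralizer {x * t * x⁻¹} := by rw [h2]
  rw [h4, h5, mcc]
  have h6 : x⁻¹ * (x * s * x⁻¹) * x = s := by group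
  rw [h6]

theorem Cm.exists_order {C : Subgroup M} {p : ℕ} (hp : p.Prime) (hpd : p ∣ Nat.card C) :
    ∃ t ∈ C, orderOf t = p := by
  haveI : Fact p.Prime := ⟨hp⟩
  obtain ⟨t, ht⟩ := exists_prime_orderOf_dvd_card' p hpd
  exact ⟨t, t.2, by rw [← ht, orderOf_coe]⟩

omit [Finite M] hM in
theorem ne_one_of_order {t : M} {p : ℕ} (hp : p.Prime) (ht : orderOf t = p) : t ≠ 1 := by
  rintro rfl
  rw [orderOf_one] at ht
  exact hp.one_lt.ne ht

theorem Cm.sylow {C : Subgroup M} (hC : Cm C) {p : ℕ} [Fact p.Prime] (hpd : p ∣ Nat.card C) :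
    ∃ P : Sylow p M, (P : Subgroup M) ≤ C := by
  obtain ⟨t, htT, ht⟩ := Cm.exists_order hM Fact.out hpd
  have h1 : IsPGroup p (zpowers t) := by
    rw [IsPGroup.iff_card]; exact ⟨1, by rw [Nat.card_zpowers, ht, pow_one]⟩
  obtain ⟨P, hP⟩ := h1.exists_le_sylow
  refine ⟨P, ?_⟩
  have htP : t ∈ P := hP (mem_zpowers t)
  have ht1 : t ≠ 1 := ne_one_of_order Fact.out ht
  haveI : Nontrivial P := ⟨⟨t, htP⟩, 1, fun h => ht1 (congrArg Subtype.val h)⟩
  haveI := P.2.center_nontrivial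
  obtain ⟨z, hz⟩ := _root_.exists_ne (1 : center P)
  have hz1 : (z : M) ≠ 1 := fun h => hz (Subtype.ext (Subtype.ext h))
  have hzc : ∀ y ∈ P, y * (z : M) = z * y := by
    intro y hy
    have := (mem_center_iff.1 z.2) ⟨y, hy⟩
    exact congrArg Subtype.val this
  have hzT : (z : M) ∈ C := by
    rw [← hC.cent hM htT ht1, mem_centralizer_singleton_iff]
    exact (hzc t htP).symm
  intro y hy
  rw [← hC.cent hM hzT hz1, mem_centralizer_singleton_iff]
  exact hzc y hy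

theorem Cm.conj_into {C : Subgroup M} (hC : Cm C) {p : ℕ} (hp : p.Prime) (hpd : p ∣ Nat.card C)
    {g : M} (hg : orderOf g = p) : ∃ x, x * g * x⁻¹ ∈ C := by
  haveI : Fact p.Prime := ⟨hp⟩
  obtain ⟨P, hP⟩ := hC.sylow hM hpd
  have h1 : IsPGroup p (zpowers g) := by
    rw [IsPGroup.iff_card]; exact ⟨1, by rw [Nat.card_zpowers, hg, pow_one]⟩
  obtain ⟨Q, hQ⟩ := h1.exists_le_sylow
  obtain ⟨x, hx⟩ := MulAction.exists_smul_eq M Q P
  refine ⟨x, hP ?_⟩
  rw [← hx]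
  change x * g * x⁻¹ ∈ ((x • Q : Sylow p M) : Subgroup M)
  rw [Sylow.coe_subgroup_smul, Subgroup.mem_pointwise_smul_iff_inv_smul_mem, ← map_inv]
  change x⁻¹ * (x * g * x⁻¹) * x⁻¹⁻¹ ∈ Q
  have h2 : x⁻¹ * (x * g * x⁻¹) * x⁻¹⁻¹ = g := by group
  rw [h2]
  exact hQ (mem_zpowers g)

theorem Cm.coprime {C : Subgroup M} (hC : Cm C) {p : ℕ} (hp : p.Prime) (hpd : p ∣ Nat.card C) :
    ¬ p ∣ C.index := by
  haveI : Fact p.Prime := ⟨hp⟩
  obtain ⟨P, hP⟩ := hC.sylow hM hpd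
  intro h
  exact P.not_dvd_index (h.trans (index_dvd_of_le hP))

theorem Cm.conj_all {C : Subgroup M} (hC : Cm C) {p : ℕ} (hp : p.Prime) (hpd : p ∣ Nat.card C)
    {g : M} (hpg : p ∣ orderOf g) : ∃ x, x * g * x⁻¹ ∈ C := by
  obtain ⟨k, hk⟩ : ∃ k, orderOf (g ^ k) = p :=
    ⟨_, orderOf_pow_orderOf_div (orderOf_pos g).ne' hpg⟩
  obtain ⟨x, hx⟩ := hC.conj_into hM hp hpd hk
  refine ⟨x, ?_⟩
  have h1 : x * g ^ k * x⁻¹ ≠ 1 := by
    intro h
    have h2 : g ^ k = 1 := by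
      calc g ^ k = x⁻¹ * (x * g ^ k * x⁻¹) * x := by group
        _ = 1 := by rw [h]; group
    rw [h2, orderOf_one] at hk
    exact hp.one_lt.ne hk
  rw [← hC.cent hM hx h1, mem_centralizer_singleton_iff]
  calc x * g * x⁻¹ * (x * g ^ k * x⁻¹) = x * (g * g ^ k) * x⁻¹ := by group
    _ = x * (g ^ k * g) * x⁻¹ := by rw [(Commute.refl g).pow_right k]
    _ = _ := by group

theorem Cm.five_le {C : Subgroup M} (hC : Cm C) : 5 ≤ Nat.card C := by
  have h2 := hC.odd hM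
  obtain ⟨t, ht, ht1⟩ := hC.exists_ne
  have h3 : 1 < Nat.card C := by
    rw [Finite.one_lt_card_iff_nontrivial]
    exact ⟨⟨t, ht⟩, 1, fun h => ht1 (congrArg Subtype.val h)⟩
  have h4 : ¬ 3 ∣ Nat.card C := fun h => hM.three (h.trans (card_subgroup_dvd_card C))
  obtain ⟨k, hk⟩ := h2
  by_contra h5
  have h6 : Nat.card C = 3 := by omega
  exact h4 (by rw [h6])

theorem Cm.cc {C : Subgroup M} (hC : Cm C) : ∃ i n : ℕ, (n = 1 ∨ n = 2 ∨ n = 4) ∧
    i * (n * Nat.card C) = Nat.card M ∧ (CfsgL.Sz.cc C).ncard = i * (Nat.card C - 1) ∧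
      Nat.card (normalizer (C : Set M)) = n * Nat.card C := by
  have hn : ∃ n, (n = 1 ∨ n = 2 ∨ n = 4) ∧ Nat.card (normalizer (C : Set M)) = n * Nat.card C := by
    obtain ⟨g, h1, h2, rfl⟩ := hC; exact hM.norm g h1 h2
  obtain ⟨n, hn, hN⟩ := hn
  refine ⟨(normalizer (C : Set M)).index, n, hn, ?_, ?_, hN⟩
  · rw [← hN, index_mul_card]
  · rw [card_cc C (hC.ti hM)]

theorem Cm.conj_eq {C₁ C₂ : Subgroup M} (h₁ : Cm C₁) (h₂ : Cm C₂) {p : ℕ} (hp : p.Prime)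
    (hp1 : p ∣ Nat.card C₁) (hp2 : p ∣ Nat.card C₂) : ∃ x : M, ∀ y, y ∈ C₂ ↔ x * y * x⁻¹ ∈ C₁ := by
  obtain ⟨t, htT, ht⟩ := Cm.exists_order hM hp hp2
  obtain ⟨x, hx⟩ := h₁.conj_into hM hp hp1 ht
  have ht1 : t ≠ 1 := ne_one_of_order hp ht
  have hx1 : x * t * x⁻¹ ≠ 1 := by
    intro h
    apply ht1
    calc t = x⁻¹ * (x * t * x⁻¹) * x := by group
      _ = 1 := by rw [h]; group
  refine ⟨x, fun y => ?_⟩
  have h3 := h₂.cent hM htT ht1
  have h4 := h₁.cent hM hx hx1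
  have h5 : x * y * x⁻¹ ∈ C₁ ↔ x * y * x⁻¹ ∈ centralizer {x * t * x⁻¹} := by rw [h4]
  have h6 : y ∈ C₂ ↔ y ∈ centralizer {t} := by rw [h3]
  rw [h5, h6, mem_centralizer_singleton_iff, mem_centralizer_singleton_iff]
  constructor
  · intro h
    calc x * y * x⁻¹ * (x * t * x⁻¹) = x * (y * t) * x⁻¹ := by group
      _ = _ := by rw [h]; group
  · intro h
    calc y * t = x⁻¹ * (x * y * x⁻¹ * (x * t * x⁻¹)) * x := by group
      _ = _ := by rw [h]; group

theorem Cm.card_eq {C₁ C₂ : Subgroup M} (h₁ : Cm C₁) (h₂ : Cm C₂) {p : ℕ} (hp : p.Prime)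
    (hp1 : p ∣ Nat.card C₁) (hp2 : p ∣ Nat.card C₂) : Nat.card C₁ = Nat.card C₂ := by
  obtain ⟨x, hx⟩ := h₁.conj_eq hM h₂ hp hp1 hp2
  apply Nat.card_congr
  refine ⟨fun y => ⟨x⁻¹ * y * x, ?_⟩, fun y => ⟨x * y * x⁻¹, (hx _).1 y.2⟩, ?_, ?_⟩
  · rw [hx]
    have : x * (x⁻¹ * (y : M) * x) * x⁻¹ = y := by group
    rw [this]; exact y.2
  · intro y
    apply Subtype.ext
    change x * (x⁻¹ * (y : M) * x) * x⁻¹ = y
    group
  · intro y
    apply Subtype.ext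
    change x⁻¹ * (x * (y : M) * x⁻¹) * x = y
    group

theorem Cm.cop {C₁ C₂ : Subgroup M} (h₁ : Cm C₁) (h₂ : Cm C₂) {p : ℕ}
    (hp1 : ¬ p ∣ Nat.card C₁) (hp2 : p ∣ Nat.card C₂) : Nat.Coprime (Nat.card C₁) (Nat.card C₂) := by
  rw [Nat.coprime_iff_gcd_eq_one]
  by_contra h
  obtain ⟨r, hr, hrd⟩ := Nat.exists_prime_and_dvd h
  have h1 := h₁.card_eq hM h₂ hr (hrd.trans (Nat.gcd_dvd_left _ _)) (hrd.trans (Nat.gcd_dvd_right _ _))
  rw [h1] at hp1
  exact hp1 hp2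

omit [Finite M] hM in
theorem orderOf_conj' (x g : M) : orderOf (x * g * x⁻¹) = orderOf g :=
  orderOf_injective (MulAut.conj x).toMonoidHom (MulAut.conj x).injective g

theorem disj_of_cop {T₁ T₂ : Subgroup M} (hc : Nat.Coprime (Nat.card T₁) (Nat.card T₂)) :
    Disjoint (CfsgL.Sz.cc T₁) (CfsgL.Sz.cc T₂) := by
  rw [Set.disjoint_left]
  rintro g ⟨hg1, x, hx⟩ ⟨-, y, hy⟩
  have e1 : orderOf g ∣ Nat.card T₁ := by
    rw [← orderOf_conj' x g]; exact Subgroup.orderOf_dvd_natCard _ hx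
  have e2 : orderOf g ∣ Nat.card T₂ := by
    rw [← orderOf_conj' y g]; exact Subgroup.orderOf_dvd_natCard _ hy
  exact hg1 (orderOf_eq_one_iff.1 (Nat.eq_one_of_dvd_coprimes hc e1 e2))

/-- existence of a component for each odd prime divisor -/
theorem exists_cm {p : ℕ} (hp : p.Prime) (hp2 : p ≠ 2) (hpd : p ∣ Nat.card M) :
    ∃ C : Subgroup M, Cm C ∧ p ∣ Nat.card C := by
  haveI : Fact p.Prime := ⟨hp⟩
  obtain ⟨g, hg⟩ := exists_prime_orderOf_dvd_card' (G := M) p hpd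
  have hg1 := ne_one_of_order hp hg
  refine ⟨centralizer {g}, ⟨g, hg1, by rw [hg]; exact hp.odd_of_ne_two hp2, rfl⟩, ?_⟩
  rw [← hg]
  exact Subgroup.orderOf_dvd_natCard _ (mem_centralizer_singleton_iff.2 rfl)

/-- lower bound for the number of elements of a component class -/
theorem Cm.cc_big {C : Subgroup M} (h : Cm C) : Nat.card M ≤ 5 * (CfsgL.Sz.cc C).ncard := by
  obtain ⟨i, n, hn, h1, h2, -⟩ := h.cc hM
  rw [← h1, h2]
  have h5 := h.five_le hM
  obtain ⟨t, ht⟩ : ∃ t, Nat.card C = t + 5 := ⟨Nat.card C - 5, by omega⟩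
  rw [ht]
  have h6 : n ≤ 4 := by omega
  calc i * (n * (t + 5)) ≤ i * (4 * (t + 5)) := Nat.mul_le_mul_left _ (Nat.mul_le_mul_right _ h6)
    _ ≤ i * (5 * (t + 5 - 1)) := Nat.mul_le_mul_left _ (by omega)
    _ = 5 * (i * (t + 5 - 1)) := by ring

/-- a nontrivial group of odd order is a single component -/
theorem odd_group (ho : Odd (Nat.card M)) (hM1 : Nat.card M ≠ 1) : Cm (⊤ : Subgroup M) := by
  obtain ⟨p, hp, hpd⟩ := Nat.exists_prime_and_dvd hM1
  have hnt : ∀ r : ℕ, r.Prime → r ∣ Nat.card M → r ≠ 2 := by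
    rintro r hr hrd rfl
    exact absurd (ho.of_dvd_nat hrd) (by decide)
  obtain ⟨C, hC, hpC⟩ := exists_cm hM hp (hnt p hp hpd) hpd
  have h5 := hC.five_le hM
  -- `n = 1`
  have hn1 : ∀ {C : Subgroup M}, Cm C → (CfsgL.Sz.cc C).ncard + C.index = Nat.card M := by
    intro C hC
    obtain ⟨i, n, hn, h1, h2, -⟩ := hC.cc hM
    have hn' : n = 1 := by
      have h3 : n ∣ Nat.card M := ⟨i * Nat.card C, by rw [← h1]; ring⟩
      rcases hn with h | h | h
      · exact h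
      · rw [h] at h3; exact absurd (ho.of_dvd_nat h3) (by decide)
      · rw [h] at h3; exact absurd (ho.of_dvd_nat h3) (by decide)
    subst hn'
    rw [one_mul] at h1
    have h3 := index_mul_card C
    have h4 : C.index = i := Nat.eq_of_mul_eq_mul_right Nat.card_pos (h3.trans h1.symm)
    rw [h2, h4, ← h1]
    have : 0 < Nat.card C := Nat.card_pos
    obtain ⟨c, hc⟩ : ∃ c, Nat.card C = c + 1 := ⟨Nat.card C - 1, by omega⟩
    rw [hc, Nat.add_sub_cancel]; ring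
  by_cases hi : C.index = 1
  · rw [index_eq_one.1 hi] at hC; exact hC
  exfalso
  obtain ⟨r, hr, hrd⟩ := Nat.exists_prime_and_dvd hi
  have hrM : r ∣ Nat.card M := by rw [← index_mul_card C]; exact hrd.mul_right _
  obtain ⟨C', hC', hrC'⟩ := exists_cm hM hr (hnt r hr hrM) hrM
  have hnr : ¬ r ∣ Nat.card C := fun h => hC.coprime hM hr h hrd
  have hcop := hC.cop hM hC' hnr hrC'
  have hd := disj_of_cop hM hcop
  have h6 : (CfsgL.Sz.cc C).ncard + (CfsgL.Sz.cc C').ncard ≤ Nat.card M := by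
    rw [← Set.ncard_union_eq hd, ← Set.ncard_univ]
    exact Set.ncard_le_ncard (Set.subset_univ _)
  have h7 := hn1 hC
  have h8 := hn1 hC'
  have h9 := index_mul_card C
  have h10 := index_mul_card C'
  have h11 := hC'.five_le hM
  have h12 : C.index * 5 ≤ Nat.card M := by rw [← h9]; exact Nat.mul_le_mul_left _ h5
  have h13 : C'.index * 5 ≤ Nat.card M := by rw [← h10]; exact Nat.mul_le_mul_left _ h11
  have h14 : 0 < Nat.card M := Nat.card_pos
  omega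

end CfsgL.Odd
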