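import Cfsg.Agent.L.Sz.Syl

/-! The Suzuki groups: the partition. -/

set_option autoImplicit false

namespace CfsgL.Sz

open Subgroup

variable {F : Type*} [Field F] [Fintype F] {m : ℕ} [CharP F 2] [hF : Fact (Fintype.card F = 2 ^ (2 * m + 1))]

section
variable [hm : Fact (1 ≤ m)]

theorem cent_hh {j : Fˣ} (hj : j ≠ 1) : centralizer {hh m j} = KK F m := by
  apply le_antisymm
  · intro c hc
    exact cent_KK hj (mem_centralizer_singleton_iff.1 hc)
  · intro c hc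
    obtain ⟨i, rfl⟩ := mem_KK.1 hc
    rw [mem_centralizer_singleton_iff, ← hh_mul, ← hh_mul, mul_comm]

theorem cent_tri {g : Gz F m} (hg : g ≠ 1) : (∃ x : Gz F m, x * g * x⁻¹ ∈ QQ F m) ∨
    (IsCyclic (centralizer {g}) ∧ ((Nat.card (centralizer {g}) = Nat.card F - 1) ∨
      (Fpf g ∧ (Nat.card (centralizer {g}) = Nat.card F + 2 ^ (m + 1) + 1 ∨
        Nat.card (centralizer {g}) + 2 ^ (m + 1) = Nat.card F + 1)))) := by
  rcases tri g with ⟨x, a, b, rfl⟩ | ⟨x, j, hj, rfl⟩ | h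
  · left
    refine ⟨x⁻¹, ?_⟩
    have : x⁻¹ * (x * u m a b * x⁻¹) * x⁻¹⁻¹ = u m a b := by group
    rw [this]; exact u_mem_QQ a b
  · right
    obtain ⟨e⟩ := cent_conj_equiv x (hh m j)
    have h2 := cent_hh (m := m) hj
    haveI : IsCyclic (centralizer {hh m j}) := by rw [h2]; infer_instance
    refine ⟨isCyclic_of_injective e.toMonoidHom e.injective, Or.inl ?_⟩
    rw [Nat.card_congr e.toEquiv, h2, card_KK]
  · right
    refine ⟨cent_cyclic h, Or.inr ⟨h, ?_⟩⟩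
    obtain ⟨T₁, T₂, h₁, h₂, c₁, c₂, -, -, -, -, hall⟩ := tori_exist (F := F) (m := m)
    have key : ∀ {T : Subgroup (Gz F m)}, Tor T → g ∈ cc T → Nat.card (centralizer {g}) = Nat.card T := by
      rintro T hT ⟨hg1, x, hx⟩
      have h1 : x * g * x⁻¹ ≠ 1 := by
        intro h
        apply hg1
        calc g = x⁻¹ * (x * g * x⁻¹) * x := by group
          _ = 1 := by rw [h]; group
      obtain ⟨e⟩ := cent_conj_equiv x g
      rw [← Nat.card_congr e.toEquiv, hT.cent hx h1]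
    rcases hall g h with h3 | h3
    · left; rw [key h₁ h3, c₁]
    · right; rw [key h₂ h3, c₂]

/-- numbers -/
theorem two_t_facts : Nat.Coprime (Nat.card F - 1) (Nat.card F ^ 2 + 1) ∧
    (Nat.card F + 2 ^ (m + 1) + 1) * (Nat.card F + 1 - 2 ^ (m + 1)) = Nat.card F ^ 2 + 1 ∧
    Nat.Coprime (Nat.card F + 2 ^ (m + 1) + 1) (Nat.card F + 1 - 2 ^ (m + 1)) ∧
    1 < Nat.card F + 1 - 2 ^ (m + 1) ∧ 1 < Nat.card F - 1 := by
  obtain ⟨T₁, T₂, h₁, h₂, c₁, c₂, -, -, hp, hc, -⟩ := tori_exist (F := F) (m := m)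
  have h8 := card_F_ge (F := F) (m := m)
  have h3 : Nat.card F + 1 - 2 ^ (m + 1) = Nat.card T₂ := by omega
  refine ⟨coprime_aux (card_F_even (F := F) (m := m)) (by omega), ?_, ?_, ?_, by omega⟩
  · rw [h3, ← c₁, hp]
  · rw [h3, ← c₁]; exact hc
  · rw [h3]; have := h₂.five_le; omega

theorem order_QQ {g x : Gz F m} (h : x * g * x⁻¹ ∈ QQ F m) : orderOf g ∣ 4 := by
  obtain ⟨a, b, hab⟩ := h
  apply orderOf_dvd_of_pow_eq_one
  have h1 := u_pow_four (m := m) a b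
  rw [← hab, conj_pow] at h1
  calc g ^ 4 = x⁻¹ * (x * g ^ 4 * x⁻¹) * x := by group
    _ = 1 := by rw [h1]; group

/-- a subgroup containing `g` which is abelian lies in the centralizer -/
theorem le_cent_of_cyclic {G : Type*} [Group G] {U : Subgroup G} (hU : IsCyclic U) {g : G} (hg : g ∈ U) :
    U ≤ centralizer {g} := by
  intro x hx
  rw [mem_centralizer_singleton_iff]
  letI := hU.commGroup
  exact congrArg Subtype.val (mul_comm (⟨x, hx⟩ : U) ⟨g, hg⟩)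

/-- two Sylow subgroups sharing a nontrivial element coincide -/
theorem sylow_eq {P P' : Sylow 2 (Gz F m)} {g : Gz F m} (hg : g ≠ 1) (h : g ∈ P) (h' : g ∈ P') : P = P' := by
  obtain ⟨x, hx⟩ := sylow_conj P
  obtain ⟨y, hy⟩ := sylow_conj P'
  have h1 := (hx g).1 h
  have h2 := (hy g).1 h'
  have h3 : (y * x⁻¹) * (x * g * x⁻¹) * (y * x⁻¹)⁻¹ = y * g * y⁻¹ := by group
  have h4 : y * x⁻¹ ∈ BB F m := by
    refine QQ_ti _ _ h1 ?_ (by rw [h3]; exact h2)
    intro h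
    apply hg
    calc g = x⁻¹ * (x * g * x⁻¹) * x := by group
      _ = 1 := by rw [h]; group
  apply Sylow.ext
  ext t
  change t ∈ P ↔ t ∈ P'
  rw [hx, hy]
  constructor
  · intro h5
    have h6 := QQ_norm_conj h4 h5
    have h7 : (y * x⁻¹) * (x * t * x⁻¹) * (y * x⁻¹)⁻¹ = y * t * y⁻¹ := by group
    rwa [h7] at h6
  · intro h5
    have h6 := QQ_norm_conj (inv_mem h4) h5
    have h7 : (y * x⁻¹)⁻¹ * (y * t * y⁻¹) * (y * x⁻¹)⁻¹⁻¹ = x * t * x⁻¹ := by group
    rwa [h7] at h6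

end

end CfsgL.Sz
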