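import Cfsg.Agent.L.Sz.Odd
import Cfsg.Agent.L.Sz.Part

/-! Subgroups of the Suzuki groups: centralizers of elements of odd order. -/

set_option autoImplicit false

namespace CfsgL.Sz

open Subgroup CfsgL.Odd

variable {F : Type*} [Field F] [Fintype F] {m : ℕ} [CharP F 2] [hF : Fact (Fintype.card F = 2 ^ (2 * m + 1))]

section
variable [hm : Fact (1 ≤ m)]

omit [CharP F 2] hF [Fintype F] hm [Field F] in
theorem relIndex_card {G : Type*} [Group G] {H K : Subgroup G} (h : H ≤ K) :
    H.relIndex K * Nat.card H = Nat.card K := by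
  rw [relIndex, ← Nat.card_congr (subgroupOfEquivOfLe h).toEquiv]; exact index_mul_card _

theorem odd_not_QQ {g x : Gz F m} (hg : g ≠ 1) (ho : Odd (orderOf g)) : x * g * x⁻¹ ∉ QQ F m := by
  intro h
  have h1 := order_QQ h
  have h2 : Nat.Coprime (orderOf g) (2 ^ 2) := Nat.Coprime.pow_right _ (Nat.coprime_two_right.2 ho)
  exact hg (orderOf_eq_one_iff.1 (Nat.eq_one_of_dvd_coprimes h2 dvd_rfl h1))

theorem cent_odd {g : Gz F m} (hg : g ≠ 1) (ho : Odd (orderOf g)) :
    IsCyclic (centralizer {g}) ∧ Odd (Nat.card (centralizer {g})) := by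
  rcases cent_tri hg with ⟨x, hx⟩ | ⟨hc, hcard⟩
  · exact absurd hx (odd_not_QQ hg ho)
  · refine ⟨hc, ?_⟩
    have h1 : Even (2 ^ (m + 1)) := by rw [pow_succ]; exact even_two.mul_left _
    obtain ⟨r, hr'⟩ := h1
    obtain ⟨s, hs⟩ := card_F_even (F := F) (m := m)
    have h8 := card_F_ge (F := F) (m := m)
    rcases hcard with h | ⟨-, h | h⟩
    · exact ⟨s - 1, by omega⟩
    · exact ⟨s + r, by omega⟩
    · exact ⟨s - r, by omega⟩

theorem cent_eq_of_odd {g t : Gz F m} (hg : g ≠ 1) (ho : Odd (orderOf g)) (ht : t ∈ centralizer {g})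
    (ht1 : t ≠ 1) : centralizer {t} = centralizer {g} := by
  obtain ⟨hc, hco⟩ := cent_odd hg ho
  have hto : Odd (orderOf t) := hco.of_dvd_nat (Subgroup.orderOf_dvd_natCard _ ht)
  obtain ⟨hct, -⟩ := cent_odd ht1 hto
  have htg := mem_centralizer_singleton_iff.1 ht
  apply le_antisymm
  · intro x hx
    rw [mem_centralizer_singleton_iff] at hx ⊢
    exact cent_comm_of_cyclic hct hx htg.symm
  · intro x hx
    rw [mem_centralizer_singleton_iff] at hx ⊢
    exact cent_comm_of_cyclic hc hx htg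

theorem norm_conj_card (x h : Gz F m) :
    Nat.card (normalizer ((centralizer {x * h * x⁻¹} : Subgroup (Gz F m)) : Set (Gz F m))) =
      Nat.card (normalizer ((centralizer {h} : Subgroup (Gz F m)) : Set (Gz F m))) := by
  have key : ∀ y : Gz F m, y ∈ normalizer ((centralizer {x * h * x⁻¹} : Subgroup (Gz F m)) : Set (Gz F m)) ↔
      x⁻¹ * y * x ∈ normalizer ((centralizer {h} : Subgroup (Gz F m)) : Set (Gz F m)) := by
    intro y
    rw [mem_nrm, mem_nrm]
    constructor
    · intro h1 t
      have h2 := h1 (x * t * x⁻¹)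
      rw [mem_conj_cent, mem_conj_cent] at h2
      have e1 : x⁻¹ * (x * t * x⁻¹) * x = t := by group
      have e2 : x⁻¹ * (y * (x * t * x⁻¹) * y⁻¹) * x = x⁻¹ * y * x * t * (x⁻¹ * y * x)⁻¹ := by group
      rwa [e1, e2] at h2
    · intro h1 t
      have h2 := h1 (x⁻¹ * t * x)
      rw [mem_conj_cent, mem_conj_cent]
      have e2 : x⁻¹ * y * x * (x⁻¹ * t * x) * (x⁻¹ * y * x)⁻¹ = x⁻¹ * (y * t * y⁻¹) * x := by group
      rwa [e2] at h2
  apply Nat.card_congr
  refine ⟨fun y => ⟨x⁻¹ * y * x, (key _).1 y.2⟩, fun y => ⟨x * y * x⁻¹, (key _).2 (by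
    have : x⁻¹ * (x * (y : Gz F m) * x⁻¹) * x = y := by group
    rw [this]; exact y.2)⟩, ?_, ?_⟩
  · intro y
    apply Subtype.ext
    change x * (x⁻¹ * (y : Gz F m) * x) * x⁻¹ = y
    group
  · intro y
    apply Subtype.ext
    change x⁻¹ * (x * (y : Gz F m) * x⁻¹) * x = y
    group

theorem norm_odd {g : Gz F m} (hg : g ≠ 1) (ho : Odd (orderOf g)) :
    ∃ n, (n = 1 ∨ n = 2 ∨ n = 4) ∧
    Nat.card (normalizer ((centralizer {g} : Subgroup (Gz F m)) : Set (Gz F m))) = n * Nat.card (centralizer {g}) := by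
  rcases tri g with ⟨x, a, b, h⟩ | ⟨x, j, hj, h⟩ | h
  · exfalso
    refine odd_not_QQ (x := x⁻¹) hg ho ?_
    rw [h]
    have : x⁻¹ * (x * u m a b * x⁻¹) * x⁻¹⁻¹ = u m a b := by group
    rw [this]; exact u_mem_QQ a b
  · refine ⟨2, by omega, ?_⟩
    obtain ⟨e⟩ := cent_conj_equiv x (hh m j)
    rw [h, norm_conj_card, Nat.card_congr e.toEquiv, cent_hh hj, card_norm_KK, card_KK]
  · have hT : Tor (centralizer {g}) := ⟨g, h, rfl⟩
    exact hT.norm_card

theorem cent_sub {G : Type*} [Group G] (M : Subgroup G) (g : M) :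
    centralizer {g} = (centralizer {(g : G)}).subgroupOf M := by
  ext x
  rw [mem_subgroupOf, mem_centralizer_singleton_iff, mem_centralizer_singleton_iff]
  exact ⟨fun h => congrArg Subtype.val h, fun h => Subtype.ext h⟩

theorem oddCent_sub (M : Subgroup (Gz F m)) : OddCent M := by
  have hv : ∀ {g : M}, g ≠ 1 → (g : Gz F m) ≠ 1 := fun h h' => h (Subtype.ext h')
  have hvo : ∀ {g : M}, Odd (orderOf g) → Odd (orderOf (g : Gz F m)) := fun h => by rwa [orderOf_coe]
  refine ⟨?_, ?_, ?_, ?_, ?_⟩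
  · intro g hg ho
    rw [cent_sub]
    haveI := (cent_odd (hv hg) (hvo ho)).1
    let f : (centralizer {(g : Gz F m)}).subgroupOf M →* centralizer {(g : Gz F m)} := {
      toFun := fun x => ⟨x.1.1, x.2⟩
      map_one' := rfl
      map_mul' := fun _ _ => rfl }
    refine isCyclic_of_injective f (fun x y h => ?_)
    have h1 : (x.1 : Gz F m) = (y.1 : Gz F m) := congrArg (fun z : centralizer {(g : Gz F m)} => (z : Gz F m)) h
    exact Subtype.ext (Subtype.ext h1)
  · intro g hg ho
    rw [cent_sub]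
    have h1 := (cent_odd (hv hg) (hvo ho)).2
    apply h1.of_dvd_nat
    exact card_comap_dvd_of_injective _ M.subtype M.subtype_injective
  · intro g t hg ho ht ht1
    rw [cent_sub M g] at ht ⊢
    have h1 : centralizer {(t : Gz F m)} = centralizer {(g : Gz F m)} :=
      cent_eq_of_odd (hv hg) (hvo ho) ht (hv ht1)
    rw [cent_sub M t, h1]
  · intro g hg ho
    obtain ⟨n, hn, hN⟩ := norm_odd (hv hg) (hvo ho)
    obtain ⟨C, hC⟩ : ∃ C, C = centralizer {(g : Gz F m)} := ⟨_, rfl⟩
    obtain ⟨N, hNd⟩ : ∃ N, N = normalizer ((centralizer {(g : Gz F m)} : Subgroup (Gz F m)) : Set (Gz F m)) := ⟨_, rfl⟩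
    have hCN : C ≤ N := by rw [hC, hNd]; exact le_normalizer
    have hNM : normalizer ((centralizer {g} : Subgroup M) : Set M) = N.subgroupOf M := by
      ext x
      rw [mem_subgroupOf, hNd, mem_nrm]
      constructor
      · intro h
        have h1 := (h g).1 (mem_centralizer_singleton_iff.2 rfl)
        rw [cent_sub, mem_subgroupOf] at h1
        have h1' : (x : Gz F m) * g * (x : Gz F m)⁻¹ ∈ centralizer {(g : Gz F m)} := h1
        have hne : (x : Gz F m) * g * (x : Gz F m)⁻¹ ≠ 1 := by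
          intro h2
          apply hv hg
          calc (g : Gz F m) = (x : Gz F m)⁻¹ * (x * g * (x : Gz F m)⁻¹) * x := by group
            _ = 1 := by rw [h2]; group
        have h2 := cent_eq_of_odd (hv hg) (hvo ho) h1' hne
        rw [mem_nrm]
        intro t
        have h3 : (x : Gz F m) * t * (x : Gz F m)⁻¹ ∈ centralizer {(g : Gz F m)} ↔
          (x : Gz F m) * t * (x : Gz F m)⁻¹ ∈ centralizer {(x : Gz F m) * g * (x : Gz F m)⁻¹} := by rw [h2]
        rw [h3, mem_conj_cent]
        have h4 : (x : Gz F m)⁻¹ * (x * t * (x : Gz F m)⁻¹) * x = t := by group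
        rw [h4]
      · intro h t
        rw [mem_nrm] at h
        rw [cent_sub, mem_subgroupOf, mem_subgroupOf]
        exact h t
    have hCM : Nat.card (centralizer {g} : Subgroup M) = Nat.card (C.subgroupOf M) := by rw [cent_sub, hC]
    rw [hNM, hCM]
    have hnorm : (C.subgroupOf N).Normal := by
      rw [hC, hNd]; exact normal_in_normalizer
    have h1 : (C.subgroupOf M) ≤ (N.subgroupOf M) := comap_mono hCN
    have h2 : (C.subgroupOf M).relIndex (N.subgroupOf M) ∣ n := by
      have h3 : (C.subgroupOf M).relIndex (N.subgroupOf M) = C.relIndex (M ⊓ N) := by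
        have : (C.subgroupOf M).relIndex (N.subgroupOf M) = C.relIndex ((N.subgroupOf M).map M.subtype) :=
          relIndex_comap C M.subtype (N.subgroupOf M)
        rw [this]
        congr 1
        rw [subgroupOf_map_subtype, inf_comm]
      rw [h3]
      have h4 : C.relIndex (M ⊓ N) ∣ C.relIndex N := by
        have h5 : C.relIndex (M ⊓ N) = (C.subgroupOf N).relIndex ((M ⊓ N).subgroupOf N) := by
          rw [relIndex_subgroupOf inf_le_right]
        rw [h5]
        exact relIndex_dvd_index_of_normal _ _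
      refine h4.trans ?_
      have h6 : C.relIndex N * Nat.card C = Nat.card N := relIndex_card hCN
      have h7 : n * Nat.card C = Nat.card N := by rw [hC, hNd, hN]
      have h8 : C.relIndex N = n := Nat.eq_of_mul_eq_mul_right Nat.card_pos (h6.trans h7.symm)
      rw [h8]
    refine ⟨(C.subgroupOf M).relIndex (N.subgroupOf M), ?_, ?_⟩
    · rcases hn with rfl | rfl | rfl
      · left; exact Nat.dvd_one.1 h2
      · rcases (Nat.dvd_prime Nat.prime_two).1 h2 with h | h
        · exact Or.inl h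
        · exact Or.inr (Or.inl h)
      · have h3 : (C.subgroupOf M).relIndex (N.subgroupOf M) ∣ 2 ^ 2 := h2
        obtain ⟨k, hk, hk'⟩ := (Nat.dvd_prime_pow Nat.prime_two).1 h3
        rw [hk']
        interval_cases k <;> simp
    · exact (relIndex_card h1).symm
  · intro h
    exact not_three_dvd (F := F) (m := m) (h.trans (card_subgroup_dvd_card M))

end

end CfsgL.Sz
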