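import Cfsg.Agent.L.Sz.Card

/-! The Suzuki groups are simple. -/

set_option autoImplicit false

namespace CfsgL.Sz

open Matrix
open scoped Pointwise commutatorElement

variable {F : Type*} [Field F] [Fintype F] {m : ℕ} [CharP F 2] [hF : Fact (Fintype.card F = 2 ^ (2 * m + 1))]

section
variable [hm : Fact (1 ≤ m)]

theorem uh_sq {a b : F} {j : Fˣ} (h : (u m a b * hh m j) * (u m a b * hh m j) = 1) : j = 1 ∧ a = 0 := by
  have h2 : (u m a b * hh m j) * (u m a b * hh m j) = u m 0 0 * hh m 1 := by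
    rw [h, u_zero, hh_one, mul_one]
  have h3 : (u m a b * hh m j) * (u m a b * hh m j) =
      u m (a + sg F m j * a) (b + sg F m j * j ^ 2 * b + sg F m a * (sg F m j * a)) * hh m (j * j) := by
    calc (u m a b * hh m j) * (u m a b * hh m j) = u m a b * (hh m j * u m a b) * hh m j := by group
      _ = _ := by rw [hh_u, hh_mul, ← u_mul]; group
  rw [h3] at h2
  obtain ⟨h4, h5, h6⟩ := uh_inj h2
  have hj1 : j = 1 := by
    apply Units.ext
    have h7 : ((j : F) - 1) ^ 2 = 0 := by
      have h8 : (j : F) * j = 1 := by rw [← Units.val_mul, h6, Units.val_one]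
      have h9 := two0 (j : F)
      have h10 := two0 (1 : F)
      linear_combination h8 - h9 + h10
    exact sub_eq_zero.1 (pow_eq_zero_iff two_ne_zero |>.1 h7)
  refine ⟨hj1, ?_⟩
  rw [hj1, Units.val_one, map_one] at h5
  have h6 : sg F m a * a = 0 := by
    have := two0 b
    linear_combination h5 - this
  rcases mul_eq_zero.1 h6 with h | h
  · exact sg_eq_zero.1 h
  · exact h

theorem comm_top : commutator (Gz F m) = ⊤ := by
  apply eq_top_of_normal
  rintro _ ⟨b, rfl⟩
  obtain ⟨j, hj⟩ := exists_j (F := F) (m := m)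
  have e2 : sg F m (j : F) * (j : F) ^ 2 + 1 ≠ 0 := by
    intro h0
    apply hj (j_eq_one_of_sg2 (m := m) _)
    have := two0 (1 : F)
    linear_combination h0 - this
  obtain ⟨c, hc⟩ : ∃ c, c = b / (sg F m (j : F) * (j : F) ^ 2 + 1) := ⟨_, rfl⟩
  have hc' : c * (sg F m (j : F) * (j : F) ^ 2 + 1) = b := by rw [hc]; field_simp
  have h1 : ⁅hh m j, u m 0 c⁆ = u m 0 b := by
    rw [commutatorElement_def, hh_u, mul_inv_cancel_right, u_inv, u_mul]
    congr 1
    · ring
    · rw [← hc']; ring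
  rw [← h1, commutator_def]
  exact Subgroup.commutator_mem_commutator (Subgroup.mem_top _) (Subgroup.mem_top _)

/-- the Iwasawa subgroups -/
def TT (p : Om F m) : Subgroup (Gz F m) := Subgroup.closure {g | g • p = p ∧ g * g = 1}

theorem TT_inf : TT (pinf F m) = ZQ F m := by
  apply le_antisymm
  · rw [TT, Subgroup.closure_le]
    rintro g ⟨h1, h2⟩
    obtain ⟨a, b, j, rfl⟩ := stab_inf h1
    obtain ⟨rfl, rfl⟩ := uh_sq h2
    exact ⟨b, by rw [hh_one, mul_one]⟩
  · rintro _ ⟨b, rfl⟩
    apply Subgroup.subset_closure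
    refine ⟨u_inf 0 b, ?_⟩
    rw [u_mul, map_zero, zero_mul, two0, two0, add_zero, u_zero]

omit hm in
theorem TT_conj (g : Gz F m) (p : Om F m) : TT (g • p) = MulAut.conj g • TT p := by
  have key : ∀ (g : Gz F m) (p : Om F m), MulAut.conj g • TT p ≤ TT (g • p) := by
    intro g p
    intro x hx
    rw [Subgroup.mem_pointwise_smul_iff_inv_smul_mem, ← map_inv] at hx
    change g⁻¹ * x * (g⁻¹)⁻¹ ∈ TT p at hx
    have h2 : TT p ≤ (TT (g • p)).comap (MulAut.conj g).toMonoidHom := by
      rw [TT, Subgroup.closure_le]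
      rintro y ⟨h1, h2⟩
      change g * y * g⁻¹ ∈ TT (g • p)
      apply Subgroup.subset_closure
      refine ⟨?_, ?_⟩
      · rw [mul_smul, mul_smul, inv_smul_smul, h1]
      · calc g * y * g⁻¹ * (g * y * g⁻¹) = g * (y * y) * g⁻¹ := by group
          _ = 1 := by rw [h2]; group
    have h3 := h2 hx
    change g * (g⁻¹ * x * (g⁻¹)⁻¹) * g⁻¹ ∈ TT (g • p) at h3
    have h4 : g * (g⁻¹ * x * (g⁻¹)⁻¹) * g⁻¹ = x := by group
    rwa [h4] at h3
  apply le_antisymm _ (key g p)
  have h1 := key g⁻¹ (g • p)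
  rw [inv_smul_smul] at h1
  intro x hx
  rw [Subgroup.mem_pointwise_smul_iff_inv_smul_mem]
  have h2 : MulAut.conj g⁻¹ • x ∈ MulAut.conj g⁻¹ • TT (g • p) :=
    Subgroup.smul_mem_pointwise_smul _ _ _ hx
  have h3 := h1 h2
  rwa [map_inv] at h3

theorem ZQ_comm {x y : Gz F m} (hx : x ∈ ZQ F m) (hy : y ∈ ZQ F m) : x * y = y * x := by
  obtain ⟨a, rfl⟩ := hx
  obtain ⟨b, rfl⟩ := hy
  rw [u_mul, u_mul, map_zero, zero_mul, add_zero, add_comm a b]

variable (F m) in
/-- the Iwasawa structure -/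
def iwa : MulAction.IwasawaStructure (Gz F m) (Om F m) where
  T := TT
  is_comm := by
    intro p
    obtain ⟨g, hg⟩ := exists_to_inf p
    have h1 : ∀ x ∈ TT p, g * x * g⁻¹ ∈ ZQ F m := by
      intro x hx
      rw [← TT_inf, ← hg, TT_conj]
      exact ⟨x, hx, rfl⟩
    refine ⟨⟨fun x y => ?_⟩⟩
    apply Subtype.ext
    change (x : Gz F m) * y = y * x
    have h2 := ZQ_comm (h1 x x.2) (h1 y y.2)
    have h3 : (x : Gz F m) * y = g⁻¹ * (g * x * g⁻¹ * (g * y * g⁻¹)) * g := by group
    rw [h3, h2]; group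
  is_conj := TT_conj
  is_generator := by
    haveI : (iSup (TT (F := F) (m := m))).Normal := by
      refine ⟨fun n hn g => ?_⟩
      have : iSup (TT (F := F) (m := m)) ≤ (iSup (TT (F := F) (m := m))).comap (MulAut.conj g).toMonoidHom := by
        rw [iSup_le_iff]
        intro p x hx
        change g * x * g⁻¹ ∈ iSup (TT (F := F) (m := m))
        apply (le_iSup (TT (F := F) (m := m)) (g • p))
        rw [TT_conj]
        exact ⟨x, hx, rfl⟩
      exact this hn
    apply eq_top_of_normal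
    rw [← TT_inf]
    exact le_iSup (TT (F := F) (m := m)) (pinf F m)

instance isSimple : IsSimpleGroup (Gz F m) := by
  haveI : Nontrivial (Gz F m) := by
    obtain ⟨j, hj⟩ := exists_j (F := F) (m := m)
    refine ⟨hh m j, 1, fun h => hj (hh_inj (m := m) (by rw [h, hh_one]))⟩
  haveI : MulAction.IsPreprimitive (Gz F m) (Om F m) :=
    MulAction.isPreprimitive_of_is_two_pretransitive isTwoTrans
  exact MulAction.IwasawaStructure.isSimpleGroup comm_top (iwa F m) isFaithful

end

end CfsgL.Sz
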