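import Cfsg.Agent.L.Sz.Group

/-! The Suzuki groups acting on the ovoid: double transitivity and fixed points. -/

set_option autoImplicit false

namespace CfsgL.Sz

open Matrix

variable {F : Type*} [Field F] [Fintype F] {m : ℕ} [CharP F 2] [hF : Fact (Fintype.card F = 2 ^ (2 * m + 1))]

/-- The Suzuki group. -/
abbrev Gz (F : Type*) [Field F] (m : ℕ) := ↥(Cfsg.Sz F m)

/-- The ovoid. -/
abbrev Om (F : Type*) [Field F] (m : ℕ) := ↥(Cfsg.suzukiOvoid F m)

variable (m) in
/-- unipotent elements -/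
def u (a b : F) : Gz F m := ⟨U m a b, U_mem a b⟩

variable (m) in
/-- torus elements -/
def hh (j : Fˣ) : Gz F m := ⟨H m j, H_mem j⟩

variable (F m) in
/-- Weyl element -/
def ww : Gz F m := ⟨W F, W_mem⟩

variable (F m) in
omit [Fintype F] hF in
/-- infinity -/
def pinf : Om F m := ⟨inf F, inf_mem⟩

variable (m) in
omit [Fintype F] hF in
/-- affine points -/
def pp (x y : F) : Om F m := ⟨pt m x y, pt_mem x y⟩

variable (F m) in
omit [Fintype F] hF in
/-- the point zero -/
abbrev pzero : Om F m := pp m (0 : F) 0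

theorem smul_val (g : Gz F m) (p : Om F m) : (g • p).1 = g.1 • p.1 := rfl

theorem u_pp (a b x y : F) : u m a b • pp m x y = pp m (x + a) (y + b + sg F m a * x) :=
  Subtype.ext (U_pt a b x y)

theorem u_inf (a b : F) : u m a b • pinf F m = pinf F m := Subtype.ext (U_inf a b)

theorem hh_pp (j : Fˣ) (x y : F) : hh m j • pp m x y = pp m (sg F m j * x) (sg F m j * j ^ 2 * y) :=
  Subtype.ext (H_pt j x y)

theorem hh_inf (j : Fˣ) : hh m j • pinf F m = pinf F m := Subtype.ext (H_inf j)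

theorem ww_inf : ww F m • pinf F m = pzero F m := Subtype.ext W_inf

theorem ww_zero : ww F m • pzero F m = pinf F m := Subtype.ext W_zero

theorem ww_pp {x y : F} (h : zz m x y ≠ 0) :
    ww F m • pp m x y = pp m (y / zz m x y) (x / zz m x y) := Subtype.ext (W_pt h)

theorem u_mul (a b c d : F) : u m a b * u m c d = u m (a + c) (b + d + sg F m a * c) :=
  Subtype.ext (U_mul a b c d)

theorem u_zero : u m (0 : F) 0 = 1 := Subtype.ext U_zero

theorem u_inv (a b : F) : (u m a b)⁻¹ = u m a (b + sg F m a * a) := Subtype.ext (U_inv a b)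

theorem hh_mul (i j : Fˣ) : hh m (i * j) = hh m i * hh m j := Subtype.ext (H_mul i j)

theorem hh_one : hh m (1 : Fˣ) = 1 := Subtype.ext H_one

theorem hh_inv (j : Fˣ) : (hh m j)⁻¹ = hh m j⁻¹ := Subtype.ext (H_inv j)

theorem ww_ww : ww F m * ww F m = 1 := Subtype.ext W_mul_W

theorem ww_inv : (ww F m)⁻¹ = ww F m := Subtype.ext W_inv

theorem ww_hh (j : Fˣ) : ww F m * hh m j = hh m j⁻¹ * ww F m := Subtype.ext (W_H j)

theorem hh_u (j : Fˣ) (a b : F) :
    hh m j * u m a b = u m (sg F m j * a) (sg F m j * j ^ 2 * b) * hh m j := Subtype.ext (H_U j a b)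

theorem pp_ne_inf (x y : F) : pp m x y ≠ pinf F m := fun h => pt_ne_inf x y (congrArg Subtype.val h)

theorem pp_inj {x y x' y' : F} (h : pp m x y = pp m x' y') : x = x' ∧ y = y' :=
  pt_inj (congrArg Subtype.val h)

theorem exists_pp {p : Om F m} (h : p ≠ pinf F m) : ∃ x y, p = pp m x y := by
  obtain ⟨x, y, hxy⟩ := exists_pt_of_ne p.2 (fun h' => h (Subtype.ext h'))
  exact ⟨x, y, Subtype.ext hxy⟩

theorem u_ne_one {a b : F} (h : u m a b = 1) : a = 0 ∧ b = 0 := by
  have := u_pp a b 0 0 (m := m)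
  rw [h, one_smul] at this
  have := pp_inj this
  simp at this
  exact ⟨this.1.symm, this.2.symm⟩

theorem u_inj {a b c d : F} (h : u m a b = u m c d) : a = c ∧ b = d := by
  have h1 := u_pp a b 0 0 (m := m)
  have h2 := u_pp c d 0 0 (m := m)
  rw [h, h2] at h1
  have := pp_inj h1
  simp at this
  exact ⟨this.1.symm, this.2.symm⟩

theorem u_smul_zero (a b : F) : u m a b • pzero F m = pp m a b := by
  rw [u_pp, zero_add, zero_add, mul_zero, add_zero]

theorem sg_j_ne (j : Fˣ) : sg F m (j : F) ≠ 0 := by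
  rw [Ne, sg_eq_zero]; exact j.ne_zero

theorem j_eq_one_of_sg {j : Fˣ} (h : sg F m (j : F) = 1) : j = 1 := by
  apply Units.ext
  apply sg_inj (m := m)
  rw [h, Units.val_one, map_one]

theorem j_eq_one_of_sg2 {j : Fˣ} (h : sg F m (j : F) * (j : F) ^ 2 = 1) : j = 1 := by
  have h1 : sg F m (sg F m (j : F) * (j : F) ^ 2) = 1 := by rw [h, map_one]
  rw [map_mul, map_pow, sg_sg] at h1
  have h2 : ((j : F) * sg F m (j : F) - 1) ^ 2 = 0 := by
    have h3 := two0 ((j : F) * sg F m (j : F))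
    have h4 := two0 (1 : F)
    linear_combination h1 - h3 + h4
  have h5 : (j : F) * sg F m (j : F) = 1 := sub_eq_zero.1 (pow_eq_zero_iff (two_ne_zero) |>.1 h2)
  apply Units.ext
  rw [Units.val_one]
  have : (j : F) = (j : F) * (j * sg F m (j : F)) := by rw [h5, mul_one]
  rw [this]
  linear_combination h

theorem hh_fix {j : Fˣ} {x y : F} (h : hh m j • pp m x y = pp m x y) : j = 1 ∨ (x = 0 ∧ y = 0) := by
  rw [hh_pp] at h
  obtain ⟨h1, h2⟩ := pp_inj h
  by_cases hj : j = 1
  · exact Or.inl hj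
  right
  constructor
  · by_contra hx
    exact hj (j_eq_one_of_sg (mul_right_cancel₀ hx (h1.trans (one_mul x).symm)))
  · by_contra hy
    exact hj (j_eq_one_of_sg2 (mul_right_cancel₀ hy (h2.trans (one_mul y).symm)))

theorem hh_inj {i j : Fˣ} (h : hh m i = hh m j) : i = j := by
  have h1 : hh m (i * j⁻¹) = 1 := by rw [hh_mul, ← hh_inv, h, mul_inv_cancel]
  have h2 : hh m (i * j⁻¹) • pp m (1 : F) 0 = pp m 1 0 := by rw [h1, one_smul]
  rcases hh_fix h2 with h3 | h3
  · exact mul_inv_eq_one.1 h3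
  · exact absurd h3.1 one_ne_zero

section
variable [hm : Fact (1 ≤ m)]

theorem fix_two' {g : Gz F m} (h1 : g • pinf F m = pinf F m) (h2 : g • pzero F m = pzero F m) :
    ∃ j, g = hh m j := by
  obtain ⟨j, hj⟩ := fix_two hm.1 g.2 (congrArg Subtype.val h1) (congrArg Subtype.val h2)
  exact ⟨j, Subtype.ext hj⟩

theorem stab_inf {g : Gz F m} (h : g • pinf F m = pinf F m) : ∃ a b j, g = u m a b * hh m j := by
  have h1 : g • pzero F m ≠ pinf F m := by
    intro h'
    rw [← h] at h'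
    exact pp_ne_inf 0 0 (smul_left_cancel g h')
  obtain ⟨a, b, hab⟩ := exists_pp h1
  obtain ⟨j, hj⟩ := fix_two' (g := (u m a b)⁻¹ * g) (by
    rw [mul_smul, h, inv_smul_eq_iff, u_inf]) (by
    rw [mul_smul, hab, inv_smul_eq_iff, u_smul_zero])
  exact ⟨a, b, j, by rw [← hj, mul_inv_cancel_left]⟩

theorem uh_inj {a b c d : F} {i j : Fˣ} (h : u m a b * hh m i = u m c d * hh m j) :
    a = c ∧ b = d ∧ i = j := by
  have h1 : (u m a b * hh m i) • pzero F m = pp m a b := by
    rw [mul_smul, hh_pp, mul_zero, mul_zero, u_smul_zero]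
  have h2 : (u m c d * hh m j) • pzero F m = pp m c d := by
    rw [mul_smul, hh_pp, mul_zero, mul_zero, u_smul_zero]
  rw [h, h2] at h1
  obtain ⟨rfl, rfl⟩ := pp_inj h1
  exact ⟨rfl, rfl, hh_inj (mul_left_cancel h)⟩

omit hm in
theorem exists_to_inf (p : Om F m) : ∃ g : Gz F m, g • p = pinf F m := by
  by_cases h : p = pinf F m
  · exact ⟨1, by rw [h, one_smul]⟩
  · obtain ⟨x, y, rfl⟩ := exists_pp h
    refine ⟨ww F m * (u m x y)⁻¹, ?_⟩
    rw [mul_smul, ← u_smul_zero x y, inv_smul_smul, ww_zero]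

omit hm in
theorem exists_to_two {p q : Om F m} (h : p ≠ q) :
    ∃ g : Gz F m, g • p = pinf F m ∧ g • q = pzero F m := by
  obtain ⟨g, hg⟩ := exists_to_inf p
  have h1 : g • q ≠ pinf F m := fun h' => h (smul_left_cancel g (hg.trans h'.symm))
  obtain ⟨x, y, hxy⟩ := exists_pp h1
  refine ⟨(u m x y)⁻¹ * g, ?_, ?_⟩
  · rw [mul_smul, hg, inv_smul_eq_iff, u_inf]
  · rw [mul_smul, hxy, inv_smul_eq_iff, u_smul_zero]

omit hm in
instance isTwoTrans : MulAction.IsMultiplyPretransitive (Gz F m) (Om F m) 2 := by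
  rw [MulAction.is_two_pretransitive_iff]
  intro a b c d h1 h2
  obtain ⟨g, hg1, hg2⟩ := exists_to_two h1
  obtain ⟨k, hk1, hk2⟩ := exists_to_two h2
  refine ⟨k⁻¹ * g, ?_, ?_⟩
  · rw [mul_smul, hg1, ← hk1, inv_smul_smul]
  · rw [mul_smul, hg2, ← hk2, inv_smul_smul]

theorem eq_one_of_three {g : Gz F m} {a b c : Om F m} (hab : a ≠ b) (hbc : b ≠ c) (hac : a ≠ c)
    (ha : g • a = a) (hb : g • b = b) (hc : g • c = c) : g = 1 := by
  obtain ⟨k, hk1, hk2⟩ := exists_to_two hab
  obtain ⟨j, hj⟩ := fix_two' (g := k * g * k⁻¹) (by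
    rw [← hk1, mul_smul, mul_smul, inv_smul_smul, ha]) (by
    rw [← hk2, mul_smul, mul_smul, inv_smul_smul, hb])
  have h1 : k • c ≠ pinf F m := fun h => hac (smul_left_cancel k (hk1.trans h.symm))
  obtain ⟨x, y, hxy⟩ := exists_pp h1
  have h2 : hh m j • pp m x y = pp m x y := by
    rw [← hj, ← hxy, mul_smul, mul_smul, inv_smul_smul, hc]
  rcases hh_fix h2 with h3 | ⟨rfl, rfl⟩
  · rw [h3, hh_one] at hj
    have : k * g = k := by rw [mul_inv_eq_iff_eq_mul, one_mul] at hj; exact hj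
    exact mul_eq_left.1 this
  · exact absurd (smul_left_cancel k (hk2.trans hxy.symm)) hbc

instance isFaithful : FaithfulSMul (Gz F m) (Om F m) := by
  refine ⟨fun {g k} h => ?_⟩
  have h1 : ∀ p : Om F m, (k⁻¹ * g) • p = p := fun p => by rw [mul_smul, h p, inv_smul_smul]
  have h2 : k⁻¹ * g = 1 := eq_one_of_three (a := pinf F m) (b := pzero F m) (c := pp m 1 0)
    (pp_ne_inf _ _).symm (fun h => zero_ne_one (pp_inj h).1) (pp_ne_inf _ _).symm (h1 _) (h1 _) (h1 _)
  exact (inv_mul_eq_one.1 h2).symm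

/-- trichotomy of the elements -/
theorem tri (g : Gz F m) :
    (∃ (x : Gz F m) (a b : F), g = x * u m a b * x⁻¹) ∨ (∃ (x : Gz F m) (j : Fˣ), j ≠ 1 ∧
      g = x * hh m j * x⁻¹) ∨ ∀ p : Om F m, g • p ≠ p := by
  by_cases h : ∀ p : Om F m, g • p ≠ p
  · exact Or.inr (Or.inr h)
  push Not at h
  obtain ⟨p, hp⟩ := h
  obtain ⟨k, hk⟩ := exists_to_inf p
  have h1 : (k * g * k⁻¹) • pinf F m = pinf F m := by
    rw [← hk, mul_smul, mul_smul, inv_smul_smul, hp]
  obtain ⟨a, b, j, hj⟩ := stab_inf h1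
  by_cases hj1 : j = 1
  · left
    refine ⟨k⁻¹, a, b, ?_⟩
    rw [hj1, hh_one, mul_one] at hj
    rw [← hj]; group
  · right; left
    -- a second fixed point
    have e1 : sg F m (j : F) + 1 ≠ 0 := by
      intro h0
      apply hj1 (j_eq_one_of_sg (m := m) _)
      have := two0 (1 : F)
      linear_combination h0 - this
    have e2 : sg F m (j : F) * (j : F) ^ 2 + 1 ≠ 0 := by
      intro h0
      apply hj1 (j_eq_one_of_sg2 (m := m) _)
      have := two0 (1 : F)
      linear_combination h0 - this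
    obtain ⟨x, hx⟩ : ∃ x, x = a / (sg F m (j : F) + 1) := ⟨_, rfl⟩
    obtain ⟨y, hy⟩ : ∃ y, y = (b + sg F m a * (sg F m (j : F) * x)) /
      (sg F m (j : F) * (j : F) ^ 2 + 1) := ⟨_, rfl⟩
    have hx' : x * (sg F m (j : F) + 1) = a := by rw [hx]; field_simp
    have hy' : y * (sg F m (j : F) * (j : F) ^ 2 + 1) = b + sg F m a * (sg F m (j : F) * x) := by
      rw [hy]; field_simp
    have h2 : (u m a b * hh m j) • pp m x y = pp m x y := by
      rw [mul_smul, hh_pp, u_pp]
      congr 1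
      · have := two0 (x)
        have h4 := two0 (sg F m (j : F) * x)
        linear_combination -hx' + h4
      · have h4 := two0 (sg F m (j : F) * (j : F) ^ 2 * y)
        linear_combination -hy' + h4
    obtain ⟨i, hi⟩ := fix_two' (g := (u m x y)⁻¹ * (u m a b * hh m j) * u m x y) (by
      rw [mul_smul, mul_smul, mul_smul, u_inf, hh_inf, u_inf, inv_smul_eq_iff, u_inf]) (by
      rw [mul_smul, mul_smul, u_smul_zero, h2, inv_smul_eq_iff, u_smul_zero])
    refine ⟨k⁻¹ * u m x y, i, ?_, ?_⟩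
    · rintro rfl
      rw [hh_one] at hi
      have : u m a b * hh m j = 1 := by
        calc u m a b * hh m j = u m x y * ((u m x y)⁻¹ * (u m a b * hh m j) * u m x y) * (u m x y)⁻¹ := by
              group
          _ = 1 := by rw [hi]; group
      have h5 : u m a b * hh m j = u m 0 0 * hh m 1 := by rw [this, u_zero, hh_one, one_mul]
      exact hj1 (uh_inj h5).2.2
    · rw [← hi, ← hj]; group

end

end CfsgL.Sz
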