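import Cfsg.Agent.L.Sz.Lay3
import Cfsg.Agent.L.Sz.OddSub

/-! Subgroups of even order: the local data. -/

set_option autoImplicit false
set_option maxHeartbeats 400000

namespace CfsgL.Sz

open Subgroup CfsgL.Odd

/-- a group acting on a finite set with one fixed point and freely elsewhere -/
theorem dvd_pred {P X : Type*} [Group P] [MulAction P X] [Finite X] (x0 : X) (h0 : ∀ p : P, p • x0 = x0)
    (hf : ∀ p : P, p ≠ 1 → ∀ x : X, p • x = x → x = x0) : Nat.card P ∣ Nat.card X - 1 := by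
  classical
  let S : SubMulAction P X := {
    carrier := {x | x ≠ x0}
    smul_mem' := fun p x hx h => hx (by rw [← inv_smul_smul p x, h, h0]) }
  have h1 : ∀ x : S, MulAction.stabilizer P x = ⊥ := by
    intro x
    rw [eq_bot_iff]
    intro p hp
    rw [Subgroup.mem_bot]
    by_contra hne
    have h2 : p • x = x := hp
    exact x.2 (hf p hne x (congrArg Subtype.val h2))
  have e := MulAction.selfEquivOrbitsQuotientProd h1
  have h2 : Nat.card S = Nat.card X - 1 := by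
    haveI := Fintype.ofFinite X
    have h3 : Nat.card S = Nat.card {x : X // x ≠ x0} := rfl
    rw [h3, Nat.card_eq_fintype_card, Nat.card_eq_fintype_card, Fintype.card_subtype_compl, Fintype.card_subtype_eq]
  rw [← h2, Nat.card_congr e, Nat.card_prod]
  exact dvd_mul_left _ _

theorem conj_dvd {G : Type*} [Group G] (P X : Subgroup G) [Finite X] (hPX : ∀ p ∈ P, ∀ x ∈ X, p * x * p⁻¹ ∈ X)
    (hf : ∀ p ∈ P, p ≠ 1 → ∀ x ∈ X, p * x * p⁻¹ = x → x = 1) : Nat.card P ∣ Nat.card X - 1 := by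
  letI : MulAction P X := {
    smul := fun p x => ⟨p * x * (p : G)⁻¹, hPX p p.2 x x.2⟩
    one_smul := fun x => Subtype.ext (by change (1 : G) * x * (1 : G)⁻¹ = x; group)
    mul_smul := fun p q x => Subtype.ext (by
      change ((p : G) * q) * x * ((p : G) * q)⁻¹ = p * (q * x * (q : G)⁻¹) * (p : G)⁻¹; group) }
  have hs : ∀ (p : P) (x : X), ((p • x : X) : G) = p * x * (p : G)⁻¹ := fun _ _ => rfl
  refine dvd_pred (P := P) (X := X) 1 ?_ ?_
  · intro p
    apply Subtype.ext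
    rw [hs, coe_one]; group
  · intro p hp x hx
    apply Subtype.ext
    refine hf p p.2 (fun h => hp (Subtype.ext h)) x x.2 ?_
    rw [← hs, hx]

variable {F : Type*} [Field F] [Fintype F] {m : ℕ} [CharP F 2] [hF : Fact (Fintype.card F = 2 ^ (2 * m + 1))]
variable [hm : Fact (1 ≤ m)]

theorem conj_u_inj {x : Gz F m} {b : F} (hb : b ≠ 0) (h : x * u m 0 b * x⁻¹ ∈ BB F m) : x ∈ BB F m := by
  have h1 : u m 0 b • (x⁻¹ • pinf F m) = x⁻¹ • pinf F m := by
    rw [mem_BB] at h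
    have h2 : x⁻¹ • ((x * u m 0 b * x⁻¹) • pinf F m) = x⁻¹ • pinf F m := by rw [h]
    have e1 : x⁻¹ * (x * u m 0 b * x⁻¹) = u m 0 b * x⁻¹ := by group
    rw [← mul_smul, e1, mul_smul] at h2
    exact h2
  have h2 := u_fix (Or.inr hb) h1
  rw [mem_BB]
  rw [inv_smul_eq_iff] at h2
  exact h2.symm

/-- the normalized local data of a subgroup of even order -/
structure Std1 (M : Subgroup (Gz F m)) (j : Fˣ) (b : F) : Prop where
  hb : b ≠ 0
  hbM : u m 0 b ∈ M
  hj : hh m j ∈ M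
  dec : ∀ g ∈ M, g ∈ BB F m → ∃ (x y : F) (k : ℕ), g = u m x y * hh m (j ^ k)
  nb : ¬ M ≤ BB F m

variable {M : Subgroup (Gz F m)} {j : Fˣ} {b : F}

/-- Sylow subgroup inside `M` -/
abbrev Qs (M : Subgroup (Gz F m)) : Subgroup M := (QQ F m).subgroupOf M
abbrev Bs (M : Subgroup (Gz F m)) : Subgroup M := (BB F m).subgroupOf M
abbrev Zs (M : Subgroup (Gz F m)) : Subgroup M := (ZQ F m).subgroupOf M

theorem Std1.normQ (S : Std1 M j b) : normalizer (Qs M : Set M) = Bs M := by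
  ext x
  rw [mem_subgroupOf, mem_nrm]
  constructor
  · intro h
    have h1 := (h ⟨_, S.hbM⟩).1 (mem_subgroupOf.2 (u_mem_QQ 0 b))
    rw [mem_subgroupOf] at h1
    exact conj_u_inj S.hb (QQ_le_BB h1)
  · intro h t
    rw [mem_subgroupOf, mem_subgroupOf]
    constructor
    · intro ht; exact QQ_norm_conj h ht
    · intro ht
      have h1 := QQ_norm_conj (inv_mem h) ht
      have h2 : (x : Gz F m)⁻¹ * ((x * t * x⁻¹ : M) : Gz F m) * (x : Gz F m)⁻¹⁻¹ = t := by
        rw [coe_mul, coe_mul, coe_inv]; group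
      rwa [h2] at h1

theorem ZQ_conj_BB {x t : Gz F m} (hx : x ∈ BB F m) (ht : t ∈ ZQ F m) : x * t * x⁻¹ ∈ ZQ F m := by
  obtain ⟨c, d, i, rfl⟩ := mem_BB'.1 hx
  obtain ⟨e, rfl⟩ := ht
  have h1 : u m c d * hh m i * u m 0 e * (u m c d * hh m i)⁻¹ = u m 0 (sg F m i * i ^ 2 * e) := by
    rw [mul_inv_eq_iff_eq_mul, mul_assoc, hh_u, mul_zero, ← mul_assoc, ← mul_assoc, u_mul, u_mul]
    congr 2
    · ring
    · rw [map_zero]; ring
  rw [h1]
  exact ⟨_, rfl⟩

theorem Std1.normZ (S : Std1 M j b) : normalizer (Zs M : Set M) = Bs M := by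
  ext x
  rw [mem_subgroupOf, mem_nrm]
  constructor
  · intro h
    have h1 := (h ⟨_, S.hbM⟩).1 (mem_subgroupOf.2 ⟨b, rfl⟩)
    rw [mem_subgroupOf] at h1
    exact conj_u_inj S.hb (QQ_le_BB (ZQ_le_QQ h1))
  · intro h t
    rw [mem_subgroupOf, mem_subgroupOf]
    constructor
    · intro ht; exact ZQ_conj_BB h ht
    · intro ht
      have h1 := ZQ_conj_BB (inv_mem h) ht
      have h2 : (x : Gz F m)⁻¹ * ((x * t * x⁻¹ : M) : Gz F m) * (x : Gz F m)⁻¹⁻¹ = t := by
        rw [coe_mul, coe_mul, coe_inv]; group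
      rwa [h2] at h1

theorem Std1.cc_Q (S : Std1 M j b) : (cc (Qs M)).ncard = (Bs M).index * (Nat.card (Qs M) - 1) := by
  rw [card_cc (Qs M), S.normQ]
  intro x t ht ht1 hx
  rw [S.normQ]
  exact QQ_ti _ _ ht (fun h => ht1 (Subtype.ext h)) hx

theorem Std1.cc_Z (S : Std1 M j b) : (cc (Zs M)).ncard = (Bs M).index * (Nat.card (Zs M) - 1) := by
  rw [card_cc (Zs M), S.normZ]
  intro x t ht ht1 hx
  rw [S.normZ]
  exact QQ_ti _ _ (ZQ_le_QQ ht) (fun h => ht1 (Subtype.ext h)) (ZQ_le_QQ hx)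

theorem Std1.idx (S : Std1 M j b) : ∃ t, t ≠ 0 ∧ (Bs M).index = 1 + Nat.card (Qs M) * t := by
  have h1 : Nat.card (Qs M) ∣ Nat.card (M ⧸ Bs M) - 1 := by
    refine dvd_pred ((1 : M) : M ⧸ Bs M) ?_ ?_
    · intro p
      change (((p : M) * 1 : M) : M ⧸ Bs M) = ((1 : M) : M ⧸ Bs M)
      rw [mul_one, eq_comm, QuotientGroup.eq, inv_one, one_mul, mem_subgroupOf]
      exact QQ_le_BB p.2
    · intro p hp x
      obtain ⟨y, rfl⟩ := QuotientGroup.mk_surjective x
      intro h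
      change (((p : M) * y : M) : M ⧸ Bs M) = (y : M ⧸ Bs M) at h
      rw [eq_comm, QuotientGroup.eq, mem_subgroupOf, mem_BB] at h
      rw [eq_comm, QuotientGroup.eq, inv_one, one_mul, mem_subgroupOf, mem_BB]
      obtain ⟨c, d, hcd⟩ := mem_QQ.1 (mem_subgroupOf.1 p.2)
      have h2 : ((p : M) : Gz F m) • ((y : Gz F m) • pinf F m) = (y : Gz F m) • pinf F m := by
        have h3 : ((y⁻¹ * ((p : M) * y) : M) : Gz F m) = (y : Gz F m)⁻¹ * ((p : M) : Gz F m) * y := by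
          rw [coe_mul, coe_mul, coe_inv, mul_assoc]
        rw [h3, mul_smul, mul_smul, inv_smul_eq_iff] at h
        exact h
      rw [hcd] at h2
      refine u_fix ?_ h2
      by_contra hcon
      push Not at hcon
      rw [hcon.1, hcon.2, u_zero] at hcd
      exact hp (Subtype.ext (Subtype.ext hcd))
  obtain ⟨t, ht⟩ := h1
  have h2 : Nat.card (M ⧸ Bs M) = (Bs M).index := rfl
  have h3 : 0 < (Bs M).index := Nat.pos_of_ne_zero FiniteIndex.index_ne_zero
  have h4 : (Bs M).index ≠ 1 := by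
    intro h
    rw [index_eq_one, subgroupOf_eq_top] at h
    exact S.nb h
  refine ⟨t, ?_, ?_⟩
  · rintro rfl
    omega
  · omega

theorem Std1.card_B (S : Std1 M j b) : Nat.card (Bs M) = Nat.card (Qs M) * orderOf j := by
  rw [← Nat.card_zpowers, ← Nat.card_prod]
  symm
  apply Nat.card_congr
  have hz : ∀ i : zpowers j, hh m (i : Fˣ) ∈ M := by
    rintro ⟨i, k, rfl⟩
    have h1 : hh m (j ^ k) = (hh m j) ^ k := map_zpow hhom j k
    change hh m (j ^ k) ∈ M
    rw [h1]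
    exact zpow_mem S.hj k
  have hhB : ∀ i : Fˣ, hh m i ∈ BB F m := fun i => KK_le_BB (mem_KK.2 ⟨i, rfl⟩)
  refine Equiv.ofBijective (fun p : Qs M × zpowers j => (⟨p.1.1 * ⟨hh m (p.2 : Fˣ), hz p.2⟩, ?_⟩ : Bs M)) ⟨?_, ?_⟩
  · rw [mem_subgroupOf]
    exact mul_mem (QQ_le_BB p.1.2) (hhB _)
  · rintro ⟨⟨⟨x, hxM⟩, hxQ⟩, i⟩ ⟨⟨⟨y, hyM⟩, hyQ⟩, k⟩ h
    have h1 : x * hh m (i : Fˣ) = y * hh m (k : Fˣ) := congrArg (fun z : Bs M => ((z : M) : Gz F m)) h
    obtain ⟨c, d, rfl⟩ := mem_QQ.1 (mem_subgroupOf.1 hxQ)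
    obtain ⟨e, f, rfl⟩ := mem_QQ.1 (mem_subgroupOf.1 hyQ)
    obtain ⟨h2, h3, h4⟩ := uh_inj h1
    subst h2 h3
    rw [Subtype.ext h4]
  · rintro ⟨⟨g, hgM⟩, hgB⟩
    obtain ⟨x, y, k, hk⟩ := S.dec g hgM hgB
    have h1 : u m x y ∈ M := by
      have h2 := hz ⟨j ^ k, k, zpow_natCast _ _⟩
      have h3 : u m x y = g * (hh m (j ^ k))⁻¹ := by rw [hk]; group
      rw [h3]
      exact mul_mem hgM (inv_mem h2)
    refine ⟨(⟨⟨u m x y, h1⟩, mem_subgroupOf.2 (u_mem_QQ _ _)⟩, ⟨j ^ k, k, zpow_natCast _ _⟩), ?_⟩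
    apply Subtype.ext
    apply Subtype.ext
    exact hk.symm

theorem pgroup_Qs : IsPGroup 2 (Qs M) := isPGroup_QQ.comap_of_injective _ M.subtype_injective

theorem Std1.two_le (S : Std1 M j b) : 2 ≤ Nat.card (Qs M) := by
  have h1 : 1 < Nat.card (Qs M) := by
    rw [Finite.one_lt_card_iff_nontrivial]
    refine ⟨⟨⟨_, S.hbM⟩, mem_subgroupOf.2 (u_mem_QQ 0 b)⟩, 1, fun h => ?_⟩
    have h2 : u m 0 b = 1 := congrArg (fun z : Qs M => ((z : M) : Gz F m)) h
    exact S.hb (u_ne_one h2).2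
  omega

theorem Std1.pow (_ : Std1 M j b) : ∃ e, Nat.card (Qs M) = 2 ^ e := IsPGroup.iff_card.1 pgroup_Qs

variable (m) in
include m hF hm in
theorem orderOf_unit_odd (j : Fˣ) : Odd (orderOf j) := by
  have h1 : orderOf j ∣ Nat.card Fˣ := orderOf_dvd_natCard j
  rw [Nat.card_units] at h1
  have h2 : Odd (Nat.card F - 1) := by
    obtain ⟨s, hs⟩ := card_F_even (F := F) (m := m)
    have h8 := card_F_ge (F := F) (m := m)
    exact ⟨s - 1, by omega⟩
  exact h2.of_dvd_nat h1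

theorem even_Qs (S : Std1 M j b) : Even (Nat.card (Qs M)) := by
  obtain ⟨e, he⟩ := S.pow
  have h2 := S.two_le
  rw [he] at h2 ⊢
  rcases e with _ | e
  · simp at h2
  · rw [pow_succ]; exact even_two.mul_left _

theorem Std1.lay (S : Std1 M j b) : Lay (Qs M) (Bs M) (Nat.card (Qs M)) (orderOf j) (Bs M).index := by
  have hcM : Nat.card M = Nat.card (Qs M) * orderOf j * (Bs M).index := by
    rw [← index_mul_card (Bs M), S.card_B, mul_comm]
  obtain ⟨t, ht0, ht⟩ := S.idx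
  have hoD : Odd (Bs M).index := by
    rw [ht]
    exact Even.one_add ((even_Qs S).mul_right t)
  have hoh := orderOf_unit_odd m j
  have hidx : ¬ 2 ∣ (Qs M).index := by
    have h1 := index_mul_card (Qs M)
    rw [hcM] at h1
    have h2 : (Qs M).index = orderOf j * (Bs M).index := by
      apply Nat.eq_of_mul_eq_mul_right (Nat.card_pos (α := Qs M))
      rw [h1]; ring
    rw [h2]
    intro h
    have := (hoh.mul hoD)
    rw [← Nat.not_even_iff_odd] at this
    exact this (even_iff_two_dvd.2 h)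
  refine ⟨oddCent_sub M, hcM, S.cc_Q, ?_, ?_, S.two_le, S.pow, hoD, hoh, ?_⟩
  · intro g hg
    have hg' : (g : Gz F m) ≠ 1 := fun h => hg (Subtype.ext h)
    rcases cent_tri hg' with ⟨x, hx⟩ | ⟨-, hcard⟩
    · left
      have h4 := order_QQ hx
      rw [orderOf_coe] at h4
      let P : Sylow 2 M := (pgroup_Qs (M := M)).toSylow hidx
      have hP : (P : Subgroup M) = Qs M := rfl
      have h5 : IsPGroup 2 (zpowers g) := by
        have h6 : orderOf g ∣ 2 ^ 2 := h4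
        obtain ⟨k, -, hk⟩ := (Nat.dvd_prime_pow Nat.prime_two).1 h6
        rw [IsPGroup.iff_card]
        exact ⟨k, by rw [Nat.card_zpowers, hk]⟩
      obtain ⟨P', hP'⟩ := h5.exists_le_sylow
      obtain ⟨y, hy⟩ := MulAction.exists_smul_eq M P' P
      refine ⟨hg, y, ?_⟩
      rw [← hP, ← hy]
      change y * g * y⁻¹ ∈ ((y • P' : Sylow 2 M) : Subgroup M)
      rw [Sylow.coe_subgroup_smul, Subgroup.mem_pointwise_smul_iff_inv_smul_mem, ← map_inv]
      change y⁻¹ * (y * g * y⁻¹) * y⁻¹⁻¹ ∈ P'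
      have h2 : y⁻¹ * (y * g * y⁻¹) * y⁻¹⁻¹ = g := by group
      rw [h2]
      exact hP' (mem_zpowers g)
    · right
      rw [← orderOf_coe]
      have h1 : Even (2 ^ (m + 1)) := by rw [pow_succ]; exact even_two.mul_left _
      obtain ⟨r, hr'⟩ := h1
      obtain ⟨s, hs⟩ := card_F_even (F := F) (m := m)
      have h8 := card_F_ge (F := F) (m := m)
      have h9 : Odd (Nat.card (centralizer {(g : Gz F m)})) := by
        rcases hcard with h | ⟨-, h | h⟩
        · exact ⟨s - 1, by omega⟩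
        · exact ⟨s + r, by omega⟩
        · exact ⟨s - r, by omega⟩
      exact h9.of_dvd_nat (Subgroup.orderOf_dvd_natCard _ (mem_centralizer_singleton_iff.2 rfl))
  · rintro g ⟨hg, x, hx⟩ ho
    have h1 : (x : Gz F m) * g * (x : Gz F m)⁻¹ ∈ QQ F m := hx
    refine odd_not_QQ (fun h => hg (Subtype.ext h)) ?_ h1
    rwa [orderOf_coe]
  · rw [ht]
    have h2 := S.two_le
    have : 1 ≤ Nat.card (Qs M) * t := Nat.mul_pos (by omega) (Nat.pos_of_ne_zero ht0)
    omega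

theorem norm_of_component {g : M} (hg : g ≠ 1) (ho : Odd (orderOf g))
    (h : normalizer ((centralizer {g} : Subgroup M) : Set M) = ⊤) :
    M ≤ normalizer ((centralizer {(g : Gz F m)} : Subgroup (Gz F m)) : Set (Gz F m)) := by
  intro x hx
  have hg' : (g : Gz F m) ≠ 1 := fun h => hg (Subtype.ext h)
  have ho' : Odd (orderOf (g : Gz F m)) := by rwa [orderOf_coe]
  have h1 : (⟨x, hx⟩ : M) ∈ normalizer ((centralizer {g} : Subgroup M) : Set M) := by rw [h]; trivial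
  rw [mem_nrm] at h1
  have h2 := (h1 g).1 (mem_centralizer_singleton_iff.2 rfl)
  rw [mem_centralizer_singleton_iff] at h2
  have h3 : x * (g : Gz F m) * x⁻¹ ∈ centralizer {(g : Gz F m)} := by
    rw [mem_centralizer_singleton_iff]
    exact congrArg Subtype.val h2
  have hne : x * (g : Gz F m) * x⁻¹ ≠ 1 := by
    intro h2
    apply hg'
    calc (g : Gz F m) = x⁻¹ * (x * g * x⁻¹) * x := by group
      _ = 1 := by rw [h2]; group
  have h4 := cent_eq_of_odd hg' ho' h3 hne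
  rw [mem_nrm]
  intro t
  have h5 : x * t * x⁻¹ ∈ centralizer {(g : Gz F m)} ↔
    x * t * x⁻¹ ∈ centralizer {x * (g : Gz F m) * x⁻¹} := by rw [h4]
  rw [h5, mem_conj_cent]
  have h6 : x⁻¹ * (x * t * x⁻¹) * x = t := by group
  rw [h6]

theorem Std1.case_one (S : Std1 M j b) (hj : j = 1) :
    ∃ g : Gz F m, g ≠ 1 ∧ Odd (orderOf g) ∧ M ≤ normalizer ((centralizer {g} : Subgroup (Gz F m)) : Set (Gz F m)) := by
  obtain ⟨C, ⟨g, hg, ho, rfl⟩, hC⟩ := S.lay.normal (by rw [hj, orderOf_one])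
  exact ⟨g, fun h => hg (Subtype.ext h), by rwa [orderOf_coe], norm_of_component hg ho hC⟩

end CfsgL.Sz
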