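import Cfsg.Agent.L.Sz.Sub1
import Cfsg.Agent.L.Sz.Fix2

/-! Subgroups of even order with a nontrivial torus: the orders. -/

set_option autoImplicit false
set_option maxHeartbeats 400000

namespace CfsgL.Sz

open Subgroup CfsgL.Odd

variable {F : Type*} [Field F] [Fintype F] {m : ℕ} [CharP F 2] [hF : Fact (Fintype.card F = 2 ^ (2 * m + 1))]
variable [hm : Fact (1 ≤ m)]
variable {M : Subgroup (Gz F m)} {j : Fˣ} {b : F}

/-- the torus of `M` -/
abbrev Ks (S : Std1 M j b) : Subgroup M := centralizer {(⟨hh m j, S.hj⟩ : M)}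

theorem orderOf_hh (j : Fˣ) : orderOf (hh m j) = orderOf j := orderOf_injective (hhom (F := F) (m := m)) hhom_inj j

theorem mem_Ks (S : Std1 M j b) (hj : j ≠ 1) {x : M} : x ∈ Ks S ↔ ∃ i, (x : Gz F m) = hh m i := by
  rw [Ks, cent_sub, mem_subgroupOf, cent_hh hj, mem_KK]

theorem hh_ne_one {j : Fˣ} (hj : j ≠ 1) : hh m j ≠ 1 := fun h => hj (hh_inj (h.trans hh_one.symm))

theorem Ks_cm (S : Std1 M j b) (hj : j ≠ 1) : Cm (Ks S) := by
  refine ⟨_, ?_, ?_, rfl⟩
  · intro h; exact hh_ne_one hj (congrArg Subtype.val h)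
  · rw [← orderOf_coe]
    change Odd (orderOf (hh m j))
    rw [orderOf_hh]
    exact orderOf_unit_odd m j

theorem hh_mem (S : Std1 M j b) {i : Fˣ} (hi : hh m i ∈ M) : i ∈ zpowers j := by
  obtain ⟨x, y, k, hk⟩ := S.dec _ hi (KK_le_BB (mem_KK.2 ⟨i, rfl⟩))
  have h1 : u m 0 0 * hh m i = u m x y * hh m (j ^ k) := by rw [u_zero, one_mul, hk]
  obtain ⟨-, -, h2⟩ := uh_inj h1
  rw [h2]
  exact ⟨k, zpow_natCast _ _⟩

theorem card_Ks (S : Std1 M j b) (hj : j ≠ 1) : Nat.card (Ks S) = orderOf j := by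
  have h1 : Ks S = zpowers (⟨hh m j, S.hj⟩ : M) := by
    apply le_antisymm
    · intro x hx
      obtain ⟨i, hi⟩ := (mem_Ks S hj).1 hx
      have h2 : hh m i ∈ M := by rw [← hi]; exact x.2
      obtain ⟨k, hk⟩ := hh_mem S h2
      refine ⟨k, ?_⟩
      apply Subtype.ext
      have hk' : j ^ k = i := hk
      have h3 : hh m (j ^ k) = (hh m j) ^ k := map_zpow hhom j k
      change (((⟨hh m j, S.hj⟩ : M) ^ k : M) : Gz F m) = x
      rw [hi, ← hk', h3, SubgroupClass.coe_zpow]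
    · rw [zpowers_le]
      exact mem_centralizer_singleton_iff.2 rfl
  rw [h1, Nat.card_zpowers, ← orderOf_coe]
  exact orderOf_hh j

theorem self_Ks (S : Std1 M j b) : (⟨hh m j, S.hj⟩ : M) ∈ Ks S := mem_centralizer_singleton_iff.2 rfl

theorem norm_Ks (S : Std1 M j b) (hj : j ≠ 1) {x : M} (hx : x ∈ normalizer (Ks S : Set M)) :
    (x : Gz F m) ∈ normalizer (KK F m : Set (Gz F m)) := by
  obtain ⟨s, hs⟩ : ∃ s : M, s = ⟨hh m j, S.hj⟩ := ⟨_, rfl⟩
  have h0 : s ∈ Ks S := by rw [hs]; exact self_Ks S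
  have h1 := (mem_nrm.1 hx s).1 h0
  have h2 := (mem_Ks S hj).1 h1
  obtain ⟨i, hi⟩ := h2
  rw [coe_mul, coe_mul, coe_inv] at hi
  have hs' : (s : Gz F m) = hh m j := by rw [hs]
  rw [hs'] at hi
  have h3 : (x : Gz F m) * hh m j * (x : Gz F m)⁻¹ ∈ KK F m := by
    rw [mem_KK]; exact ⟨i, hi⟩
  have h4 : hh m j ∈ KK F m := mem_KK.2 ⟨j, rfl⟩
  exact KK_ti (x : Gz F m) (hh m j) h4 (hh_ne_one hj) h3

theorem norm_Ks_card (S : Std1 M j b) (hj : j ≠ 1) :
    ∃ n, (n = 1 ∨ n = 2) ∧ Nat.card (normalizer (Ks S : Set M)) = n * orderOf j := by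
  obtain ⟨g, hg, hgo, hKg⟩ := Ks_cm S hj
  obtain ⟨n, hn, hN⟩ := (oddCent_sub M).norm g hg hgo
  rw [← hKg, card_Ks S hj] at hN
  have h1 : Nat.card (normalizer (Ks S : Set M)) ∣ 2 * (Nat.card F - 1) := by
    have h2 : normalizer (Ks S : Set M) ≤ (normalizer (KK F m : Set (Gz F m))).subgroupOf M :=
      fun x hx => norm_Ks S hj hx
    refine (card_dvd_of_le h2).trans ?_
    rw [← card_norm_KK (F := F) (m := m)]
    exact card_comap_dvd_of_injective _ M.subtype M.subtype_injective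
  refine ⟨n, ?_, hN⟩
  rcases hn with rfl | rfl | rfl
  · exact Or.inl rfl
  · exact Or.inr rfl
  · exfalso
    rw [hN] at h1
    have h3 : 4 ∣ 2 * (Nat.card F - 1) := (dvd_mul_right _ _).trans h1
    obtain ⟨s, hs⟩ := card_F_even (F := F) (m := m)
    have h8 := card_F_ge (F := F) (m := m)
    omega

theorem Ks_BB (S : Std1 M j b) (hj : j ≠ 1) {x : M} (hx : x ∈ Ks S) : (x : Gz F m) ∈ BB F m := by
  obtain ⟨i, hi⟩ := (mem_Ks S hj).1 hx
  rw [hi]; exact KK_le_BB (mem_KK.2 ⟨i, rfl⟩)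

theorem Ks_free (S : Std1 M j b) (hj : j ≠ 1) {p x : M} (hp : p ∈ Ks S) (hp1 : p ≠ 1)
    (hx : (x : Gz F m) ∈ QQ F m) (h : p * x * p⁻¹ = x) : x = 1 := by
  by_contra hne
  have h1 : (p : Gz F m) * x = x * p := by
    rw [mul_inv_eq_iff_eq_mul] at h
    exact congrArg Subtype.val h
  have h2 := cent_QQ hx (fun h => hne (Subtype.ext h)) h1
  obtain ⟨i, hi⟩ := (mem_Ks S hj).1 hp
  obtain ⟨c, d, hcd⟩ := mem_QQ.1 h2
  have h3 : u m 0 0 * hh m i = u m c d * hh m 1 := by rw [u_zero, one_mul, hh_one, mul_one, ← hi, hcd]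
  obtain ⟨-, -, h4⟩ := uh_inj h3
  rw [h4, hh_one] at hi
  exact hp1 (Subtype.ext hi)

theorem h_dvd_Z (S : Std1 M j b) (hj : j ≠ 1) : orderOf j ∣ Nat.card (Zs M) - 1 := by
  rw [← card_Ks S hj]
  apply conj_dvd
  · intro p hp x hx
    rw [mem_subgroupOf] at hx ⊢
    exact ZQ_conj_BB (Ks_BB S hj hp) hx
  · intro p hp hp1 x hx h
    exact Ks_free S hj hp hp1 (ZQ_le_QQ (mem_subgroupOf.1 hx)) h

theorem h_dvd_Q (S : Std1 M j b) (hj : j ≠ 1) : orderOf j ∣ Nat.card (Qs M) - 1 := by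
  rw [← card_Ks S hj]
  apply conj_dvd
  · intro p hp x hx
    rw [mem_subgroupOf] at hx ⊢
    exact QQ_norm_conj (Ks_BB S hj hp) hx
  · intro p hp hp1 x hx h
    exact Ks_free S hj hp hp1 (mem_subgroupOf.1 hx) h

theorem Zs_two (S : Std1 M j b) : 2 ≤ Nat.card (Zs M) := by
  have h1 : 1 < Nat.card (Zs M) := by
    rw [Finite.one_lt_card_iff_nontrivial]
    refine ⟨⟨⟨_, S.hbM⟩, mem_subgroupOf.2 ⟨b, rfl⟩⟩, 1, fun h => ?_⟩
    have h2 : u m 0 b = 1 := congrArg (fun z : Zs M => ((z : M) : Gz F m)) h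
    exact S.hb (u_ne_one h2).2
  omega

theorem sgmul_inj {a c : F} (h : sg F m a * a = sg F m c * c) : a = c :=
  (Finite.injective_iff_surjective.2 (fun b => surj_sgmul (m := m) b) : Function.Injective (fun a : F => sg F m a * a)) h

/-- `|Q| ≤ |Z|²` -/
theorem Qs_le : Nat.card (Qs M) ≤ Nat.card (Zs M) ^ 2 := by
  classical
  let rep : Gz F m → Gz F m := fun z => if h : ∃ y ∈ M, y ∈ QQ F m ∧ y * y = z then h.choose else 1
  have hrep : ∀ x ∈ M, x ∈ QQ F m → rep (x * x) ∈ M ∧ rep (x * x) ∈ QQ F m ∧ rep (x * x) * rep (x * x) = x * x := by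
    intro x hx hxQ
    have h : ∃ y ∈ M, y ∈ QQ F m ∧ y * y = x * x := ⟨x, hx, hxQ, rfl⟩
    have h1 : rep (x * x) = h.choose := dif_pos h
    rw [h1]
    exact h.choose_spec
  have hsqZ : ∀ x ∈ QQ F m, x * x ∈ ZQ F m := by
    rintro x ⟨c, d, rfl⟩
    rw [u_sq]; exact ⟨_, rfl⟩
  have hdiff : ∀ x ∈ M, x ∈ QQ F m → x * (rep (x * x))⁻¹ ∈ ZQ F m := by
    intro x hx hxQ
    obtain ⟨-, h2, h3⟩ := hrep x hx hxQ
    obtain ⟨c, d, hcd⟩ := hxQ
    obtain ⟨e, f, hef⟩ := h2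
    rw [hef, hcd, u_sq, u_sq] at h3
    have h4 := sgmul_inj (u_inj h3).2
    rw [hef, hcd, h4, u_inv, u_mul, two0]
    exact ⟨_, rfl⟩
  rw [pow_two, ← Nat.card_prod]
  refine Nat.card_le_card_of_injective (fun x : Qs M =>
    ((⟨x.1 * x.1, ?_⟩ : Zs M), (⟨⟨((x : M) : Gz F m) * (rep (((x : M) : Gz F m) * ((x : M) : Gz F m)))⁻¹, ?_⟩, ?_⟩ : Zs M))) ?_
  · rw [mem_subgroupOf]
    exact hsqZ _ x.2
  · exact mul_mem x.1.2 (inv_mem (hrep _ x.1.2 x.2).1)
  · rw [mem_subgroupOf]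
    exact hdiff _ x.1.2 x.2
  · intro x y h
    have h1 : ((x : M) : Gz F m) * ((x : M) : Gz F m) = ((y : M) : Gz F m) * ((y : M) : Gz F m) :=
      congrArg (fun z : Zs M × Zs M => ((z.1 : M) : Gz F m)) h
    have h2 : ((x : M) : Gz F m) * (rep (((x : M) : Gz F m) * ((x : M) : Gz F m)))⁻¹ =
        ((y : M) : Gz F m) * (rep (((y : M) : Gz F m) * ((y : M) : Gz F m)))⁻¹ :=
      congrArg (fun z : Zs M × Zs M => ((z.2 : M) : Gz F m)) h
    rw [h1] at h2
    exact Subtype.ext (Subtype.ext (mul_right_cancel h2))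

/-- the involutions of `M` -/
theorem invol_eq (S : Std1 M j b) {x : M} : x ∈ cc (Zs M) ↔ x ≠ 1 ∧ x * x = 1 := by
  constructor
  · rintro ⟨hx, y, hy⟩
    refine ⟨hx, ?_⟩
    obtain ⟨d, hd⟩ := mem_ZQ.1 (mem_subgroupOf.1 hy)
    have h1 : (y : Gz F m) * x * (y : Gz F m)⁻¹ = u m 0 d := hd
    apply Subtype.ext
    change (x : Gz F m) * x = 1
    have h2 : (x : Gz F m) = (y : Gz F m)⁻¹ * u m 0 d * y := by rw [← h1]; group
    have h3 : u m (0 : F) d * u m 0 d = 1 := by rw [u_sq, map_zero, mul_zero, u_zero]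
    calc (x : Gz F m) * x = (y : Gz F m)⁻¹ * (u m 0 d * u m 0 d) * y := by rw [h2]; group
      _ = 1 := by rw [h3]; group
  · rintro ⟨hx, hxx⟩
    have h1 := S.lay.cov x hx
    rcases h1 with ⟨-, y, hy⟩ | ho
    · refine ⟨hx, y, ?_⟩
      obtain ⟨c, d, hcd⟩ := mem_QQ.1 (mem_subgroupOf.1 hy)
      rw [mem_subgroupOf, hcd]
      have h2 : u m c d * u m c d = 1 := by
        rw [← hcd]
        have h3 : (y * x * y⁻¹) * (y * x * y⁻¹) = 1 := by
          calc (y * x * y⁻¹) * (y * x * y⁻¹) = y * (x * x) * y⁻¹ := by group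
            _ = 1 := by rw [hxx]; group
        exact congrArg Subtype.val h3
      rw [u_sq] at h2
      have h3 := (u_ne_one h2).2
      have h4 : c = 0 := by
        rcases mul_eq_zero.1 h3 with h | h
        · exact sg_eq_zero.1 h
        · exact h
      rw [h4]; exact ⟨_, rfl⟩
    · exfalso
      have h2 : orderOf x ∣ 2 := orderOf_dvd_of_pow_eq_one (by rw [pow_two, hxx])
      rcases (Nat.dvd_prime Nat.prime_two).1 h2 with h | h
      · exact hx (orderOf_eq_one_iff.1 h)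
      · rw [h] at ho; exact absurd ho (by decide)

theorem sq_QQ_ZQ {x : Gz F m} (hx : x ∈ QQ F m) (h : x * x = 1) : x ∈ ZQ F m := by
  obtain ⟨c, d, rfl⟩ := hx
  rw [u_sq] at h
  have h3 := (u_ne_one h).2
  have h4 : c = 0 := by
    rcases mul_eq_zero.1 h3 with h | h
    · exact sg_eq_zero.1 h
    · exact h
  rw [h4]; exact ⟨_, rfl⟩

theorem invol_comm (S : Std1 M j b) {x : M} (hx : x ∈ cc (Zs M)) :
    {y | y ∈ cc (Zs M) ∧ x * y = y * x}.ncard ≤ Nat.card (Zs M) - 1 := by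
  obtain ⟨hx1, z, hz⟩ := hx
  have h1 : {y : M | y ∈ cc (Zs M) ∧ x * y = y * x}.ncard ≤ {y : M | y ∈ Zs M ∧ y ≠ 1}.ncard := by
    apply Set.ncard_le_ncard_of_injOn (fun y => z * y * z⁻¹)
    · rintro y ⟨hy, hxy⟩
      have h2 := (invol_eq S).1 hy
      have hzy : z * y * z⁻¹ ≠ 1 := by
        intro h
        apply h2.1
        calc y = z⁻¹ * (z * y * z⁻¹) * z := by group
          _ = 1 := by rw [h]; group
      have hzx : z * x * z⁻¹ ≠ 1 := by
        intro h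
        apply hx1
        calc x = z⁻¹ * (z * x * z⁻¹) * z := by group
          _ = 1 := by rw [h]; group
      refine ⟨?_, hzy⟩
      change z * y * z⁻¹ ∈ Zs M
      rw [mem_subgroupOf]
      have h3 : (z * y * z⁻¹) * (z * x * z⁻¹) = (z * x * z⁻¹) * (z * y * z⁻¹) := by
        calc (z * y * z⁻¹) * (z * x * z⁻¹) = z * (y * x) * z⁻¹ := by group
          _ = (z * x * z⁻¹) * (z * y * z⁻¹) := by rw [← hxy]; group
      have h4 : ((z * y * z⁻¹ : M) : Gz F m) ∈ QQ F m :=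
        cent_QQ (ZQ_le_QQ (mem_subgroupOf.1 hz)) (fun h => hzx (Subtype.ext h)) (congrArg Subtype.val h3)
      apply sq_QQ_ZQ h4
      have h5 : (z * y * z⁻¹) * (z * y * z⁻¹) = 1 := by
        calc (z * y * z⁻¹) * (z * y * z⁻¹) = z * (y * y) * z⁻¹ := by group
          _ = 1 := by rw [h2.2]; group
      exact congrArg Subtype.val h5
    · intro y _ y' _ h
      have h2 : z * y * z⁻¹ = z * y' * z⁻¹ := h
      exact mul_left_cancel (mul_right_cancel h2)
  refine h1.trans (le_of_eq ?_)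
  have h2 : {y : M | y ∈ Zs M ∧ y ≠ 1} = ((Zs M : Set M)) \ {1} := by
    ext y; simp
  rw [h2, Set.ncard_sdiff (by simp), Set.ncard_singleton, ← Nat.card_coe_set_eq]
  rfl

theorem invol_odd (S : Std1 M j b) {x y : M} (hx : x ∈ cc (Zs M)) (hy : y ∈ cc (Zs M)) :
    x * y = y * x ∨ Odd (orderOf (x * y)) := by
  have hx2 := (invol_eq S).1 hx
  have hy2 := (invol_eq S).1 hy
  have hxi : x⁻¹ = x := by rw [inv_eq_iff_mul_eq_one]; exact hx2.2
  have hyi : y⁻¹ = y := by rw [inv_eq_iff_mul_eq_one]; exact hy2.2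
  by_cases h1 : x * y = 1
  · left
    rw [mul_eq_one_iff_inv_eq, hxi] at h1
    rw [h1]
  rcases S.lay.cov _ h1 with ⟨-, z, hz⟩ | ho
  · left
    by_cases h2 : (x * y) * (x * y) = 1
    · have h3 : x * y = (x * y)⁻¹ := by rw [eq_comm, inv_eq_iff_mul_eq_one]; exact h2
      rw [mul_inv_rev, hxi, hyi] at h3
      exact h3
    · exfalso
      obtain ⟨g, hg⟩ : ∃ g, g = z * (x * y) * z⁻¹ := ⟨_, rfl⟩
      obtain ⟨x', hx'⟩ : ∃ x', x' = z * x * z⁻¹ := ⟨_, rfl⟩
      obtain ⟨y', hy'⟩ : ∃ y', y' = z * y * z⁻¹ := ⟨_, rfl⟩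
      have hgxy : g = x' * y' := by rw [hg, hx', hy']; group
      have hx'2 : x' * x' = 1 := by
        calc x' * x' = z * (x * x) * z⁻¹ := by rw [hx']; group
          _ = 1 := by rw [hx2.2]; group
      have hy'2 : y' * y' = 1 := by
        calc y' * y' = z * (y * y) * z⁻¹ := by rw [hy']; group
          _ = 1 := by rw [hy2.2]; group
      rw [← hg, mem_subgroupOf] at hz
      have hg1 : g * g ≠ 1 := by
        intro h
        apply h2
        calc (x * y) * (x * y) = z⁻¹ * (g * g) * z := by rw [hg]; group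
          _ = 1 := by rw [h]; group
      have hgZ : ((g * g : M) : Gz F m) ∈ ZQ F m := by
        obtain ⟨c, d, hcd⟩ := mem_QQ.1 hz
        rw [coe_mul, hcd, u_sq]; exact ⟨_, rfl⟩
      have hg4 : (g * g) * (g * g) = 1 := by
        obtain ⟨d, hd⟩ := hgZ
        apply Subtype.ext
        change ((g * g : M) : Gz F m) * ((g * g : M) : Gz F m) = 1
        rw [hd, u_sq, map_zero, mul_zero, u_zero]
      have hinv : g⁻¹ = y' * x' := by
        rw [hgxy, mul_inv_rev, inv_eq_of_mul_eq_one_left hx'2, inv_eq_of_mul_eq_one_left hy'2]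
      have hc : x' * (g * g) = (g * g) * x' := by
        have e1 : g * g = g⁻¹ * g⁻¹ := by
          have e2 : g * g = (g * g)⁻¹ := by rw [eq_comm, inv_eq_iff_mul_eq_one]; exact hg4
          rwa [mul_inv_rev] at e2
        calc x' * (g * g) = x' * (x' * y') * (x' * y') := by rw [hgxy]; group
          _ = (x' * x') * (y' * x') * y' := by group
          _ = (y' * x') * (y' * x') * x' := by
              rw [hx'2, one_mul]
              calc y' * x' * y' = y' * x' * y' * 1 := (mul_one _).symm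
                _ = y' * x' * y' * (x' * x') := by rw [hx'2]
                _ = (y' * x') * (y' * x') * x' := by group
          _ = (g * g) * x' := by rw [← hinv, ← e1]
      have hx'Q : (x' : Gz F m) ∈ QQ F m :=
        cent_QQ (ZQ_le_QQ hgZ) (fun h => hg1 (Subtype.ext h)) (congrArg Subtype.val hc)
      have hx'Z := sq_QQ_ZQ hx'Q (congrArg Subtype.val hx'2)
      have hy'Q : (y' : Gz F m) ∈ QQ F m := by
        have h5 : (y' : Gz F m) = (x' : Gz F m)⁻¹ * g := by rw [hgxy]; push_cast; group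
        rw [h5]
        exact mul_mem (inv_mem hx'Q) hz
      have hy'Z := sq_QQ_ZQ hy'Q (congrArg Subtype.val hy'2)
      obtain ⟨d, hd⟩ : (g : Gz F m) ∈ ZQ F m := by
        rw [hgxy]; exact mul_mem hx'Z hy'Z
      apply hg1
      apply Subtype.ext
      change (g : Gz F m) * g = 1
      rw [hd, u_sq, map_zero, mul_zero, u_zero]
  · exact Or.inr ho

theorem Std1.case_two (S : Std1 M j b) (hj : j ≠ 1) :
    orderOf j = Nat.card (Zs M) - 1 ∧ Nat.card (Qs M) = Nat.card (Zs M) ^ 2 ∧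
    (Bs M).index = Nat.card (Zs M) ^ 2 + 1 ∧ ∃ i, hh m i * ww F m ∈ M := by
  obtain ⟨n, hn, hN⟩ := norm_Ks_card S hj
  obtain ⟨t, ht0, ht⟩ := S.idx
  have hK := Ks_cm S hj
  have hKc := card_Ks S hj
  have hM := oddCent_sub M
  obtain ⟨i0, i1, i2, C₁, C₂, hn2, hC₁, hC₂, hD, e0, e1, e2, c0, c1, c2, hcov, hE⟩ :=
    S.lay.two_classes hK hKc hn hN ht (h_dvd_Q S hj)
  have h5 : 5 ≤ orderOf j := by rw [← hKc]; exact hK.five_le hM
  have hpb := pair_bound hM (I := cc (Zs M)) (a := Nat.card (Zs M) - 1) (fun x hx => invol_comm S hx)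
    (fun x hx => ((invol_eq S).1 hx).2) (fun x hx y hy => invol_odd S hx hy) hK hC₁ hC₂ hcov
  rw [S.cc_Z, c0, c1, c2, hKc] at hpb
  obtain ⟨h1, h2, h3⟩ := numC ht ht0 hD e0 e1 e2 hE hpb (Zs_two S) (h_dvd_Z S hj) h5 Qs_le S.two_le
    (hC₁.five_le hM) (hC₂.five_le hM)
  refine ⟨h2, h3, by rw [ht, h1, h3]; ring, ?_⟩
  have hlt : Ks S ≠ normalizer (Ks S : Set M) := by
    intro h
    have h4 := congrArg (fun H : Subgroup M => Nat.card H) h
    change Nat.card (Ks S) = Nat.card (normalizer (Ks S : Set M)) at h4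
    rw [hKc, hN, hn2] at h4
    omega
  have hnot : ¬ normalizer (Ks S : Set M) ≤ Ks S := fun h => hlt (le_antisymm le_normalizer h)
  obtain ⟨x, hxN, hxK⟩ := SetLike.not_le_iff_exists.1 hnot
  have h4 := norm_Ks S hj hxN
  rcases mem_norm_KK.1 h4 with h5 | ⟨i, hi⟩
  · exfalso
    apply hxK
    rw [mem_Ks S hj]
    exact h5
  · exact ⟨i, by rw [← hi]; exact x.2⟩

end CfsgL.Sz
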