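import Cfsg.Agent.L.Sz.Sub2

/-! Subgroups of even order: conjugation to normalized data. -/

set_option autoImplicit false
set_option maxHeartbeats 400000

namespace CfsgL.Sz

open Subgroup CfsgL.Odd

/-- the conjugate subgroup -/
def cj {G : Type*} [Group G] (x : G) (M : Subgroup G) : Subgroup G := M.map (MulAut.conj x).toMonoidHom

theorem mem_cj {G : Type*} [Group G] {x : G} {M : Subgroup G} {g : G} : g ∈ cj x M ↔ x⁻¹ * g * x ∈ M := by
  constructor
  · rintro ⟨y, hy, rfl⟩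
    change x⁻¹ * (x * y * x⁻¹) * x ∈ M
    have : x⁻¹ * (x * y * x⁻¹) * x = y := by group
    rw [this]; exact hy
  · intro h
    refine ⟨_, h, ?_⟩
    change x * (x⁻¹ * g * x) * x⁻¹ = g
    group

theorem conj_mem_cj {G : Type*} [Group G] {x : G} {M : Subgroup G} {g : G} (h : g ∈ M) : x * g * x⁻¹ ∈ cj x M := by
  rw [mem_cj]
  have : x⁻¹ * (x * g * x⁻¹) * x = g := by group
  rwa [this]

theorem cj_cj {G : Type*} [Group G] {x y : G} {M : Subgroup G} : cj x (cj y M) = cj (x * y) M := by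
  ext g
  rw [mem_cj, mem_cj, mem_cj]
  have : y⁻¹ * (x⁻¹ * g * x) * y = (x * y)⁻¹ * g * (x * y) := by group
  rw [this]

variable {F : Type*} [Field F] [Fintype F] {m : ℕ} [CharP F 2] [hF : Fact (Fintype.card F = 2 ^ (2 * m + 1))]
variable [hm : Fact (1 ≤ m)]

theorem uh_conj (c d : F) {j : Fˣ} (hj : j ≠ 1) : ∃ v ∈ QQ F m, v * (u m c d * hh m j) * v⁻¹ = hh m j := by
  have h1 : sg F m (j : F) + 1 ≠ 0 := by
    intro h
    apply hj
    apply j_eq_one_of_sg (m := m)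
    have := CharTwo.add_eq_zero.1 h
    exact this
  have h2 : sg F m (j : F) * (j : F) ^ 2 + 1 ≠ 0 := by
    intro h
    apply hj
    apply j_eq_one_of_sg2 (m := m)
    exact CharTwo.add_eq_zero.1 h
  obtain ⟨x, hx⟩ : ∃ x, x = c / (sg F m (j : F) + 1) := ⟨_, rfl⟩
  obtain ⟨y, hy⟩ : ∃ y, y = (d + sg F m c * (sg F m (j : F) * x)) / (sg F m (j : F) * (j : F) ^ 2 + 1) := ⟨_, rfl⟩
  have hx' : sg F m (j : F) * x + c = x := by
    rw [eq_div_iff h1] at hx
    linear_combination (-1 : F) * hx + (sg F m (j : F) * x) * (CharTwo.two_eq_zero (R := F))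
  have hy' : sg F m (j : F) * (j : F) ^ 2 * y + d + sg F m c * (sg F m (j : F) * x) = y := by
    rw [eq_div_iff h2] at hy
    linear_combination (-1 : F) * hy + (sg F m (j : F) * (j : F) ^ 2 * y) * (CharTwo.two_eq_zero (R := F))
  have hfix : (u m c d * hh m j) • pp m x y = pp m x y := by
    rw [mul_smul, hh_pp, u_pp, hx', hy']
  have hz : pp m x y = u m x y • pzero F m := (u_smul_zero x y).symm
  obtain ⟨g, hg⟩ : ∃ g, g = (u m x y)⁻¹ * (u m c d * hh m j) * (u m x y) := ⟨_, rfl⟩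
  have hg0 : g • pzero F m = pzero F m := by
    rw [hg, mul_smul, mul_smul, ← hz, hfix, inv_smul_eq_iff, ← hz]
  have hgi : g • pinf F m = pinf F m := by
    rw [hg, ← mem_BB]
    exact mul_mem (mul_mem (inv_mem (QQ_le_BB (u_mem_QQ _ _))) (mul_mem (QQ_le_BB (u_mem_QQ _ _))
      (KK_le_BB (mem_KK.2 ⟨j, rfl⟩)))) (QQ_le_BB (u_mem_QQ _ _))
  obtain ⟨i, hi⟩ := fix_two' hgi hg0
  refine ⟨(u m x y)⁻¹, inv_mem (u_mem_QQ _ _), ?_⟩
  rw [inv_inv, ← hg, hi]
  have h3 : u m c d * hh m j = u m x y * hh m i * (u m x y)⁻¹ := by rw [← hi, hg]; group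
  rw [u_inv, mul_assoc, hh_u, ← mul_assoc, u_mul] at h3
  obtain ⟨-, -, h4⟩ := uh_inj h3
  rw [h4]

/-- the torus part of an element of the Borel subgroup -/
noncomputable def prB : BB F m →* Fˣ :=
  MonoidHom.mk' (fun g => (mem_BB'.1 g.2).choose_spec.choose_spec.choose) (by
    intro g h
    have hg := (mem_BB'.1 g.2).choose_spec.choose_spec.choose_spec
    have hh' := (mem_BB'.1 h.2).choose_spec.choose_spec.choose_spec
    have hgh := (mem_BB'.1 (g * h).2).choose_spec.choose_spec.choose_spec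
    have h1 : ((g * h : BB F m) : Gz F m) = (g : Gz F m) * h := rfl
    rw [hgh, hg, hh', mul_assoc, ← mul_assoc (hh m _) (u m _ _), hh_u, mul_assoc, ← hh_mul, ← mul_assoc, u_mul] at h1
    exact (uh_inj h1).2.2)

theorem prB_spec (g : BB F m) : ∃ a b, (g : Gz F m) = u m a b * hh m (prB g) :=
  ⟨_, _, (mem_BB'.1 g.2).choose_spec.choose_spec.choose_spec⟩

theorem prB_eq {g : BB F m} {a b : F} {j : Fˣ} (h : (g : Gz F m) = u m a b * hh m j) : prB g = j := by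
  obtain ⟨c, d, hcd⟩ := prB_spec g
  rw [h] at hcd
  exact (uh_inj hcd).2.2.symm

theorem exists_std1 (M : Subgroup (Gz F m)) (he : 2 ∣ Nat.card M) :
    ∃ x : Gz F m, cj x M ≤ BB F m ∨ ∃ j b, Std1 (cj x M) j b := by
  haveI : Fact (Nat.Prime 2) := ⟨Nat.prime_two⟩
  obtain ⟨t, ht⟩ := exists_prime_orderOf_dvd_card' (G := M) 2 he
  have ht1 : (t : Gz F m) ≠ 1 := by
    intro h
    have : t = 1 := Subtype.ext h
    rw [this, orderOf_one] at ht
    omega
  have htt : (t : Gz F m) * t = 1 := by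
    have := pow_orderOf_eq_one t
    rw [ht, pow_two] at this
    exact congrArg Subtype.val this
  have hconj : ∃ x : Gz F m, x * t * x⁻¹ ∈ QQ F m := by
    rcases cent_tri ht1 with h | ⟨-, hcard⟩
    · exact h
    · exfalso
      have h1 : Even (2 ^ (m + 1)) := by rw [pow_succ]; exact even_two.mul_left _
      obtain ⟨r, hr'⟩ := h1
      obtain ⟨s, hs⟩ := card_F_even (F := F) (m := m)
      have h8 := card_F_ge (F := F) (m := m)
      have h9 : Odd (Nat.card (centralizer {(t : Gz F m)})) := by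
        rcases hcard with h | ⟨-, h | h⟩
        · exact ⟨s - 1, by omega⟩
        · exact ⟨s + r, by omega⟩
        · exact ⟨s - r, by omega⟩
      have h10 := h9.of_dvd_nat (Subgroup.orderOf_dvd_natCard _ (mem_centralizer_singleton_iff.2 rfl :
        (t : Gz F m) ∈ centralizer {(t : Gz F m)}))
      rw [orderOf_coe, ht] at h10
      exact absurd h10 (by decide)
  obtain ⟨x, hx⟩ := hconj
  have hx2 : (x * t * x⁻¹) * (x * t * x⁻¹) = 1 := by
    calc (x * t * x⁻¹) * (x * t * x⁻¹) = x * (t * t) * x⁻¹ := by group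
      _ = 1 := by rw [htt]; group
  obtain ⟨b, hb⟩ := sq_QQ_ZQ hx hx2
  have hb0 : b ≠ 0 := by
    rintro rfl
    rw [u_zero] at hb
    apply ht1
    calc (t : Gz F m) = x⁻¹ * (x * t * x⁻¹) * x := by group
      _ = 1 := by rw [hb]; group
  by_cases hBB : cj x M ≤ BB F m
  · exact ⟨x, Or.inl hBB⟩
  have hbM : u m 0 b ∈ cj x M := by rw [← hb]; exact conj_mem_cj t.2
  obtain ⟨R, hR⟩ : ∃ R : Subgroup Fˣ, R = ((cj x M).subgroupOf (BB F m)).map prB := ⟨_, rfl⟩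
  obtain ⟨⟨j, hjR⟩, hj⟩ := IsCyclic.exists_generator (α := R)
  have hgen : ∀ g ∈ cj x M, ∀ hgB : g ∈ BB F m, ∃ k : ℕ, prB ⟨g, hgB⟩ = j ^ k := by
    intro g hg hgB
    have h1 : prB ⟨g, hgB⟩ ∈ R := by rw [hR]; exact ⟨⟨g, hgB⟩, hg, rfl⟩
    have h2 := hj ⟨_, h1⟩
    rw [← mem_powers_iff_mem_zpowers] at h2
    obtain ⟨k, hk⟩ := h2
    exact ⟨k, (congrArg Subtype.val hk).symm⟩
  by_cases hj1 : j = 1
  · refine ⟨x, Or.inr ⟨1, b, hb0, hbM, ?_, ?_, hBB⟩⟩
    · rw [hh_one]; exact one_mem _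
    · intro g hg hgB
      obtain ⟨k, hk⟩ := hgen g hg hgB
      obtain ⟨c, d, hcd⟩ := prB_spec (⟨g, hgB⟩ : BB F m)
      refine ⟨c, d, 0, ?_⟩
      rw [pow_zero]
      rw [hk, hj1, one_pow] at hcd
      exact hcd
  · have hjR' := hjR
    rw [hR] at hjR'
    obtain ⟨⟨y, hyB⟩, hyM, hyj⟩ := hjR'
    obtain ⟨c, d, hcd⟩ := prB_spec (⟨y, hyB⟩ : BB F m)
    rw [hyj] at hcd
    obtain ⟨v, hv, hvc⟩ := uh_conj (m := m) c d hj1
    refine ⟨v * x, Or.inr ⟨j, b, hb0, ?_, ?_, ?_, ?_⟩⟩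
    · rw [← cj_cj, mem_cj]
      have h1 : v⁻¹ * u m 0 b * v = u m 0 b := by
        obtain ⟨e, f, rfl⟩ := hv
        rw [mul_assoc, inv_mul_eq_iff_eq_mul, u_mul, u_mul, map_zero, mul_zero, zero_mul, add_comm e 0, add_comm f b]
      rw [h1]; exact hbM
    · rw [← cj_cj, ← hvc, ← hcd]
      exact conj_mem_cj hyM
    · intro g hg hgB
      rw [← cj_cj, mem_cj] at hg
      have hgB' : v⁻¹ * g * v ∈ BB F m :=
        mul_mem (mul_mem (inv_mem (QQ_le_BB hv)) hgB) (QQ_le_BB hv)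
      obtain ⟨k, hk⟩ := hgen _ hg hgB'
      have h2 : prB ⟨g, hgB⟩ = j ^ k := by
        rw [← hk]
        have hvB : v ∈ BB F m := QQ_le_BB hv
        have h3 : (⟨v⁻¹ * g * v, hgB'⟩ : BB F m) = ⟨v, hvB⟩⁻¹ * ⟨g, hgB⟩ * ⟨v, hvB⟩ := rfl
        rw [h3, map_mul, map_mul, map_inv]
        rw [mul_comm (_ : Fˣ)⁻¹, inv_mul_cancel_right]
      obtain ⟨c', d', hcd'⟩ := prB_spec (⟨g, hgB⟩ : BB F m)
      rw [h2] at hcd'
      exact ⟨c', d', k, hcd'⟩
    · intro hle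
      apply hBB
      intro g hg
      have h1 := hle (show v * g * v⁻¹ ∈ cj (v * x) M from by rw [← cj_cj]; exact conj_mem_cj hg)
      have h2 : g = v⁻¹ * (v * g * v⁻¹) * v := by group
      rw [h2]
      exact mul_mem (mul_mem (inv_mem (QQ_le_BB hv)) h1) (QQ_le_BB hv)

/-- rescaling the involution -/
theorem rescale {M : Subgroup (Gz F m)} {j : Fˣ} {b : F} (S : Std1 M j b) : ∃ i : Fˣ, Std1 (cj (hh m i) M) j 1 := by
  obtain ⟨i, hi⟩ := orbit_Z (m := m) S.hb (one_ne_zero : (1 : F) ≠ 0)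
  have hB : hh m i ∈ BB F m := KK_le_BB (mem_KK.2 ⟨i, rfl⟩)
  refine ⟨i, one_ne_zero, ?_, ?_, ?_, ?_⟩
  · have h1 : hh m i * u m 0 b * (hh m i)⁻¹ = u m 0 1 := by
      rw [mul_inv_eq_iff_eq_mul, hh_u, mul_zero, hi]
    rw [← h1]; exact conj_mem_cj S.hbM
  · have h1 : hh m i * hh m j * (hh m i)⁻¹ = hh m j := by
      rw [mul_inv_eq_iff_eq_mul, ← hh_mul, ← hh_mul, mul_comm]
    rw [← h1]; exact conj_mem_cj S.hj
  · intro g hg hgB
    rw [mem_cj] at hg
    obtain ⟨x, y, k, hk⟩ := S.dec _ hg (mul_mem (mul_mem (inv_mem hB) hgB) hB)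
    refine ⟨sg F m i * x, sg F m i * i ^ 2 * y, k, ?_⟩
    have h1 : g = hh m i * ((hh m i)⁻¹ * g * hh m i) * (hh m i)⁻¹ := by group
    rw [h1, hk, ← mul_assoc, hh_u, mul_assoc, mul_assoc]
    congr 1
    rw [hh_inv, ← hh_mul, ← hh_mul, mul_comm (j ^ k), mul_inv_cancel_left]
  · intro hle
    apply S.nb
    intro g hg
    have h1 := hle (conj_mem_cj (x := hh m i) hg)
    have h2 : g = (hh m i)⁻¹ * (hh m i * g * (hh m i)⁻¹) * hh m i := by group
    rw [h2]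
    exact mul_mem (mul_mem (inv_mem hB) h1) hB

end CfsgL.Sz
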