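import Cfsg.Agent.L.Sz.Sub3
import Cfsg.Agent.L.Sz.Emb

/-! Subgroups of even order: the standard form. -/

set_option autoImplicit false
set_option maxHeartbeats 400000

namespace CfsgL.Sz

open Subgroup CfsgL.Odd

variable {F : Type*} [Field F] [Fintype F] {m : ℕ} [CharP F 2] [hF : Fact (Fintype.card F = 2 ^ (2 * m + 1))]
variable [hm : Fact (1 ≤ m)]

omit hF hm in
/-- a subgroup of the units of given order -/
theorem unit_subgroup {H : Subgroup Fˣ} {N : ℕ} (hN : Nat.card H = N) (i : Fˣ) : i ∈ H ↔ i ^ N = 1 := by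
  have h1 : H = (powMonoidHom N : Fˣ →* Fˣ).ker := by
    apply eq_of_le_of_card_ge
    · intro x hx
      rw [MonoidHom.mem_ker, powMonoidHom_apply, ← hN]
      have := pow_card_eq_one' (x := (⟨x, hx⟩ : H))
      exact congrArg Subtype.val this
    · rw [IsCyclic.card_powMonoidHom_ker, hN]
      exact Nat.gcd_le_right _ (by rw [← hN]; exact Nat.card_pos)
  rw [h1, MonoidHom.mem_ker, powMonoidHom_apply]

variable {M : Subgroup (Gz F m)} {j : Fˣ}

theorem hh_mem_iff (S : Std1 M j 1) (i : Fˣ) : hh m i ∈ M ↔ i ^ orderOf j = 1 := by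
  rw [← unit_subgroup (Nat.card_zpowers j) i]
  refine ⟨fun h => hh_mem S h, ?_⟩
  rintro ⟨k, rfl⟩
  have h1 : hh m (j ^ k) = (hh m j) ^ k := map_zpow hhom j k
  change hh m (j ^ k) ∈ M
  rw [h1]
  exact zpow_mem S.hj k

theorem conj_hu (i : Fˣ) (c d : F) : hh m i * u m c d * (hh m i)⁻¹ = u m (sg F m i * c) (sg F m i * i ^ 2 * d) := by
  rw [mul_inv_eq_iff_eq_mul, hh_u]

/-- the subfield condition -/
theorem u0_mem_iff (S : Std1 M j 1) (hj : j ≠ 1) (d : F) : u m 0 d ∈ M ↔ d ^ (orderOf j + 1) = d := by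
  obtain ⟨h1, -, -, -⟩ := S.case_two hj
  have h2 := Zs_two S
  -- the map `χ`
  have hchi : ∀ i : Fˣ, i ^ orderOf j = 1 → u m 0 (sg F m i * i ^ 2) ∈ M := by
    intro i hi
    have h3 := (hh_mem_iff S i).2 hi
    have h4 := mul_mem (mul_mem h3 S.hbM) (inv_mem h3)
    rw [conj_hu, mul_zero, mul_one] at h4
    exact h4
  have hsurj : ∀ e : Fˣ, e ^ orderOf j = 1 → ∃ i : Fˣ, i ^ orderOf j = 1 ∧ sg F m (i : F) * (i : F) ^ 2 = e := by
    intro e he
    obtain ⟨i, hi⟩ := orbit_Z (m := m) (one_ne_zero : (1 : F) ≠ 0) e.ne_zero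
    rw [mul_one] at hi
    refine ⟨i, ?_, hi⟩
    apply j_eq_one_of_sg2 (m := m)
    rw [Units.val_pow_eq_pow_val, map_pow, ← pow_mul, mul_comm (orderOf j) 2, pow_mul, ← mul_pow, hi,
      ← Units.val_pow_eq_pow_val, he, Units.val_one]
  have hsub : ∀ d : F, d ^ (orderOf j + 1) = d → u m 0 d ∈ M := by
    intro d hd
    by_cases hd0 : d = 0
    · rw [hd0, u_zero]; exact one_mem _
    · have h3 : (Units.mk0 d hd0) ^ orderOf j = 1 := by
        apply Units.ext
        rw [Units.val_pow_eq_pow_val, Units.val_mk0, Units.val_one]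
        rw [pow_succ] at hd
        exact mul_right_cancel₀ hd0 (by rw [hd, one_mul])
      obtain ⟨i, hi, hie⟩ := hsurj _ h3
      have h4 := hchi i hi
      rw [hie] at h4
      exact h4
  refine ⟨?_, hsub d⟩
  -- cardinality
  have h3 : {d : F | u m 0 d ∈ M}.ncard = Nat.card (Zs M) := by
    rw [← Nat.card_coe_set_eq]
    refine Nat.card_congr (Equiv.ofBijective (fun d : {d : F | u m 0 d ∈ M} => (⟨⟨u m 0 d, d.2⟩, ?_⟩ : Zs M)) ⟨?_, ?_⟩)
    · exact mem_subgroupOf.2 ⟨_, rfl⟩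
    · intro d e h
      have h4 : u m 0 (d : F) = u m 0 (e : F) := congrArg (fun z : Zs M => ((z : M) : Gz F m)) h
      exact Subtype.ext (u_inj h4).2
    · rintro ⟨⟨g, hg⟩, hgZ⟩
      obtain ⟨e, he⟩ := mem_ZQ.1 (mem_subgroupOf.1 hgZ)
      have he' : g = u m 0 e := he
      subst he'
      exact ⟨⟨e, hg⟩, rfl⟩
  have h4 : {d : F | d ^ (orderOf j + 1) = d} = {d : F | u m 0 d ∈ M} := by
    have hss : {d : F | d ^ (orderOf j + 1) = d} ⊆ {d : F | u m 0 d ∈ M} := fun d hd => hsub d hd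
    apply Set.eq_of_subset_of_ncard_le hss
    rw [h3]
    have h5 : orderOf j + 1 = Nat.card (Zs M) := by omega
    have h6 : Nat.card (zpowers j) = orderOf j := Nat.card_zpowers j
    -- zero and the units
    have h7 : Nat.card (Option (zpowers j)) ≤ {d : F | d ^ (orderOf j + 1) = d}.ncard := by
      rw [← Nat.card_coe_set_eq]
      refine Nat.card_le_card_of_injective (fun x : Option (zpowers j) =>
        (⟨(x.elim (0 : F) (fun y => ((y : Fˣ) : F))), ?_⟩ : {d : F | d ^ (orderOf j + 1) = d})) ?_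
      · rcases x with _ | y
        · exact zero_pow (by omega)
        · change (((y : Fˣ) : F)) ^ (orderOf j + 1) = ((y : Fˣ) : F)
          have h8 := (unit_subgroup (Nat.card_zpowers j) (y : Fˣ)).1 y.2
          rw [pow_succ, ← Units.val_pow_eq_pow_val, h8, Units.val_one, one_mul]
      · intro x y h
        have h8 := congrArg Subtype.val h
        rcases x with _ | x <;> rcases y with _ | y
        · rfl
        · exact absurd h8.symm (Units.ne_zero _)
        · exact absurd h8 (Units.ne_zero _)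
        · have h9 : ((x : Fˣ) : F) = ((y : Fˣ) : F) := h8
          rw [Subtype.ext (Units.ext h9)]
    rw [Finite.card_option, h6] at h7
    omega
  intro h
  have : d ∈ {d : F | u m 0 d ∈ M} := h
  rw [← h4] at this
  exact this

theorem card_Zs_eq (S : Std1 M j 1) (_hj : j ≠ 1) : {d : F | u m 0 d ∈ M}.ncard = Nat.card (Zs M) := by
  rw [← Nat.card_coe_set_eq]
  refine Nat.card_congr (Equiv.ofBijective (fun d : {d : F | u m 0 d ∈ M} => (⟨⟨u m 0 d, d.2⟩, ?_⟩ : Zs M)) ⟨?_, ?_⟩)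
  · exact mem_subgroupOf.2 ⟨_, rfl⟩
  · intro d e h
    have h4 : u m 0 (d : F) = u m 0 (e : F) := congrArg (fun z : Zs M => ((z : M) : Gz F m)) h
    exact Subtype.ext (u_inj h4).2
  · rintro ⟨⟨g, hg⟩, hgZ⟩
    obtain ⟨e, he⟩ := mem_ZQ.1 (mem_subgroupOf.1 hgZ)
    have he' : g = u m 0 e := he
    subst he'
    exact ⟨⟨e, hg⟩, rfl⟩

/-- the subfield -/
def E (j : Fˣ) (d : F) : Prop := d ^ (orderOf j + 1) = d

theorem E_mul {c d : F} (hc : E j c) (hd : E j d) : E j (c * d) := by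
  rw [E, mul_pow, hc, hd]

theorem E_add (S : Std1 M j 1) (hj : j ≠ 1) {c d : F} (hc : E j c) (hd : E j d) : E j (c + d) := by
  rw [E, ← u0_mem_iff S hj] at hc hd ⊢
  have := mul_mem hc hd
  rwa [u_mul, map_zero, mul_zero, add_zero, add_zero] at this

theorem E_one : E j (1 : F) := one_pow _

theorem E_zero : E j (0 : F) := zero_pow (by omega)

theorem E_sg {c : F} (hc : E j c) : E j (sg F m c) := by
  rw [E, ← map_pow, hc]

theorem E_of_sg {c : F} (hc : E j (sg F m c)) : E j c := by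
  rw [E, ← map_pow] at hc
  exact sg_inj hc

theorem E_unit (i : Fˣ) : E j (i : F) ↔ i ^ orderOf j = 1 := by
  rw [E, pow_succ]
  constructor
  · intro h
    apply Units.ext
    rw [Units.val_pow_eq_pow_val, Units.val_one]
    exact mul_right_cancel₀ i.ne_zero (by rw [h, one_mul])
  · intro h
    rw [← Units.val_pow_eq_pow_val, h, Units.val_one, one_mul]

theorem E_of_mem (S : Std1 M j 1) (hj : j ≠ 1) {c d : F} (h : u m c d ∈ M) : E j c := by
  have h1 := mul_mem h h
  rw [u_sq, u0_mem_iff S hj, mul_pow, ← map_pow] at h1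
  exact sgmul_inj h1

theorem exists_sg_unit {c : F} (hc : E j c) (hc0 : c ≠ 0) : ∃ i : Fˣ, sg F m (i : F) = c ∧ i ^ orderOf j = 1 := by
  obtain ⟨i, hi⟩ := sg_surj (F := F) (m := m) c
  have hi0 : i ≠ 0 := by
    rintro rfl
    rw [map_zero] at hi
    exact hc0 hi.symm
  refine ⟨Units.mk0 i hi0, hi, ?_⟩
  rw [← E_unit]
  apply E_of_sg (m := m)
  rw [Units.val_mk0, hi]
  exact hc

theorem exists_u1 (S : Std1 M j 1) (hj : j ≠ 1) : ∃ d, u m 1 d ∈ M := by
  obtain ⟨-, h2, -, -⟩ := S.case_two hj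
  have h3 := Zs_two S
  have h4 : ∃ g ∈ Qs M, g ∉ Zs M := by
    by_contra hcon
    push Not at hcon
    have h5 : Nat.card (Qs M) ≤ Nat.card (Zs M) := card_le_of_le hcon
    rw [h2, pow_two] at h5
    nlinarith
  obtain ⟨⟨g, hg⟩, hgQ, hgZ⟩ := h4
  obtain ⟨c, d, hcd⟩ := mem_QQ.1 (mem_subgroupOf.1 hgQ)
  have hcd' : g = u m c d := hcd
  subst hcd'
  have hc0 : c ≠ 0 := by
    rintro rfl
    exact hgZ (mem_subgroupOf.2 ⟨_, rfl⟩)
  obtain ⟨i, hi, hi1⟩ := exists_sg_unit (m := m) (E_of_mem S hj hg) hc0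
  have h5 := (hh_mem_iff S i⁻¹).2 (by rw [inv_pow, hi1, inv_one])
  have h6 := mul_mem (mul_mem h5 hg) (inv_mem h5)
  rw [conj_hu] at h6
  have h7 : sg F m ((i⁻¹ : Fˣ) : F) * c = 1 := by
    rw [← hi, ← map_mul, ← Units.val_mul, inv_mul_cancel, Units.val_one, map_one]
  rw [h7] at h6
  exact ⟨_, h6⟩

theorem u1_E (S : Std1 M j 1) (hj : j ≠ 1) {d : F} (h : u m 1 d ∈ M) : E j d := by
  have hone : sg F m (1 : F) = 1 := map_one _
  -- the conjugates
  have key : ∀ s : F, E j s → s ≠ 0 → u m s (s * sg F m s * d) ∈ M := by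
    intro s hs hs0
    obtain ⟨i, hi, hi1⟩ := exists_sg_unit (m := m) hs hs0
    have h1 := (hh_mem_iff S i).2 hi1
    have h2 := mul_mem (mul_mem h1 h) (inv_mem h1)
    rw [conj_hu, mul_one, hi] at h2
    have h3 : s * (i : F) ^ 2 * d = s * sg F m s * d := by rw [← hi, sg_sg]
    rwa [h3] at h2
  obtain ⟨s, hs⟩ : ∃ s : F, s = (j : F) := ⟨_, rfl⟩
  have hsE : E j s := by rw [hs, E_unit]; exact pow_orderOf_eq_one j
  have hs0 : s ≠ 0 := by rw [hs]; exact j.ne_zero
  have hs1 : s + 1 ≠ 0 := by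
    intro h1
    apply hj
    apply Units.ext
    rw [← hs, Units.val_one]
    exact CharTwo.add_eq_zero.1 h1
  have hs1E : E j (s + 1) := E_add S hj hsE E_one
  have h1 := key s hsE hs0
  have h2 := key (s + 1) hs1E hs1
  have h3 := mul_mem (mul_mem h h1) h2
  have hsum : sg F m (1 + s) = 1 + sg F m s := by rw [map_add, hone]
  have hsum' : sg F m (s + 1) = sg F m s + 1 := by rw [map_add, hone]
  rw [u_mul, u_mul, hsum, hsum', hone] at h3
  have e1 : (1 : F) + s + (s + 1) = 0 := by linear_combination (1 + s) * (CharTwo.two_eq_zero (R := F))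
  rw [e1, u0_mem_iff S hj] at h3
  obtain ⟨t, ht⟩ : ∃ t, t = d + s * sg F m s * d + 1 * s + (s + 1) * (sg F m s + 1) * d + (1 + sg F m s) * (s + 1) :=
    ⟨_, rfl⟩
  have h3' : E j t := by rw [ht, E]; exact h3
  -- remove the part in the subfield
  have hsgs : E j (sg F m s) := E_sg hsE
  have h4 : E j (s + (1 + sg F m s) * (s + 1)) :=
    E_add S hj hsE (E_mul (E_add S hj E_one hsgs) hs1E)
  have h5 := E_add S hj h3' h4
  have e2 : t + (s + (1 + sg F m s) * (s + 1)) = (s + sg F m s) * d := by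
    rw [ht]
    linear_combination (s + (1 + sg F m s) * (s + 1) + s * sg F m s * d + d) * (CharTwo.two_eq_zero (R := F))
  rw [e2] at h5
  have h6 : s + sg F m s ≠ 0 := by
    intro h7
    have h8 : s = sg F m s := CharTwo.add_eq_zero.1 h7
    have h9 : sg F m s = sg F m (sg F m s) := congrArg _ h8
    rw [sg_sg, ← h8] at h9
    apply hs1
    rw [CharTwo.add_eq_zero]
    have h10 : s * (s - 1) = 0 := by linear_combination -h9
    rcases mul_eq_zero.1 h10 with h11 | h11
    · exact absurd h11 hs0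
    · exact sub_eq_zero.1 h11
  -- divide
  have h7 : E j (s + sg F m s) := E_add S hj hsE hsgs
  rw [E, mul_pow, h7] at h5
  exact mul_left_cancel₀ h6 h5

theorem u_mem_iff (S : Std1 M j 1) (hj : j ≠ 1) {c e : F} : u m c e ∈ M ↔ E j c ∧ E j e := by
  obtain ⟨d, hd⟩ := exists_u1 S hj
  have hdE := u1_E S hj hd
  have h10 : u m 1 0 ∈ M := by
    have h1 := mul_mem hd ((u0_mem_iff S hj d).2 hdE)
    rwa [u_mul, mul_zero, add_zero, add_zero, two0] at h1
  have hc0 : ∀ c : F, E j c → u m c 0 ∈ M := by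
    intro c hc
    by_cases h0 : c = 0
    · rw [h0, u_zero]; exact one_mem _
    · obtain ⟨i, hi, hi1⟩ := exists_sg_unit (m := m) hc h0
      have h1 := (hh_mem_iff S i).2 hi1
      have h2 := mul_mem (mul_mem h1 h10) (inv_mem h1)
      rwa [conj_hu, mul_one, mul_zero, hi] at h2
  constructor
  · intro h
    have hc := E_of_mem S hj h
    refine ⟨hc, ?_⟩
    have h1 := mul_mem (inv_mem (hc0 c hc)) h
    rw [u_inv, u_mul, two0, zero_add, add_assoc, add_comm e, ← add_assoc, two0, zero_add] at h1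
    exact (u0_mem_iff S hj e).1 h1
  · rintro ⟨hc, he⟩
    have h1 := mul_mem (hc0 c hc) ((u0_mem_iff S hj e).2 he)
    rwa [u_mul, mul_zero, add_zero, add_zero, zero_add] at h1

end CfsgL.Sz
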