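import Cfsg.Agent.L.Sz.Sub4

/-! The subgroups of the Suzuki groups. -/

set_option autoImplicit false
set_option maxHeartbeats 400000

namespace CfsgL.Sz

open Subgroup CfsgL.Odd

variable {F : Type*} [Field F] [Fintype F] {m : ℕ} [CharP F 2] [hF : Fact (Fintype.card F = 2 ^ (2 * m + 1))]
variable [hm : Fact (1 ≤ m)]
variable {M : Subgroup (Gz F m)} {j : Fˣ}

theorem card_E (S : Std1 M j 1) (hj : j ≠ 1) : {c : F | E j c}.ncard = Nat.card (Zs M) := by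
  rw [← card_Zs_eq S hj]
  congr 1
  ext c
  exact (u0_mem_iff S hj c).symm

theorem Zs_eq (S : Std1 M j 1) (hj : j ≠ 1) : Nat.card (Zs M) = orderOf j + 1 := by
  have h1 := (S.case_two hj).1
  have h2 := Zs_two S
  omega

theorem ww_i (S : Std1 M j 1) (hj : j ≠ 1) {i : Fˣ} (hi : hh m i * ww F m ∈ M) :
    i ^ orderOf j = 1 ∧ ∀ g ∈ M, g • pinf F m = pinf F m ∨ ∃ c e, E j c ∧ E j e ∧ g • pinf F m = pp m c e := by
  obtain ⟨-, -, hD, -⟩ := S.case_two hj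
  obtain ⟨T, hT⟩ : ∃ T : Set (Om F m), T = {pinf F m} ∪
      (fun p : F × F => pp m p.1 p.2) '' ({c : F | E j c} ×ˢ {c : F | E j c}) := ⟨_, rfl⟩
  have hTO : T ⊆ MulAction.orbit M (pinf F m) := by
    rw [hT]
    rintro p (hp | ⟨⟨c, e⟩, ⟨hc, he⟩, rfl⟩)
    · rw [Set.mem_singleton_iff] at hp
      rw [hp]; exact MulAction.mem_orbit_self _
    · have h1 : u m c e * (hh m i * ww F m) ∈ M := mul_mem ((u_mem_iff S hj).2 ⟨hc, he⟩) hi
      refine ⟨⟨_, h1⟩, ?_⟩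
      change (u m c e * (hh m i * ww F m)) • pinf F m = pp m c e
      rw [mul_smul, mul_smul, ww_inf, hh_zero, u_smul_zero]
  have hOc : (MulAction.orbit M (pinf F m)).ncard = (Bs M).index := by
    rw [← MulAction.index_stabilizer]
    congr 1
  have hTc : T.ncard = Nat.card (Zs M) ^ 2 + 1 := by
    rw [hT, Set.ncard_union_eq, Set.ncard_singleton, Set.ncard_image_of_injective, Set.ncard_prod, card_E S hj]
    · ring
    · rintro ⟨a, b⟩ ⟨c, d⟩ h
      obtain ⟨h1, h2⟩ := pp_inj h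
      change a = c at h1
      change b = d at h2
      rw [h1, h2]
    · rw [Set.disjoint_singleton_left]
      rintro ⟨⟨a, b⟩, -, h⟩
      exact pp_ne_inf _ _ h
  have hTeq : T = MulAction.orbit M (pinf F m) := by
    apply Set.eq_of_subset_of_ncard_le hTO
    rw [hOc, hTc, hD]
  have hmem : ∀ g ∈ M, g • pinf F m = pinf F m ∨ ∃ c e, E j c ∧ E j e ∧ g • pinf F m = pp m c e := by
    intro g hg
    have h1 : g • pinf F m ∈ T := by rw [hTeq]; exact ⟨⟨g, hg⟩, rfl⟩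
    rw [hT] at h1
    rcases h1 with h1 | ⟨⟨c, e⟩, ⟨hc, he⟩, h⟩
    · exact Or.inl h1
    · exact Or.inr ⟨c, e, hc, he, h.symm⟩
  refine ⟨?_, hmem⟩
  have h2 := mul_mem (mul_mem hi S.hbM) (inv_mem hi)
  have h3 : (hh m i * ww F m * u m 0 1 * (hh m i * ww F m)⁻¹) • pinf F m = pp m (sg F m i) 0 := by
    have hz : zz m (0 : F) 1 = 1 := by rw [zz_def, map_one, map_zero]; ring
    have hz0 : zz m (0 : F) 1 ≠ 0 := by rw [hz]; exact one_ne_zero
    rw [mul_inv_rev, ww_inv, hh_inv, mul_smul, mul_smul, mul_smul (ww F m), hh_inf, ww_inf, u_smul_zero,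
      mul_smul (hh m i), ww_pp hz0, hz, hh_pp, div_one, div_one, mul_one, mul_zero]
  rcases hmem _ h2 with h4 | ⟨c, e, hc, he, h4⟩
  · rw [h3] at h4
    exact absurd h4 (pp_ne_inf _ _)
  · rw [h3] at h4
    obtain ⟨h5, -⟩ := pp_inj h4
    rw [← h5] at hc
    exact (E_unit i).1 (E_of_sg hc)

theorem ww_mem (S : Std1 M j 1) (hj : j ≠ 1) : ww F m ∈ M := by
  obtain ⟨-, -, -, i, hi⟩ := S.case_two hj
  have h1 := (hh_mem_iff S i).2 (ww_i S hj hi).1
  have h2 := mul_mem (inv_mem h1) hi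
  rwa [inv_mul_cancel_left] at h2

theorem mem_std (S : Std1 M j 1) (hj : j ≠ 1) {g : Gz F m} (hg : g ∈ M) :
    ∃ x y : F, ∃ i : Fˣ, E j x ∧ E j y ∧ E j (i : F) ∧ (g = u m x y * hh m i ∨
      ∃ c e, E j c ∧ E j e ∧ g = u m c e * ww F m * (u m x y * hh m i)) := by
  have hB : ∀ g ∈ M, g ∈ BB F m → ∃ x y : F, ∃ i : Fˣ, E j x ∧ E j y ∧ E j (i : F) ∧ g = u m x y * hh m i := by
    intro g hg hgB
    obtain ⟨x, y, k, hk⟩ := S.dec g hg hgB
    have h1 : (j ^ k) ^ orderOf j = 1 := by rw [← pow_mul, mul_comm, pow_mul, pow_orderOf_eq_one, one_pow]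
    have h2 := (hh_mem_iff S (j ^ k)).2 h1
    have h3 : u m x y ∈ M := by
      have h4 : u m x y = g * (hh m (j ^ k))⁻¹ := by rw [hk]; group
      rw [h4]; exact mul_mem hg (inv_mem h2)
    obtain ⟨h5, h6⟩ := (u_mem_iff S hj).1 h3
    exact ⟨x, y, j ^ k, h5, h6, (E_unit _).2 h1, hk⟩
  obtain ⟨-, -, -, i0, hi0⟩ := S.case_two hj
  rcases (ww_i S hj hi0).2 g hg with h | ⟨c, e, hc, he, h⟩
  · obtain ⟨x, y, i, h1, h2, h3, h4⟩ := hB g hg (mem_BB.2 h)
    exact ⟨x, y, i, h1, h2, h3, Or.inl h4⟩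
  · have hce := (u_mem_iff S hj).2 ⟨hc, he⟩
    have hgg := mul_mem (mul_mem (inv_mem (ww_mem S hj)) (inv_mem hce)) hg
    have hB' : (ww F m)⁻¹ * (u m c e)⁻¹ * g ∈ BB F m := by
      rw [mem_BB, mul_smul, mul_smul, h, ← u_smul_zero, inv_smul_smul, ← ww_inf, inv_smul_smul]
    obtain ⟨x, y, i, h1, h2, h3, h4⟩ := hB _ hgg hB'
    refine ⟨x, y, i, h1, h2, h3, Or.inr ⟨c, e, hc, he, ?_⟩⟩
    rw [← h4]; group

section emb
variable {K : Type*} [Field K] [Fintype K] {k : ℕ} [CharP K 2] [hK : Fact (Fintype.card K = 2 ^ (2 * k + 1))]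
variable [hk : Fact (1 ≤ k)]

theorem E_iff (S : Std1 M j 1) (hj : j ≠ 1) (ho : orderOf j + 1 = 2 ^ (2 * k + 1)) (φ : K →+* F) (c : F) :
    E j c ↔ ∃ x, φ x = c := by
  have h1 : Set.range φ ⊆ {c : F | E j c} := by
    rintro _ ⟨x, rfl⟩
    change φ x ^ (orderOf j + 1) = φ x
    rw [ho, ← hK.1, ← map_pow, FiniteField.pow_card]
  have h2 : Set.range φ = {c : F | E j c} := by
    apply Set.eq_of_subset_of_ncard_le h1
    rw [card_E S hj, Zs_eq S hj, ho, ← hK.1, ← Set.image_univ, Set.ncard_image_of_injective _ φ.injective,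
      Set.ncard_univ, Nat.card_eq_fintype_card]
  have h3 : c ∈ {c : F | E j c} ↔ c ∈ Set.range φ := by rw [h2]
  exact h3

theorem std_range (S : Std1 M j 1) (hj : j ≠ 1) (ho : orderOf j + 1 = 2 ^ (2 * k + 1)) (hd : 2 * k + 1 ∣ 2 * m + 1)
    (φ : K →+* F) : M = (emb hd φ).range := by
  apply le_antisymm
  · intro g hg
    obtain ⟨x, y, i, hx, hy, hi, h⟩ := mem_std S hj hg
    obtain ⟨x', rfl⟩ := (E_iff S hj ho φ x).1 hx
    obtain ⟨y', rfl⟩ := (E_iff S hj ho φ y).1 hy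
    obtain ⟨i', hi'⟩ := (E_iff S hj ho φ i).1 hi
    have hi0 : i' ≠ 0 := by
      rintro rfl
      rw [map_zero] at hi'
      exact i.ne_zero hi'.symm
    have h1 : u m (φ x') (φ y') * hh m i = emb hd φ (u k x' y' * hh k (Units.mk0 i' hi0)) := by
      rw [map_mul, emb_u, emb_hh]
      congr 2
      apply Units.ext
      exact hi'.symm
    rw [h1] at h
    rcases h with h | ⟨c, e, hc, he, h⟩
    · exact ⟨_, h.symm⟩
    · obtain ⟨c', rfl⟩ := (E_iff S hj ho φ c).1 hc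
      obtain ⟨e', rfl⟩ := (E_iff S hj ho φ e).1 he
      rw [← emb_u hd, ← emb_ww hd φ, ← map_mul, ← map_mul] at h
      exact ⟨_, h.symm⟩
  · apply mem_range_of
    · intro a b
      exact (u_mem_iff S hj).2 ⟨(E_iff S hj ho φ _).2 ⟨_, rfl⟩, (E_iff S hj ho φ _).2 ⟨_, rfl⟩⟩
    · intro i
      rw [hh_mem_iff S, ← E_unit]
      exact (E_iff S hj ho φ _).2 ⟨(i : K), rfl⟩
    · exact ww_mem S hj

end emb

theorem exists_k (S : Std1 M j 1) (hj : j ≠ 1) : ∃ k, 1 ≤ k ∧ 2 * k + 1 ∣ 2 * m + 1 ∧ orderOf j + 1 = 2 ^ (2 * k + 1) := by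
  have h1 : IsPGroup 2 (Zs M) := by
    have : IsPGroup 2 (ZQ F m) := isPGroup_QQ.to_le ZQ_le_QQ
    exact this.comap_of_injective _ M.subtype_injective
  obtain ⟨n, hn⟩ := IsPGroup.iff_card.1 h1
  rw [Zs_eq S hj] at hn
  have h2 : orderOf j ∣ 2 ^ (2 * m + 1) - 1 := by
    have := orderOf_dvd_natCard j
    rwa [Nat.card_units, card_F (F := F) (m := m)] at this
  have h3 : orderOf j = 2 ^ n - 1 := by omega
  have h4 : n ∣ 2 * m + 1 := by
    have h5 := Nat.pow_sub_one_gcd_pow_sub_one 2 n (2 * m + 1)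
    rw [← h3, Nat.gcd_eq_left h2, h3] at h5
    have h6 : (2 : ℕ) ^ n = 2 ^ (n.gcd (2 * m + 1)) := by
      have e1 : 1 ≤ 2 ^ n := Nat.one_le_two_pow
      have e2 : 1 ≤ 2 ^ (n.gcd (2 * m + 1)) := Nat.one_le_two_pow
      omega
    have h7 := Nat.pow_right_injective (le_refl 2) h6
    rw [h7]
    exact Nat.gcd_dvd_right _ _
  have h8 : Odd n := Odd.of_dvd_nat ⟨m, rfl⟩ h4
  obtain ⟨k, hk⟩ := h8
  refine ⟨k, ?_, by rw [← hk]; exact h4, by rw [← hk]; exact hn⟩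
  by_contra h9
  have h10 : k = 0 := by omega
  rw [h10] at hk
  rw [hk] at h3
  apply hj
  rw [← orderOf_eq_one_iff, h3]
  norm_num

/-- the standard subfield subgroups -/
def IsStd (M : Subgroup (Gz F m)) (k : ℕ) : Prop :=
  1 ≤ k ∧ 2 * k + 1 ∣ 2 * m + 1 ∧ ∃ j : Fˣ, j ≠ 1 ∧ orderOf j + 1 = 2 ^ (2 * k + 1) ∧ Std1 M j 1

theorem norm_uncj {x g : Gz F m}
    (h : cj x M ≤ normalizer ((centralizer {g} : Subgroup (Gz F m)) : Set (Gz F m))) :
    M ≤ normalizer ((centralizer {x⁻¹ * g * x⁻¹⁻¹} : Subgroup (Gz F m)) : Set (Gz F m)) := by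
  intro y hy
  have h1 := mem_nrm.1 (h (conj_mem_cj hy))
  rw [mem_nrm]
  intro t
  rw [mem_conj_cent, mem_conj_cent, h1]
  have e1 : x * y * x⁻¹ * (x⁻¹⁻¹ * t * x⁻¹) * (x * y * x⁻¹)⁻¹ = x⁻¹⁻¹ * (y * t * y⁻¹) * x⁻¹ := by group
  rw [e1]

/-- the subgroups of the Suzuki groups -/
theorem sub_main (M : Subgroup (Gz F m)) : (∃ x : Gz F m, cj x M ≤ BB F m) ∨
    (∃ g : Gz F m, g ≠ 1 ∧ Odd (orderOf g) ∧ M ≤ normalizer ((centralizer {g} : Subgroup (Gz F m)) : Set (Gz F m))) ∨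
    ∃ (k : ℕ) (x : Gz F m), IsStd (cj x M) k := by
  by_cases he : 2 ∣ Nat.card M
  · obtain ⟨x, h | ⟨j, b, S⟩⟩ := exists_std1 M he
    · exact Or.inl ⟨x, h⟩
    · by_cases hj : j = 1
      · right; left
        obtain ⟨g, hg, hgo, hle⟩ := S.case_one hj
        refine ⟨x⁻¹ * g * x⁻¹⁻¹, ?_, ?_, norm_uncj hle⟩
        · intro h
          apply hg
          calc g = x * (x⁻¹ * g * x⁻¹⁻¹) * x⁻¹ := by group
            _ = 1 := by rw [h]; group
        · rw [orderOf_conj']; exact hgo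
      · right; right
        obtain ⟨i, S'⟩ := rescale S
        rw [cj_cj] at S'
        obtain ⟨k, h1, h2, h3⟩ := exists_k S' hj
        exact ⟨k, _, h1, h2, j, hj, h3, S'⟩
  · have ho : Odd (Nat.card M) := by
      rw [← Nat.not_even_iff_odd, even_iff_two_dvd]; exact he
    by_cases h1 : Nat.card M = 1
    · left
      refine ⟨1, ?_⟩
      have h2 : M = ⊥ := card_eq_one.1 h1
      intro g hg
      rw [mem_cj, h2, mem_bot] at hg
      have : g = 1 := by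
        calc g = 1⁻¹ * g * 1 := by group
          _ = 1 := hg
      rw [this]; exact one_mem _
    · right; left
      obtain ⟨g, hg1, hgo, hg⟩ := odd_group (oddCent_sub M) ho h1
      refine ⟨g, fun h => hg1 (Subtype.ext h), by rwa [orderOf_coe], ?_⟩
      apply norm_of_component hg1 hgo
      rw [← hg]
      exact normalizer_eq_top_iff.2 inferInstance

end CfsgL.Sz
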