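import Cfsg.Agent.L.Sz.Sub5

/-! Simple subgroups of the Suzuki groups; generation by two elements. -/

set_option autoImplicit false
set_option maxHeartbeats 400000

namespace CfsgL.Sz

open Subgroup CfsgL.Odd

variable {F : Type*} [Field F] [Fintype F] {m : ℕ} [CharP F 2] [hF : Fact (Fintype.card F = 2 ^ (2 * m + 1))]
variable [hm : Fact (1 ≤ m)]

theorem card_std {M : Subgroup (Gz F m)} {j : Fˣ} (S : Std1 M j 1) (hj : j ≠ 1) :
    Nat.card M = ((orderOf j + 1) ^ 2 + 1) * ((orderOf j + 1) ^ 2 * orderOf j) := by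
  obtain ⟨h1, h2, h3, -⟩ := S.case_two hj
  rw [S.lay.cardM, h2, h3, Zs_eq S hj]
  ring

theorem perfect_le_BB {M : Subgroup (Gz F m)} (hM : commutator M = ⊤) (h : M ≤ BB F m) : M ≤ QQ F m := by
  let f : M →* Fˣ := (prB (F := F) (m := m)).comp (inclusion h)
  have h1 : commutator M ≤ f.ker := Abelianization.commutator_subset_ker f
  rw [hM] at h1
  intro g hg
  have h2 : (⟨g, hg⟩ : M) ∈ f.ker := h1 trivial
  rw [MonoidHom.mem_ker] at h2
  have h3 : prB (⟨g, h hg⟩ : BB F m) = 1 := h2
  obtain ⟨a, b, hab⟩ := prB_spec (⟨g, h hg⟩ : BB F m)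
  rw [h3, hh_one, mul_one] at hab
  exact ⟨a, b, hab⟩

theorem relIndex_le_four {M : Subgroup (Gz F m)} {g : Gz F m} (hg : g ≠ 1) (ho : Odd (orderOf g))
    (h : M ≤ normalizer ((centralizer {g} : Subgroup (Gz F m)) : Set (Gz F m))) :
    (centralizer {g}).relIndex M ∣ 4 := by
  obtain ⟨n, hn, hN⟩ := norm_odd hg ho
  obtain ⟨C, hC⟩ : ∃ C, C = centralizer {g} := ⟨_, rfl⟩
  obtain ⟨N, hNd⟩ : ∃ N, N = normalizer ((centralizer {g} : Subgroup (Gz F m)) : Set (Gz F m)) := ⟨_, rfl⟩
  rw [← hNd] at h hN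
  rw [← hC] at hN ⊢
  have hCN : C ≤ N := by rw [hNd, hC]; exact le_normalizer
  have hnorm : (C.subgroupOf N).Normal := by
    rw [hNd, hC]; exact normal_in_normalizer
  have h4 : C.relIndex M ∣ C.relIndex N := by
    have h5 : C.relIndex M = (C.subgroupOf N).relIndex (M.subgroupOf N) := by
      rw [relIndex_subgroupOf h]
    rw [h5]
    exact relIndex_dvd_index_of_normal _ _
  have h6 : C.relIndex N * Nat.card C = Nat.card N := relIndex_card hCN
  have h8 : C.relIndex N = n := Nat.eq_of_mul_eq_mul_right Nat.card_pos (h6.trans hN)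
  rw [h8] at h4
  refine h4.trans ?_
  rcases hn with rfl | rfl | rfl <;> decide

theorem simple_not_norm {M : Subgroup (Gz F m)} (hM : commutator M = ⊤) (hs : IsSimpleGroup M) (hc : 4 < Nat.card M)
    {g : Gz F m} (hg : g ≠ 1) (ho : Odd (orderOf g)) :
    ¬ M ≤ normalizer ((centralizer {g} : Subgroup (Gz F m)) : Set (Gz F m)) := by
  intro h
  have h1 := relIndex_le_four hg ho h
  have hn : ((centralizer {g}).subgroupOf M).Normal := by
    refine ⟨fun t ht x => ?_⟩
    rw [mem_subgroupOf] at ht ⊢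
    exact (mem_nrm.1 (h x.2) t).1 ht
  rcases hn.eq_bot_or_eq_top with h2 | h2
  · rw [relIndex, h2, index_bot] at h1
    exact absurd (Nat.le_of_dvd (by norm_num) h1) (by omega)
  · rw [subgroupOf_eq_top] at h2
    have h3 : commutator M = ⊥ := by
      rw [commutator_def, commutator_eq_bot_iff_le_centralizer]
      intro x _
      rw [mem_centralizer_iff]
      intro y _
      apply Subtype.ext
      have h4 := mem_centralizer_singleton_iff.1 (h2 x.2)
      have h5 := mem_centralizer_singleton_iff.1 (h2 y.2)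
      exact cent_comm_of_cyclic (cent_odd hg ho).1 h5 h4
    rw [hM] at h3
    have h4 : Nat.card (⊤ : Subgroup M) = Nat.card (⊥ : Subgroup M) := by rw [h3]
    rw [card_top, card_bot] at h4
    omega

section
variable {K : Type*} [Field K] [Fintype K] {k : ℕ} [CharP K 2] [hK : Fact (Fintype.card K = 2 ^ (2 * k + 1))]
variable [hk : Fact (1 ≤ k)]

theorem card_Gz_big : 4 < Nat.card (Gz K k) := by
  rw [card_Gz]
  have h := card_F_ge (F := K) (m := k)
  have h1 : 1 ≤ Nat.card K ^ 2 * (Nat.card K - 1) := Nat.mul_pos (pow_pos (by omega) 2) (by omega)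
  calc 4 < (8 ^ 2 + 1) * 1 := by norm_num
    _ ≤ (Nat.card K ^ 2 + 1) * (Nat.card K ^ 2 * (Nat.card K - 1)) :=
      Nat.mul_le_mul (Nat.add_le_add_right (Nat.pow_le_pow_left h 2) 1) h1

theorem poly_mono {a b : ℕ} (ha : 2 ≤ a) (h : a < b) : (a ^ 2 + 1) * (a ^ 2 * (a - 1)) < (b ^ 2 + 1) * (b ^ 2 * (b - 1)) := by
  apply Nat.mul_lt_mul_of_lt_of_le'
  · exact Nat.add_lt_add_right (Nat.pow_lt_pow_left h (by norm_num)) 1
  · exact Nat.mul_le_mul (Nat.pow_le_pow_left h.le 2) (by omega)
  · exact Nat.mul_pos (pow_pos (by omega) 2) (by omega)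

theorem poly_inj {a b : ℕ} (ha : 2 ≤ a) (hb : 2 ≤ b) (h : (a ^ 2 + 1) * (a ^ 2 * (a - 1)) = (b ^ 2 + 1) * (b ^ 2 * (b - 1))) :
    a = b := by
  rcases lt_trichotomy a b with h1 | h1 | h1
  · exact absurd h (poly_mono ha h1).ne
  · exact h1
  · exact absurd h (poly_mono hb h1).ne'

/-- a subgroup isomorphic to a smaller Suzuki group is conjugate to the standard one -/
theorem conj_std {S : Subgroup (Gz F m)} (hd : 2 * k + 1 ∣ 2 * m + 1) (φ : K →+* F) (e : S ≃* Gz K k) :
    ∃ x, cj x S = (emb hd φ).range := by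
  haveI hs : IsSimpleGroup (Gz K k) := isSimple
  haveI hs' : IsSimpleGroup S := e.isSimpleGroup
  have hperf : commutator S = ⊤ := by
    have h1 : (commutator (Gz K k)).map e.symm.toMonoidHom = commutator S := by
      rw [_root_.commutator_def, _root_.commutator_def, map_commutator, map_top_of_surjective _ e.symm.surjective]
    rw [← h1, comm_top, map_top_of_surjective _ e.symm.surjective]
  have hcard : Nat.card S = Nat.card (Gz K k) := Nat.card_congr e.toEquiv
  rcases sub_main S with ⟨x, hx⟩ | ⟨g, hg, hgo, hM2⟩ | ⟨k', x, hk1, hd', j, hj, ho, St⟩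
  · exfalso
    have e2 : S ≃* cj x S := S.equivMapOfInjective _ (MulAut.conj x).injective
    have hperf' : commutator (cj x S) = ⊤ := by
      have h1 : (commutator S).map e2.toMonoidHom = commutator (cj x S) := by
        rw [_root_.commutator_def, _root_.commutator_def, map_commutator, map_top_of_surjective _ e2.surjective]
      rw [← h1, hperf, map_top_of_surjective _ e2.surjective]
    have h1 := perfect_le_BB hperf' hx
    have h2 : IsPGroup 2 (cj x S) := isPGroup_QQ.to_le h1
    obtain ⟨n, hn⟩ := IsPGroup.iff_card.1 h2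
    rw [← Nat.card_congr e2.toEquiv, hcard, card_Gz] at hn
    have h3 : Nat.card K ^ 2 + 1 ∣ 2 ^ n := by rw [← hn]; exact dvd_mul_right _ _
    obtain ⟨l, -, hl⟩ := (Nat.dvd_prime_pow Nat.prime_two).1 h3
    have h4 := odd_of_dvd (card_F_even (F := K) (m := k)) (dvd_refl (Nat.card K ^ 2 + 1))
    rw [hl] at h4
    rcases l with _ | l
    · have h8 := card_F_ge (F := K) (m := k)
      rw [pow_zero] at hl
      have : 1 ≤ Nat.card K ^ 2 := Nat.pow_pos (lt_of_lt_of_le (by norm_num) h8)
      omega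
    · rw [← Nat.not_even_iff_odd] at h4
      apply h4
      rw [pow_succ]; exact even_two.mul_left _
  · exact absurd hM2 (simple_not_norm hperf hs' (by rw [hcard]; exact card_Gz_big) hg hgo)
  · refine ⟨x, ?_⟩
    have e2 : S ≃* cj x S := S.equivMapOfInjective _ (MulAut.conj x).injective
    have h1 := card_std St hj
    rw [← Nat.card_congr e2.toEquiv, hcard, card_Gz, ho, card_F (F := K) (m := k)] at h1
    have h2 : orderOf j = 2 ^ (2 * k' + 1) - 1 := by omega
    rw [h2] at h1
    have h3 := poly_inj (by rw [pow_succ]; have : 1 ≤ 2 ^ (2 * k) := Nat.one_le_two_pow; omega)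
      (by rw [pow_succ]; have : 1 ≤ 2 ^ (2 * k') := Nat.one_le_two_pow; omega) h1
    exact std_range St hj (by rw [ho, h3]) hd φ

end

end CfsgL.Sz
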