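import Cfsg.Agent.L.Sz.Cent

/-! The Suzuki groups: the fixed-point-free tori. -/

set_option autoImplicit false

namespace CfsgL.Sz

open Matrix Subgroup

variable {F : Type*} [Field F] [Fintype F] {m : ℕ} [CharP F 2] [hF : Fact (Fintype.card F = 2 ^ (2 * m + 1))]

/-- the matrix representation -/
def rho : Gz F m →* Matrix (Fin 4) (Fin 4) F where
  toFun g := g.1.1
  map_one' := rfl
  map_mul' _ _ := rfl

theorem rho_inj : Function.Injective (rho (F := F) (m := m)) := fun _ _ h =>
  Subtype.ext (Subtype.ext h)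

/-- fixed point free tori -/
def Tor (T : Subgroup (Gz F m)) : Prop := ∃ g : Gz F m, Fpf g ∧ T = centralizer {g}

section
variable [hm : Fact (1 ≤ m)]

theorem cent_prime {g : Gz F m} {p : ℕ} (hp : p.Prime) (hg : orderOf g = p) (hpd : p ∣ Nat.card F ^ 2 + 1) :
    IsCyclic (centralizer {g}) ∧ Nat.card {x : Gz F m // x ∈ centralizer {g} ∧ ∃ n, x = n * g * n⁻¹} ≤ 4 := by
  have hp2 : p ≠ 2 := by
    rintro rfl
    have := odd_of_dvd (card_F_even (F := F) (m := m)) hpd
    exact absurd this (by decide)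
  rw [Nat.card_eq_fintype_card] at hpd
  exact cyc_cent rho rho_inj g hp hp2 hpd (by rw [← hg, pow_orderOf_eq_one])
    (by rintro rfl; rw [orderOf_one] at hg; exact hp.one_lt.ne hg)

theorem cent_comm_of_cyclic {G : Type*} [Group G] {g x y : G} (h : IsCyclic (centralizer {g}))
    (hx : x * g = g * x) (hy : y * g = g * y) : x * y = y * x := by
  letI := h.commGroup
  have := mul_comm (⟨x, mem_centralizer_singleton_iff.2 hx⟩ : centralizer {g})
    ⟨y, mem_centralizer_singleton_iff.2 hy⟩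
  exact congrArg Subtype.val this

theorem Fpf.order_dvd {g : Gz F m} (hg : Fpf g) : orderOf g ∣ Nat.card F ^ 2 + 1 := by
  rw [← Nat.card_zpowers]
  apply card_dvd_of_semireg
  rintro t ⟨k, rfl⟩ ht
  exact hg.of_comm ht (Commute.refl g |>.zpow_right k)

theorem exists_prime_pow {g : Gz F m} (hg : Fpf g) :
    ∃ p k : ℕ, p.Prime ∧ p ∣ Nat.card F ^ 2 + 1 ∧ orderOf (g ^ k) = p := by
  have h1 : orderOf g ≠ 1 := fun h => hg.ne_one (orderOf_eq_one_iff.1 h)
  obtain ⟨p, hp, hpd⟩ := Nat.exists_prime_and_dvd h1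
  refine ⟨p, orderOf g / p, hp, hpd.trans hg.order_dvd, ?_⟩
  exact orderOf_pow_orderOf_div (orderOf_pos g).ne' hpd

/-- The centralizer of a fixed-point-free element equals that of a prime order power. -/
theorem cent_eq {g : Gz F m} (hg : Fpf g) {p k : ℕ} (hp : p.Prime) (hpd : p ∣ Nat.card F ^ 2 + 1)
    (hk : orderOf (g ^ k) = p) : centralizer {g} = centralizer {g ^ k} := by
  have h1 := (cent_prime hp hk hpd).1
  apply le_antisymm
  · intro x hx
    rw [mem_centralizer_singleton_iff] at hx ⊢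
    exact (Commute.pow_right (show Commute x g from hx) k)
  · intro x hx
    rw [mem_centralizer_singleton_iff] at hx ⊢
    exact cent_comm_of_cyclic h1 hx ((Commute.refl g).pow_right k)

theorem cent_cyclic {g : Gz F m} (hg : Fpf g) : IsCyclic (centralizer {g}) := by
  obtain ⟨p, k, hp, hpd, hk⟩ := exists_prime_pow hg
  rw [cent_eq hg hp hpd hk]
  exact (cent_prime hp hk hpd).1

theorem cent_of_mem {g t : Gz F m} (hg : Fpf g) (ht : t ∈ centralizer {g}) (ht1 : t ≠ 1) :
    centralizer {t} = centralizer {g} := by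
  have htg := mem_centralizer_singleton_iff.1 ht
  have htf : Fpf t := hg.of_comm ht1 htg.symm
  apply le_antisymm
  · intro x hx
    rw [mem_centralizer_singleton_iff] at hx ⊢
    exact cent_comm_of_cyclic (cent_cyclic htf) hx htg.symm
  · intro x hx
    rw [mem_centralizer_singleton_iff] at hx ⊢
    exact cent_comm_of_cyclic (cent_cyclic hg) hx htg

theorem Tor.cyclic {T : Subgroup (Gz F m)} (hT : Tor T) : IsCyclic T := by
  obtain ⟨g, hg, rfl⟩ := hT; exact cent_cyclic hg

theorem Tor.fpf {T : Subgroup (Gz F m)} (hT : Tor T) {t : Gz F m} (ht : t ∈ T) (ht1 : t ≠ 1) : Fpf t := by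
  obtain ⟨g, hg, rfl⟩ := hT
  exact hg.of_comm ht1 (mem_centralizer_singleton_iff.1 ht).symm

theorem Tor.cent {T : Subgroup (Gz F m)} (hT : Tor T) {t : Gz F m} (ht : t ∈ T) (ht1 : t ≠ 1) :
    centralizer {t} = T := by
  obtain ⟨g, hg, rfl⟩ := hT
  exact cent_of_mem hg ht ht1

theorem Tor.dvd {T : Subgroup (Gz F m)} (hT : Tor T) : Nat.card T ∣ Nat.card F ^ 2 + 1 :=
  card_dvd_of_semireg T fun _ ht ht1 => hT.fpf ht ht1

theorem Tor.exists_ne {T : Subgroup (Gz F m)} (hT : Tor T) : ∃ t ∈ T, t ≠ 1 := by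
  obtain ⟨g, hg, rfl⟩ := hT
  exact ⟨g, mem_centralizer_singleton_iff.2 rfl, hg.ne_one⟩

theorem mem_conj_cent {G : Type*} [Group G] {x t y : G} :
    y ∈ centralizer {x * t * x⁻¹} ↔ x⁻¹ * y * x ∈ centralizer {t} := by
  rw [mem_centralizer_singleton_iff, mem_centralizer_singleton_iff]
  constructor
  · intro h
    calc x⁻¹ * y * x * t = x⁻¹ * (y * (x * t * x⁻¹)) * x := by group
      _ = _ := by rw [h]; group
  · intro h
    calc y * (x * t * x⁻¹) = x * (x⁻¹ * y * x * t) * x⁻¹ := by group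
      _ = _ := by rw [h]; group

theorem Tor.ti {T : Subgroup (Gz F m)} (hT : Tor T) (x t : Gz F m) (ht : t ∈ T) (ht1 : t ≠ 1)
    (hx : x * t * x⁻¹ ∈ T) : x ∈ normalizer (T : Set (Gz F m)) := by
  have h1 : x * t * x⁻¹ ≠ 1 := by
    intro h
    apply ht1
    calc t = x⁻¹ * (x * t * x⁻¹) * x := by group
      _ = 1 := by rw [h]; group
  have h2 := hT.cent hx h1
  have h3 := hT.cent ht ht1
  rw [mem_nrm]
  intro s
  have h4 : s ∈ T ↔ s ∈ centralizer {t} := by rw [h3]
  have h5 : x * s * x⁻¹ ∈ T ↔ x * s * x⁻¹ ∈ centralizer {x * t * x⁻¹} := by rw [h2]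
  rw [h4, h5, mem_conj_cent]
  have h6 : x⁻¹ * (x * s * x⁻¹) * x = s := by group
  rw [h6]

/-- elements of prime order -/
theorem Tor.exists_order {T : Subgroup (Gz F m)} (hT : Tor T) {p : ℕ} (hp : p.Prime) (hpd : p ∣ Nat.card T) :
    ∃ t ∈ T, orderOf t = p := by
  haveI : Fact p.Prime := ⟨hp⟩
  obtain ⟨t, ht⟩ := exists_prime_orderOf_dvd_card' p hpd
  exact ⟨t, t.2, by rw [← ht, orderOf_coe]⟩

/-- Sylow subgroups inside a torus -/
theorem Tor.sylow {T : Subgroup (Gz F m)} (hT : Tor T) {p : ℕ} [Fact p.Prime] (hpd : p ∣ Nat.card T) :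
    ∃ P : Sylow p (Gz F m), (P : Subgroup (Gz F m)) ≤ T := by
  obtain ⟨t, htT, ht⟩ := hT.exists_order Fact.out hpd
  have h1 : IsPGroup p (zpowers t) := by
    rw [IsPGroup.iff_card]; exact ⟨1, by rw [Nat.card_zpowers, ht, pow_one]⟩
  obtain ⟨P, hP⟩ := h1.exists_le_sylow
  refine ⟨P, ?_⟩
  have htP : t ∈ P := hP (mem_zpowers t)
  have ht1 : t ≠ 1 := by
    rintro rfl
    rw [orderOf_one] at ht
    exact (Fact.out : p.Prime).one_lt.ne ht
  haveI : Nontrivial P := ⟨⟨t, htP⟩, 1, fun h => ht1 (congrArg Subtype.val h)⟩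
  haveI := P.2.center_nontrivial
  obtain ⟨z, hz⟩ := _root_.exists_ne (1 : center P)
  have hz1 : (z : Gz F m) ≠ 1 := fun h => hz (Subtype.ext (Subtype.ext h))
  have hzc : ∀ y ∈ P, y * (z : Gz F m) = z * y := by
    intro y hy
    have := (mem_center_iff.1 z.2) ⟨y, hy⟩
    exact congrArg Subtype.val this
  have hzT : (z : Gz F m) ∈ T := by
    rw [← hT.cent htT ht1, mem_centralizer_singleton_iff]
    exact (hzc t htP).symm
  intro y hy
  rw [← hT.cent hzT hz1, mem_centralizer_singleton_iff]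
  exact hzc y hy

theorem Tor.conj_into {T : Subgroup (Gz F m)} (hT : Tor T) {p : ℕ} (hp : p.Prime) (hpd : p ∣ Nat.card T)
    {g : Gz F m} (hg : orderOf g = p) : ∃ x, x * g * x⁻¹ ∈ T := by
  haveI : Fact p.Prime := ⟨hp⟩
  obtain ⟨P, hP⟩ := hT.sylow hpd
  have h1 : IsPGroup p (zpowers g) := by
    rw [IsPGroup.iff_card]; exact ⟨1, by rw [Nat.card_zpowers, hg, pow_one]⟩
  obtain ⟨Q, hQ⟩ := h1.exists_le_sylow
  obtain ⟨x, hx⟩ := MulAction.exists_smul_eq (Gz F m) Q P
  refine ⟨x, hP ?_⟩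
  rw [← hx]
  change x * g * x⁻¹ ∈ ((x • Q : Sylow p (Gz F m)) : Subgroup (Gz F m))
  rw [Sylow.coe_subgroup_smul, Subgroup.mem_pointwise_smul_iff_inv_smul_mem, ← map_inv]
  change x⁻¹ * (x * g * x⁻¹) * x⁻¹⁻¹ ∈ Q
  have h2 : x⁻¹ * (x * g * x⁻¹) * x⁻¹⁻¹ = g := by group
  rw [h2]
  exact hQ (mem_zpowers g)

theorem Tor.coprime {T : Subgroup (Gz F m)} (hT : Tor T) {p : ℕ} (hp : p.Prime) (hpd : p ∣ Nat.card T) :
    ¬ p ∣ T.index := by
  haveI : Fact p.Prime := ⟨hp⟩
  obtain ⟨P, hP⟩ := hT.sylow hpd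
  intro h
  exact P.not_dvd_index (h.trans (index_dvd_of_le hP))

/-- any fixed point free element `g` whose order meets `|T|` is conjugate into `T`. -/
theorem Tor.conj_all {T : Subgroup (Gz F m)} (hT : Tor T) {p : ℕ} (hp : p.Prime) (hpd : p ∣ Nat.card T)
    {g : Gz F m} (hg : Fpf g) (hpg : p ∣ orderOf g) : ∃ x, x * g * x⁻¹ ∈ T := by
  obtain ⟨k, hk⟩ : ∃ k, orderOf (g ^ k) = p :=
    ⟨_, orderOf_pow_orderOf_div (orderOf_pos g).ne' hpg⟩
  obtain ⟨x, hx⟩ := hT.conj_into hp hpd hk
  refine ⟨x, ?_⟩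
  have h1 : x * g ^ k * x⁻¹ ≠ 1 := by
    intro h
    have h2 : g ^ k = 1 := by
      calc g ^ k = x⁻¹ * (x * g ^ k * x⁻¹) * x := by group
        _ = 1 := by rw [h]; group
    rw [h2, orderOf_one] at hk
    exact hp.one_lt.ne hk
  rw [← hT.cent hx h1, mem_centralizer_singleton_iff]
  calc x * g * x⁻¹ * (x * g ^ k * x⁻¹) = x * (g * g ^ k) * x⁻¹ := by group
    _ = x * (g ^ k * g) * x⁻¹ := by rw [(Commute.refl g).pow_right k]
    _ = _ := by group

/-! ### The normalizer -/

omit [CharP F 2] hm in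
include hF in
theorem not_three_dvd [CharP F 2] [hm : Fact (1 ≤ m)] : ¬ 3 ∣ Nat.card (Gz F m) := by
  rw [card_Gz]
  have h1 : Nat.card F % 3 = 2 := by
    rw [card_F (m := m)]
    induction m with
    | zero => rfl
    | succ n ih =>
      have : 2 ^ (2 * (n + 1) + 1) = 2 ^ (2 * n + 1) * 4 := by ring
      rw [this]
      clear ih
      have h2 : ∀ n : ℕ, 2 ^ (2 * n + 1) % 3 = 2 := by
        intro n
        induction n with
        | zero => rfl
        | succ n ih => 
          have : 2 ^ (2 * (n + 1) + 1) = 2 ^ (2 * n + 1) * 4 := by ring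
          rw [this]; omega
      have := h2 n
      omega
  obtain ⟨k, hk⟩ : ∃ k, Nat.card F = 3 * k + 2 := ⟨Nat.card F / 3, by omega⟩
  rw [hk]
  intro h
  rcases (Nat.Prime.dvd_mul Nat.prime_three).1 h with h | h
  · have : (3 * k + 2) ^ 2 + 1 = 3 * (3 * k ^ 2 + 4 * k + 1) + 2 := by ring
    rw [this] at h; omega
  · rcases (Nat.Prime.dvd_mul Nat.prime_three).1 h with h | h
    · have h2 := Nat.prime_three.dvd_of_dvd_pow h
      omega
    · omega

theorem Tor.norm_card {T : Subgroup (Gz F m)} (hT : Tor T) :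
    ∃ n, (n = 1 ∨ n = 2 ∨ n = 4) ∧ Nat.card (normalizer (T : Set (Gz F m))) = n * Nat.card T := by
  obtain ⟨n, hn⟩ : Nat.card T ∣ Nat.card (normalizer (T : Set (Gz F m))) := card_dvd_of_le le_normalizer
  have hTpos : 0 < Nat.card T := Nat.card_pos
  have hNpos : 0 < Nat.card (normalizer (T : Set (Gz F m))) := Nat.card_pos
  have hn0 : n ≠ 0 := by rintro rfl; rw [mul_zero] at hn; omega
  have hn4 : n ≤ 4 := by
    obtain ⟨t₀, ht₀T, ht₀1⟩ := hT.exists_ne
    obtain ⟨p, k, hp, hpd, hk⟩ := exists_prime_pow (hT.fpf ht₀T ht₀1)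
    obtain ⟨t, ht⟩ : ∃ t, t = t₀ ^ k := ⟨_, rfl⟩
    rw [← ht] at hk
    have htT : t ∈ T := by rw [ht]; exact pow_mem ht₀T k
    have ht1 : t ≠ 1 := by
      rintro rfl
      rw [orderOf_one] at hk
      exact hp.one_lt.ne hk
    have h4 := (cent_prime hp hk hpd).2
    have hct := hT.cent htT ht1
    -- the map `N → conjugates`
    let S := {x : Gz F m // x ∈ centralizer {t} ∧ ∃ n, x = n * t * n⁻¹}
    have hmap : ∀ x : normalizer (T : Set (Gz F m)), (x : Gz F m) * t * (x : Gz F m)⁻¹ ∈ centralizer {t} := by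
      intro x
      rw [hct]
      exact (mem_nrm.1 x.2 t).1 htT
    let φ : normalizer (T : Set (Gz F m)) → S := fun x => ⟨_, hmap x, _, rfl⟩
    classical
    haveI : Fintype S := Fintype.ofFinite _
    haveI : Fintype (normalizer (T : Set (Gz F m))) := Fintype.ofFinite _
    have h5 : Fintype.card (normalizer (T : Set (Gz F m))) ≤ Nat.card T * Fintype.card S := by
      have := Finset.card_le_mul_card_image_of_maps_to (s := Finset.univ) (t := Finset.univ) (f := φ)
        (fun x _ => Finset.mem_univ _) (n := Nat.card T) ?_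
      · rwa [Finset.card_univ, Finset.card_univ] at this
      · intro s _
        by_cases hs : ∃ x, φ x = s
        · obtain ⟨x, hx⟩ := hs
          have h6 : (Finset.univ.filter (fun y => φ y = s)).card ≤ Fintype.card (centralizer {t}) := by
            rw [← Finset.card_univ]
            refine Finset.card_le_card_of_injOn (fun y => (if hy : (x : Gz F m)⁻¹ * (y : Gz F m) ∈ centralizer {t} then
              ⟨(x : Gz F m)⁻¹ * (y : Gz F m), hy⟩ else 1)) (fun _ _ => Finset.mem_univ _) ?_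
            have key : ∀ y : normalizer (T : Set (Gz F m)), φ y = s →
                (x : Gz F m)⁻¹ * (y : Gz F m) ∈ centralizer {t} := by
              intro y hy
              have h7 : (x : Gz F m) * t * (x : Gz F m)⁻¹ = (y : Gz F m) * t * (y : Gz F m)⁻¹ :=
                congrArg Subtype.val (hx.trans hy.symm)
              rw [mem_centralizer_singleton_iff]
              calc (x : Gz F m)⁻¹ * y * t = (x : Gz F m)⁻¹ * (y * t * (y : Gz F m)⁻¹) * y := by group
                _ = _ := by rw [← h7]; group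
            intro y hy z hz hyz
            have hy' := key y (Finset.mem_filter.1 hy).2
            have hz' := key z (Finset.mem_filter.1 hz).2
            simp only [dif_pos hy', dif_pos hz'] at hyz
            have h8 := congrArg Subtype.val hyz
            exact Subtype.ext (mul_left_cancel h8)
          have h9 : Fintype.card (centralizer {t}) = Nat.card T := by
            rw [← Nat.card_eq_fintype_card, hct]
          exact h6.trans h9.le
        · rw [Finset.filter_false_of_mem]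
          · simp
          · intro y _ hy
            exact hs ⟨y, hy⟩
    rw [← Nat.card_eq_fintype_card, ← Nat.card_eq_fintype_card, hn] at h5
    have h6 := Nat.le_of_mul_le_mul_left h5 hTpos
    exact h6.trans h4
  refine ⟨n, ?_, by rw [hn, mul_comm]⟩
  have h3 : n ≠ 3 := by
    rintro rfl
    apply not_three_dvd (F := F) (m := m)
    refine dvd_trans ?_ (card_subgroup_dvd_card (normalizer (T : Set (Gz F m))))
    rw [hn]; exact dvd_mul_left _ _
  omega

end

end CfsgL.Sz
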