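import Cfsg.Agent.L.Sz.Count

/-! The Suzuki groups: existence of the tori of orders `q ± r + 1`. -/

set_option autoImplicit false

namespace CfsgL.Sz

open Subgroup

theorem num_cancel {q X : ℤ} (hq : 8 ≤ q)
    (h : 4 * q ^ 2 + 2 * (q ^ 2 + 1) * (q - 2) + (q - 1) * X = 4 * (q ^ 2 + 1) * (q - 1)) :
    X = 2 * q ^ 2 - 2 * q := by
  have h1 : (q - 1) * (X - (2 * q ^ 2 - 2 * q)) = 0 := by linear_combination h
  rcases mul_eq_zero.1 h1 with h2 | h2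
  · omega
  · linarith

theorem num_two {q t1 t2 k1 k2 : ℤ} (hq : 8 ≤ q) (ht : t1 * t2 = q ^ 2 + 1) (h1 : 5 ≤ t1) (h2 : 5 ≤ t2)
    (hk1 : k1 = 1 ∨ k1 = 2 ∨ k1 = 4) (hk2 : k2 = 1 ∨ k2 = 2 ∨ k2 = 4)
    (h : 4 * q ^ 2 + 2 * (q ^ 2 + 1) * (q - 2) + (q - 1) * (k1 * (q ^ 2 + 1 - t2) + k2 * (q ^ 2 + 1 - t1))
      = 4 * (q ^ 2 + 1) * (q - 1)) : k1 = 1 ∧ k2 = 1 ∧ t1 + t2 = 2 * q + 2 := by
  have h3 := num_cancel hq h
  have h4 : 5 * t2 ≤ q ^ 2 + 1 := by rw [← ht]; nlinarith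
  have h5 : 5 * t1 ≤ q ^ 2 + 1 := by rw [← ht]; nlinarith
  rcases hk1 with rfl | rfl | rfl <;> rcases hk2 with rfl | rfl | rfl
  · exact ⟨rfl, rfl, by linarith⟩
  all_goals (exfalso; nlinarith)

theorem num_one {q k : ℤ} (hq : 8 ≤ q) (hk1 : k = 1 ∨ k = 2 ∨ k = 4)
    (h : 4 * q ^ 2 + 2 * (q ^ 2 + 1) * (q - 2) + (q - 1) * (k * q ^ 2)
      = 4 * (q ^ 2 + 1) * (q - 1)) : False := by
  have h3 := num_cancel hq h
  have h4 : q * (k * q - (2 * q - 2)) = 0 := by linear_combination h3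
  rcases mul_eq_zero.1 h4 with h5 | h5
  · omega
  · rcases hk1 with rfl | rfl | rfl <;> linarith

variable {F : Type*} [Field F] [Fintype F] {m : ℕ} [CharP F 2] [hF : Fact (Fintype.card F = 2 ^ (2 * m + 1))]

section
variable [hm : Fact (1 ≤ m)]

theorem tor_of_prime {p : ℕ} (hp : p.Prime) (hpd : p ∣ Nat.card F ^ 2 + 1) :
    ∃ T : Subgroup (Gz F m), Tor T ∧ p ∣ Nat.card T := by
  haveI : Fact p.Prime := ⟨hp⟩
  obtain ⟨g, hg⟩ := exists_prime_orderOf_dvd_card' (G := Gz F m) p (by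
    rw [card_Gz]; exact hpd.mul_right _)
  have hg1 : g ≠ 1 := by
    rintro rfl
    rw [orderOf_one] at hg
    exact hp.one_lt.ne hg
  have hf : Fpf g := fpf_of_dvd hg1 (by rw [hg]; exact hpd)
  refine ⟨centralizer {g}, ⟨g, hf, rfl⟩, ?_⟩
  rw [← hg]
  exact Subgroup.orderOf_dvd_natCard _ (mem_centralizer_singleton_iff.2 rfl)

theorem Tor.conj_eq {T₁ T₂ : Subgroup (Gz F m)} (h₁ : Tor T₁) (h₂ : Tor T₂) {p : ℕ} (hp : p.Prime)
    (hp1 : p ∣ Nat.card T₁) (hp2 : p ∣ Nat.card T₂) :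
    ∃ x : Gz F m, ∀ y, y ∈ T₂ ↔ x * y * x⁻¹ ∈ T₁ := by
  obtain ⟨t, htT, ht⟩ := h₂.exists_order hp hp2
  obtain ⟨x, hx⟩ := h₁.conj_into hp hp1 ht
  have ht1 : t ≠ 1 := by
    rintro rfl
    rw [orderOf_one] at ht
    exact hp.one_lt.ne ht
  have hx1 : x * t * x⁻¹ ≠ 1 := by
    intro h
    apply ht1
    calc t = x⁻¹ * (x * t * x⁻¹) * x := by group
      _ = 1 := by rw [h]; group
  refine ⟨x, fun y => ?_⟩
  have h3 := h₂.cent htT ht1
  have h4 := h₁.cent hx hx1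
  have h5 : x * y * x⁻¹ ∈ T₁ ↔ x * y * x⁻¹ ∈ centralizer {x * t * x⁻¹} := by rw [h4]
  have h6 : y ∈ T₂ ↔ y ∈ centralizer {t} := by rw [h3]
  rw [h5, h6, mem_conj_cent]
  have : x⁻¹ * (x * y * x⁻¹) * x = y := by group
  rw [this]

theorem Tor.card_eq {T₁ T₂ : Subgroup (Gz F m)} (h₁ : Tor T₁) (h₂ : Tor T₂) {p : ℕ} (hp : p.Prime)
    (hp1 : p ∣ Nat.card T₁) (hp2 : p ∣ Nat.card T₂) : Nat.card T₁ = Nat.card T₂ := by
  obtain ⟨x, hx⟩ := h₁.conj_eq h₂ hp hp1 hp2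
  apply Nat.card_congr
  refine ⟨fun y => ⟨x⁻¹ * y * x, ?_⟩, fun y => ⟨x * y * x⁻¹, (hx _).1 y.2⟩, ?_, ?_⟩
  · rw [hx]
    have : x * (x⁻¹ * (y : Gz F m) * x) * x⁻¹ = y := by group
    rw [this]; exact y.2
  · intro y
    apply Subtype.ext
    change x * (x⁻¹ * (y : Gz F m) * x) * x⁻¹ = y
    group
  · intro y
    apply Subtype.ext
    change x⁻¹ * (x * (y : Gz F m) * x⁻¹) * x = y
    group

theorem Tor.cop {T₁ T₂ : Subgroup (Gz F m)} (h₁ : Tor T₁) (h₂ : Tor T₂) {p : ℕ}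
    (hp1 : ¬ p ∣ Nat.card T₁) (hp2 : p ∣ Nat.card T₂) : Nat.Coprime (Nat.card T₁) (Nat.card T₂) := by
  rw [Nat.coprime_iff_gcd_eq_one]
  by_contra h
  obtain ⟨r, hr, hrd⟩ := Nat.exists_prime_and_dvd h
  have h1 := h₁.card_eq h₂ hr (hrd.trans (Nat.gcd_dvd_left _ _)) (hrd.trans (Nat.gcd_dvd_right _ _))
  rw [h1] at hp1
  exact hp1 hp2

theorem Tor.cop_s {T : Subgroup (Gz F m)} (h : Tor T) {s : ℕ} (hs : Nat.card F ^ 2 + 1 = Nat.card T * s)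
    {p : ℕ} (hp : p.Prime) (hps : p ∣ s) : ¬ p ∣ Nat.card T := by
  intro hpt
  apply h.coprime hp hpt
  have h1 := index_mul_card T
  rw [card_Gz, hs] at h1
  have h2 : T.index = s * (Nat.card F ^ 2 * (Nat.card F - 1)) := by
    have hT : 0 < Nat.card T := Nat.card_pos
    apply Nat.eq_of_mul_eq_mul_right hT
    rw [h1]; ring
  rw [h2]
  exact hps.mul_right _

theorem Tor.five_le {T : Subgroup (Gz F m)} (h : Tor T) : 5 ≤ Nat.card T := by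
  have h1 := h.dvd
  have h2 := odd_of_dvd (card_F_even (F := F) (m := m)) h1
  obtain ⟨t, ht, ht1⟩ := h.exists_ne
  have h3 : 1 < Nat.card T := by
    rw [Finite.one_lt_card_iff_nontrivial]
    exact ⟨⟨t, ht⟩, 1, fun h => ht1 (congrArg Subtype.val h)⟩
  have h4 : ¬ 3 ∣ Nat.card T := fun h => not_three_dvd (F := F) (m := m) (h.trans (card_subgroup_dvd_card T))
  obtain ⟨k, hk⟩ := h2
  by_contra h5
  have h6 : Nat.card T = 3 := by omega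
  exact h4 (by rw [h6])

theorem Tor.cc_big {T : Subgroup (Gz F m)} (h : Tor T) : Nat.card (Gz F m) ≤ 5 * (CfsgL.Sz.cc T).ncard := by
  obtain ⟨i, n, hn, h1, h2, -⟩ := h.cc
  rw [← h1, h2]
  have h5 := h.five_le
  obtain ⟨t, ht⟩ : ∃ t, Nat.card T = t + 5 := ⟨Nat.card T - 5, by omega⟩
  rw [ht]
  have h6 : n ≤ 4 := by omega
  calc i * (n * (t + 5)) ≤ i * (4 * (t + 5)) := Nat.mul_le_mul_left _ (Nat.mul_le_mul_right _ h6)
    _ ≤ i * (5 * (t + 5 - 1)) := Nat.mul_le_mul_left _ (by omega)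
    _ = 5 * (i * (t + 5 - 1)) := by ring

theorem cc_KK_big : 2 * Nat.card (Gz F m) ≤ 5 * (cc (KK F m)).ncard := by
  obtain ⟨i, h1, h2⟩ := cc_KK (F := F) (m := m)
  rw [← h1, h2]
  have h3 := card_F_ge (F := F) (m := m)
  calc 2 * (i * (2 * (Nat.card F - 1))) = i * (4 * (Nat.card F - 1)) := by ring
    _ ≤ i * (5 * (Nat.card F - 2)) := Nat.mul_le_mul_left _ (by omega)
    _ = 5 * (i * (Nat.card F - 2)) := by ring

theorem Tor.kdata {T : Subgroup (Gz F m)} (h : Tor T) {s : ℕ} (hs : Nat.card F ^ 2 + 1 = Nat.card T * s) :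
    ∃ k : ℕ, (k = 1 ∨ k = 2 ∨ k = 4) ∧
      4 * (CfsgL.Sz.cc T).ncard = k * (Nat.card F ^ 2 * (Nat.card F - 1) * s) * (Nat.card T - 1) ∧
      (k = 1 → Nat.card (normalizer (T : Set (Gz F m))) = 4 * Nat.card T) := by
  obtain ⟨i, n, hn, h1, h2, h3⟩ := h.cc
  have hT : 0 < Nat.card T := Nat.card_pos
  have h4 : i * n = Nat.card F ^ 2 * (Nat.card F - 1) * s := by
    apply Nat.eq_of_mul_eq_mul_right hT
    rw [mul_assoc, h1, card_Gz, hs]; ring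
  rw [h2]
  rcases hn with rfl | rfl | rfl
  · refine ⟨4, by omega, ?_, by omega⟩
    rw [← h4]; ring
  · refine ⟨2, by omega, ?_, by omega⟩
    rw [← h4]; ring
  · refine ⟨1, by omega, ?_, fun _ => h3⟩
    rw [← h4]; ring

/-- the basic equation -/
theorem basic_eq {X : ℤ} (hX : 4 * ((fpfSet F m).ncard : ℤ) = (Nat.card F : ℤ) ^ 2 * ((Nat.card F : ℤ) - 1) * X) :
    4 * (Nat.card F : ℤ) ^ 2 + 2 * ((Nat.card F : ℤ) ^ 2 + 1) * (Nat.card F - 2) +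
      ((Nat.card F : ℤ) - 1) * X = 4 * ((Nat.card F : ℤ) ^ 2 + 1) * (Nat.card F - 1) := by
  have h1 := count_total (F := F) (m := m)
  obtain ⟨i, h2, h3⟩ := cc_KK (F := F) (m := m)
  rw [cc_QQ, h3, card_Gz] at h1
  rw [card_Gz] at h2
  obtain ⟨q, hq⟩ : ∃ q, q = Nat.card F := ⟨_, rfl⟩
  have h4 := card_F_ge (F := F) (m := m)
  rw [← hq] at h1 h2 h4 hX ⊢
  obtain ⟨c, rfl⟩ : ∃ c, q = c + 2 := ⟨q - 2, by omega⟩
  have e1 : c + 2 - 1 = c + 1 := by omega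
  have e2 : c + 2 - 2 = c := by omega
  have e3 : (c + 2) ^ 2 - 1 = c ^ 2 + 4 * c + 3 := by
    have : (c + 2) ^ 2 = c ^ 2 + 4 * c + 3 + 1 := by ring
    omega
  rw [e1] at h1 h2
  rw [e2, e3] at h1
  have h5 : 2 * i = ((c + 2) ^ 2 + 1) * (c + 2) ^ 2 := by
    apply Nat.eq_of_mul_eq_mul_right (show 0 < c + 1 by omega)
    rw [mul_assoc ((c + 2) ^ 2 + 1), ← h2]; ring
  push_cast at hX ⊢
  have h1' : (1 : ℤ) + ((c + 2) ^ 2 + 1) * (c ^ 2 + 4 * c + 3) + i * c + ((fpfSet F m).ncard : ℤ) =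
      ((c + 2) ^ 2 + 1) * ((c + 2) ^ 2 * (c + 1)) := by exact_mod_cast h1
  have h5' : (2 : ℤ) * i = ((c + 2) ^ 2 + 1) * (c + 2) ^ 2 := by exact_mod_cast h5
  have h6 : ((c : ℤ) + 2) ^ 2 * (4 * (c + 2) ^ 2 + 2 * ((c + 2) ^ 2 + 1) * (c + 2 - 2) + (c + 2 - 1) * X -
      4 * ((c + 2) ^ 2 + 1) * (c + 2 - 1)) = 0 := by
    linear_combination 4 * h1' - 2 * (c : ℤ) * h5' - hX
  rcases mul_eq_zero.1 h6 with h7 | h7
  · exfalso
    have : (c : ℤ) + 2 = 0 := pow_eq_zero_iff (two_ne_zero) |>.1 h7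
    omega
  · linarith

theorem tori_exist : ∃ T₁ T₂ : Subgroup (Gz F m), Tor T₁ ∧ Tor T₂ ∧
    Nat.card T₁ = Nat.card F + 2 ^ (m + 1) + 1 ∧ Nat.card T₂ + 2 ^ (m + 1) = Nat.card F + 1 ∧
    Nat.card (normalizer (T₁ : Set (Gz F m))) = 4 * Nat.card T₁ ∧
    Nat.card (normalizer (T₂ : Set (Gz F m))) = 4 * Nat.card T₂ ∧
    Nat.card T₁ * Nat.card T₂ = Nat.card F ^ 2 + 1 ∧ Nat.Coprime (Nat.card T₁) (Nat.card T₂) ∧
    ∀ g : Gz F m, Fpf g → g ∈ cc T₁ ∨ g ∈ cc T₂ := by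
  have hq8 := card_F_ge (F := F) (m := m)
  have hq8' : (8 : ℤ) ≤ Nat.card F := by exact_mod_cast hq8
  obtain ⟨p₁, hp₁, hp₁d⟩ := Nat.exists_prime_and_dvd (show Nat.card F ^ 2 + 1 ≠ 1 by
    have : 0 < Nat.card F ^ 2 := pow_pos (by omega) 2
    omega)
  obtain ⟨T₁, hT₁, hpT₁⟩ := tor_of_prime (F := F) (m := m) hp₁ hp₁d
  obtain ⟨s, hs⟩ := hT₁.dvd
  have hsub : ∀ {T : Subgroup (Gz F m)}, Tor T → cc T ⊆ fpfSet F m := fun hT g hg => hT.cc_fpf hg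
  have hfpf_prime : ∀ g : Gz F m, Fpf g → ∃ p : ℕ, p.Prime ∧ p ∣ orderOf g ∧ p ∣ Nat.card F ^ 2 + 1 := by
    intro g hg
    have h1 : orderOf g ≠ 1 := fun h => hg.ne_one (orderOf_eq_one_iff.1 h)
    obtain ⟨p, hp, hpd⟩ := Nat.exists_prime_and_dvd h1
    exact ⟨p, hp, hpd, hpd.trans hg.order_dvd⟩
  by_cases hs1 : s = 1
  · exfalso
    subst hs1
    have hall : fpfSet F m = cc T₁ := by
      apply Set.Subset.antisymm _ (hsub hT₁)
      intro g hg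
      obtain ⟨p, hp, hpg, hpd⟩ := hfpf_prime g hg
      rw [hs, mul_one] at hpd
      obtain ⟨x, hx⟩ := hT₁.conj_all hp hpd hg hpg
      exact ⟨Fpf.ne_one hg, x, hx⟩
    obtain ⟨k, hk, h4, -⟩ := hT₁.kdata hs
    rw [← hall, mul_one] at h4
    rw [mul_one] at hs
    rw [← hs] at h4
    refine num_one (k := k) hq8' (by omega) ?_
    apply basic_eq (F := F) (m := m)
    have h5 : Nat.card F ^ 2 + 1 - 1 = Nat.card F ^ 2 := rfl
    rw [h5] at h4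
    have h6 : (4 : ℤ) * ((fpfSet F m).ncard : ℤ) = ((k * (Nat.card F ^ 2 * (Nat.card F - 1)) *
        (Nat.card F ^ 2) : ℕ) : ℤ) := by exact_mod_cast h4
    rw [h6]
    push_cast [Nat.cast_sub (show 1 ≤ Nat.card F by omega)]
    ring
  obtain ⟨p₂, hp₂, hp₂s⟩ := Nat.exists_prime_and_dvd hs1
  have hp₂d : p₂ ∣ Nat.card F ^ 2 + 1 := by rw [hs]; exact hp₂s.mul_left _
  obtain ⟨T₂, hT₂, hpT₂⟩ := tor_of_prime (F := F) (m := m) hp₂ hp₂d
  have hcop := hT₁.cop hT₂ (hT₁.cop_s hs hp₂ hp₂s) hpT₂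
  obtain ⟨s', hs'⟩ := hcop.mul_dvd_of_dvd_of_dvd hT₁.dvd hT₂.dvd
  by_cases hs1' : s' = 1
  · subst hs1'
    rw [mul_one] at hs'
    have hall : fpfSet F m = cc T₁ ∪ cc T₂ := by
      apply Set.Subset.antisymm _ (Set.union_subset (hsub hT₁) (hsub hT₂))
      intro g hg
      obtain ⟨p, hp, hpg, hpd⟩ := hfpf_prime g hg
      rw [hs'] at hpd
      rcases hp.dvd_mul.1 hpd with h | h
      · obtain ⟨x, hx⟩ := hT₁.conj_all hp h hg hpg
        exact Or.inl ⟨Fpf.ne_one hg, x, hx⟩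
      · obtain ⟨x, hx⟩ := hT₂.conj_all hp h hg hpg
        exact Or.inr ⟨Fpf.ne_one hg, x, hx⟩
    have hncard : (fpfSet F m).ncard = (cc T₁).ncard + (cc T₂).ncard := by
      rw [hall, Set.ncard_union_eq (hT₁.disj hT₂ hcop)]
    obtain ⟨k₁, hk₁, h4₁, hN₁⟩ := hT₁.kdata hs'
    obtain ⟨k₂, hk₂, h4₂, hN₂⟩ := hT₂.kdata (s := Nat.card T₁) (by rw [hs']; ring)
    have h5₁ := hT₁.five_le
    have h5₂ := hT₂.five_le
    have hs'' : (Nat.card T₁ : ℤ) * Nat.card T₂ = (Nat.card F : ℤ) ^ 2 + 1 := by exact_mod_cast hs'.symm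
    obtain ⟨hk1, hk2, hsum⟩ := num_two (q := Nat.card F) (t1 := Nat.card T₁) (t2 := Nat.card T₂) (k1 := k₁)
      (k2 := k₂) hq8' hs'' (by exact_mod_cast h5₁) (by exact_mod_cast h5₂) (by omega) (by omega) (by
      apply basic_eq (F := F) (m := m)
      have h6₁ : (4 : ℤ) * ((cc T₁).ncard : ℤ) = k₁ * ((Nat.card F : ℤ) ^ 2 * (Nat.card F - 1) * Nat.card T₂) *
          (Nat.card T₁ - 1) := by
        have : (4 : ℤ) * ((cc T₁).ncard : ℤ) = ((k₁ * (Nat.card F ^ 2 * (Nat.card F - 1) * Nat.card T₂) *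
          (Nat.card T₁ - 1) : ℕ) : ℤ) := by exact_mod_cast h4₁
        rw [this]
        push_cast [Nat.cast_sub (show 1 ≤ Nat.card F by omega), Nat.cast_sub (show 1 ≤ Nat.card T₁ by omega)]
        ring
      have h6₂ : (4 : ℤ) * ((cc T₂).ncard : ℤ) = k₂ * ((Nat.card F : ℤ) ^ 2 * (Nat.card F - 1) * Nat.card T₁) *
          (Nat.card T₂ - 1) := by
        have : (4 : ℤ) * ((cc T₂).ncard : ℤ) = ((k₂ * (Nat.card F ^ 2 * (Nat.card F - 1) * Nat.card T₁) *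
          (Nat.card T₂ - 1) : ℕ) : ℤ) := by exact_mod_cast h4₂
        rw [this]
        push_cast [Nat.cast_sub (show 1 ≤ Nat.card F by omega), Nat.cast_sub (show 1 ≤ Nat.card T₂ by omega)]
        ring
      rw [hncard]
      push_cast
      rw [mul_add, h6₁, h6₂, ← hs'']
      ring)
    -- the values
    have hr : ((2 : ℤ) ^ (m + 1)) ^ 2 = 2 * Nat.card F := by
      rw [card_F (F := F) (m := m)]
      push_cast
      ring
    have hsq : ((Nat.card T₁ : ℤ) - (Nat.card F + 1) - 2 ^ (m + 1)) *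
        ((Nat.card T₁ : ℤ) - (Nat.card F + 1) + 2 ^ (m + 1)) = 0 := by
      have : (Nat.card T₂ : ℤ) = 2 * Nat.card F + 2 - Nat.card T₁ := by linarith
      rw [this] at hs''
      linear_combination (-1 : ℤ) * hs'' - hr
    have hfin : ∀ g : Gz F m, Fpf g → g ∈ cc T₁ ∨ g ∈ cc T₂ := by
      intro g hg
      have : g ∈ fpfSet F m := hg
      rw [hall] at this
      exact this
    have hk1' : k₁ = 1 := by exact_mod_cast hk1
    have hk2' : k₂ = 1 := by exact_mod_cast hk2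
    rcases mul_eq_zero.1 hsq with h | h
    · refine ⟨T₁, T₂, hT₁, hT₂, ?_, ?_, hN₁ hk1', hN₂ hk2', hs'.symm, hcop, hfin⟩
      · have : (Nat.card T₁ : ℤ) = Nat.card F + 2 ^ (m + 1) + 1 := by linarith
        exact_mod_cast this
      · have : (Nat.card T₂ : ℤ) + 2 ^ (m + 1) = Nat.card F + 1 := by linarith
        exact_mod_cast this
    · refine ⟨T₂, T₁, hT₂, hT₁, ?_, ?_, hN₂ hk2', hN₁ hk1', by rw [hs', mul_comm], hcop.symm,
        fun g hg => (hfin g hg).symm⟩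
      · have : (Nat.card T₂ : ℤ) = Nat.card F + 2 ^ (m + 1) + 1 := by linarith
        exact_mod_cast this
      · have : (Nat.card T₁ : ℤ) + 2 ^ (m + 1) = Nat.card F + 1 := by linarith
        exact_mod_cast this
  · exfalso
    obtain ⟨p₃, hp₃, hp₃s⟩ := Nat.exists_prime_and_dvd hs1'
    have hp₃d : p₃ ∣ Nat.card F ^ 2 + 1 := by rw [hs']; exact hp₃s.mul_left _
    obtain ⟨T₃, hT₃, hpT₃⟩ := tor_of_prime (F := F) (m := m) hp₃ hp₃d
    have hcop13 := hT₁.cop hT₃ (hT₁.cop_s (s := Nat.card T₂ * s') (by rw [hs']; ring) hp₃ (hp₃s.mul_left _)) hpT₃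
    have hcop23 := hT₂.cop hT₃ (hT₂.cop_s (s := Nat.card T₁ * s') (by rw [hs']; ring) hp₃ (hp₃s.mul_left _)) hpT₃
    have h1 : (cc T₁).ncard + (cc T₂).ncard + (cc T₃).ncard ≤ (fpfSet F m).ncard := by
      rw [← Set.ncard_union_eq (hT₁.disj hT₂ hcop), ← Set.ncard_union_eq]
      · exact Set.ncard_le_ncard (Set.union_subset (Set.union_subset (hsub hT₁) (hsub hT₂)) (hsub hT₃))
      · rw [Set.disjoint_union_left]
        exact ⟨hT₁.disj hT₃ hcop13, hT₂.disj hT₃ hcop23⟩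
    have h2 := count_total (F := F) (m := m)
    have h3 := cc_KK_big (F := F) (m := m)
    have e1 := hT₁.cc_big
    have e2 := hT₂.cc_big
    have e3 := hT₃.cc_big
    omega

end

end CfsgL.Sz
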